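import Groth.Agent.H10Coh.FinType
import Groth.Agent.H10Coh.FinType2
import Groth.Prelude.Def_FlatMod2
import Groth.Prelude.Def_CohB1
import Mathlib.Algebra.Category.ModuleCat.Sheaf.LocallyFree
import Mathlib.LinearAlgebra.StdBasis

/-!
# Locally free modules of finite type are the finite locally free ones
-/

set_option autoImplicit false
set_option linter.style.haveILetI false
set_option backward.isDefEq.respectTransparency false
set_option backward.isDefEq.respectTransparency.types false

universe u

open CategoryTheory CategoryTheory.Limits AlgebraicGeometry Opposite TopologicalSpace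

noncomputable section

namespace Groth.Agent.H14QCoh

variable {X : Scheme.{u}}

/-- Free modules on an open read on the site over the open. -/
def overFreeIso (W : X.Opens) (I : Type u) :
    H10Coh.freeMod W.toScheme I ≅ (Scheme.Modules.overEquiv W).functor.obj
      (SheafOfModules.free (R := X.ringCatSheaf.over W) I) :=
  haveI : PreservesColimitsOfSize.{u, u} (Scheme.Modules.overEquiv W).functor :=
    (Scheme.Modules.overEquiv W).toAdjunction.leftAdjoint_preservesColimits
  SheafOfModules.mapFreeIso (Scheme.Modules.overEquiv W).functor I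
    ((Scheme.Modules.restrictUnitIso W.ι).symm ≪≫
      ((Scheme.Modules.overFunctorEquiv W).app (SheafOfModules.unit X.ringCatSheaf)).symm)

/-- The finite free module indexed by a type. -/
def freeFinIso (Y : Scheme.{u}) {I : Type u} {n : ℕ} (e : I ≃ Fin n) :
    H10Coh.freeMod Y I ≅ FlatMod.freeMod Y n :=
  (Sigma.whiskerEquiv (f := fun _ : I => Coh.structureModule Y) (g := fun _ : Fin n => Coh.structureModule Y) e
    fun _ => Iso.refl _ : (∐ fun _ : I => Coh.structureModule Y) ≅ ∐ fun _ : Fin n => Coh.structureModule Y)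

/-- An index type of a free module with finitely generated sections is finite. -/
theorem finite_index {Y : Scheme.{u}} {I : Type u} {M : Y.Modules} (e : H10Coh.freeMod Y I ≅ M) {W : Y.Opens}
    [Nontrivial Γ(Y, W)] [Module.Finite Γ(Y, W) Γ(M, W)] : Finite I := by
  classical
  obtain ⟨n, g, hg⟩ := Module.Finite.exists_fin' Γ(Y, W) Γ(M, W)
  by_contra hI
  haveI : Infinite I := not_finite_iff_infinite.1 hI
  obtain ⟨J, hJ⟩ := Infinite.exists_subset_card_eq I (n + 1)
  have hex := fun k : J => H10Coh.exists_free_desc (X := Y) (N := Coh.structureModule Y)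
    fun j : I => if j = k.1 then 𝟙 _ else 0
  choose p hp using hex
  let Φ : Γ(M, W) →ₗ[Γ(Y, W)] (J → Γ(Coh.structureModule Y, W)) :=
    { toFun := fun z k => (e.inv ≫ p k).app W z
      map_add' := fun a b => funext fun k => map_add _ a b
      map_smul' := fun r a => funext fun k => Scheme.Modules.Hom.app_smul _ r a }
  have hΦ : Function.Surjective Φ := by
    intro v
    refine ⟨∑ j : J, (show Γ(Y, W) from v j) • e.hom.app W ((H10Coh.freeIncl I j.1).app W (H10Coh.oneSec W)), ?_⟩
    ext k
    change (e.inv ≫ p k).app W _ = v k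
    rw [map_sum, Finset.sum_eq_single k]
    · rw [Scheme.Modules.Hom.app_smul, ← ConcreteCategory.comp_apply, ← Scheme.Modules.Hom.comp_app, Iso.hom_inv_id_assoc,
        ← ConcreteCategory.comp_apply, ← Scheme.Modules.Hom.comp_app, hp, if_pos rfl]
      exact mul_one (show Γ(Y, W) from v k)
    · intro j _ hj
      rw [Scheme.Modules.Hom.app_smul, ← ConcreteCategory.comp_apply, ← Scheme.Modules.Hom.comp_app, Iso.hom_inv_id_assoc,
        ← ConcreteCategory.comp_apply, ← Scheme.Modules.Hom.comp_app, hp, if_neg fun h => hj (Subtype.ext h)]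
      exact mul_zero (show Γ(Y, W) from v j)
    · simp
  have h : Fintype.card J ≤ Fintype.card (Fin n) :=
    card_le_of_surjective Γ(Y, W) ((show Γ(M, W) →ₗ[Γ(Y, W)] (J → Γ(Y, W)) from Φ) ∘ₗ g) (hΦ.comp hg)
  simp [hJ] at h

/-- Locally free modules of finite type are finite locally free. -/
theorem isFinLocFree_of_isLocallyFree (M : X.Modules) (hq : M.IsQuasicoherent)
    (hl : SheafOfModules.IsLocallyFree (R := X.ringCatSheaf) M) (hft : CohB1.IsFT M) : FlatMod.IsFinLocFree M := by
  intro x
  obtain ⟨q, hqd⟩ := hl.exists_isLocallyFreeData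
  obtain ⟨i, hi⟩ := Opens.mem_iSup.1 (((Opens.coversTop_iff _ _).1 q.coversTop).ge (Opens.mem_top x))
  let U : X.Opens := q.X i
  let I := (q.generators i).I
  haveI : IsIso (q.generators i).π := hqd.isIso i
  let e : H10Coh.freeMod U.toScheme I ≅ M.restrict U.ι :=
    overFreeIso U I ≪≫ (Scheme.Modules.overEquiv U).functor.mapIso (asIso (q.generators i).π) ≪≫
      (Scheme.Modules.overFunctorEquiv U).app M
  haveI : (M.restrict U.ι).IsQuasicoherent := Scheme.Modules.isQuasicoherent_restrictFunctor U.ι M
  obtain ⟨V, hV, hxV, hVle⟩ := exists_isAffineOpen_mem_and_subset (X := X) (x := x) (U := U) hi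
  have hUV : U.ι ''ᵁ (U.ι ⁻¹ᵁ V) = V := by
    rw [Scheme.Hom.image_preimage_eq_opensRange_inf, Scheme.Opens.opensRange_ι]
    exact inf_eq_right.2 hVle
  have hfin := H10Coh.finite_sections M hft hV
  haveI := (H10Coh.finite_restrict_iff U.ι M (U.ι ⁻¹ᵁ V)).2 (hUV.symm ▸ hfin)
  haveI : Nonempty (U.ι ⁻¹ᵁ V : U.toScheme.Opens) := ⟨⟨⟨x, hi⟩, hxV⟩⟩
  haveI : Nontrivial Γ(U.toScheme, U.ι ⁻¹ᵁ V) := Scheme.component_nontrivial U.toScheme (U.ι ⁻¹ᵁ V)
  haveI := finite_index e (W := U.ι ⁻¹ᵁ V)
  obtain ⟨n, ⟨ε⟩⟩ := Finite.exists_equiv_fin I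
  exact ⟨U, n, hi, ⟨e.symm ≪≫ freeFinIso U.toScheme ε⟩⟩

/-- Finite locally free modules are locally free of finite type. -/
theorem isLocallyFree_of_isFinLocFree (M : X.Modules) (h : FlatMod.IsFinLocFree M) :
    SheafOfModules.IsLocallyFree (R := X.ringCatSheaf) M ∧ CohB1.IsFT M := by
  choose U n hU e using h
  let J : X → Type u := fun x => ULift.{u} (Fin (n x))
  let τ : ∀ x, SheafOfModules.free (R := X.ringCatSheaf.over (U x)) (J x) ≅
      SheafOfModules.over M (U x) := fun x =>
    (Scheme.Modules.overEquiv (U x)).functor.preimageIso ((overFreeIso (U x) (J x)).symm ≪≫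
      freeFinIso (U x).toScheme Equiv.ulift ≪≫ (e x).some.symm ≪≫
      ((Scheme.Modules.overFunctorEquiv (U x)).app M).symm)
  let G : ∀ x, (SheafOfModules.over M (U x)).GeneratingSections := fun x =>
    (SheafOfModules.free.generatingSections (R := X.ringCatSheaf.over (U x)) (J x)).ofEpi (τ x).hom
  let q : SheafOfModules.LocalGeneratorsData.{u} (R := X.ringCatSheaf) M :=
    SheafOfModules.LocalGeneratorsData.mk (M := M) X U
      ((Opens.coversTop_iff _ _).2 (top_le_iff.1 fun x _ => Opens.mem_iSup.2 ⟨x, hU x⟩)) G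
  have hG : ∀ x, IsIso (G x).π := fun x => by
    rw [SheafOfModules.GeneratingSections.ofEpi_π]
    infer_instance
  haveI : q.IsLocallyFreeData := SheafOfModules.LocalGeneratorsData.IsLocallyFreeData.mk (q := q) hG
  exact ⟨q.isLocallyFree, SheafOfModules.IsFiniteType.mk (M := M)
    ⟨q, SheafOfModules.LocalGeneratorsData.IsFiniteType.mk (p := q) fun x => ⟨inferInstanceAs (Finite (J x))⟩⟩⟩

end Groth.Agent.H14QCoh
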