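import Groth.Agent.H14QCoh.Res
import Groth.Agent.H17.AffBasis.Main
import Mathlib.RingTheory.Localization.BaseChange

/-!
# Data on the affine objects: lifts of affine opens and the sheaf property on the affine basis
-/

set_option autoImplicit false
set_option linter.style.haveILetI false
set_option backward.isDefEq.respectTransparency false
set_option backward.isDefEq.respectTransparency.types false

universe w v u

open CategoryTheory CategoryTheory.Limits AlgebraicGeometry Opposite TopologicalSpace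

noncomputable section

namespace Groth.Agent.H14QCoh

variable {S : Scheme.{u}} {𝒳 : BasedCategory.{v, w} (Over S)}

lemma fnMap_resFn {ζ' ζ ξ : 𝒳.obj} (c : ζ' ⟶ ζ) (χ : ζ ⟶ ξ) {U : (StMod.sch 𝒳 ξ).Opens}
    (h : ⊤ ≤ StMod.bmap 𝒳 χ ⁻¹ᵁ U) (a : Γ(StMod.sch 𝒳 ξ, U)) :
    fnMap c (resFn χ U h a) = resFn (c ≫ χ) U (top_le_comp χ c h) a := by
  change ((StMod.bmap 𝒳 χ).appLE U ⊤ h ≫ (StMod.bmap 𝒳 c).appTop) a =
    (StMod.bmap 𝒳 (c ≫ χ)).appLE U ⊤ (top_le_comp χ c h) a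
  rw [Scheme.Hom.appTop, Scheme.Hom.app_eq_appLE]
  erw [Scheme.Hom.appLE_comp_appLE]
  simp only [StMod.bmap_comp]
  rfl

lemma resFn_congr {ζ ξ : 𝒳.obj} {χ χ' : ζ ⟶ ξ} (e : χ = χ') {U : (StMod.sch 𝒳 ξ).Opens}
    (h : ⊤ ≤ StMod.bmap 𝒳 χ ⁻¹ᵁ U) (h' : ⊤ ≤ StMod.bmap 𝒳 χ' ⁻¹ᵁ U) (a : Γ(StMod.sch 𝒳 ξ, U)) :
    resFn χ U h a = resFn χ' U h' a := by
  subst e; rfl

lemma resFn_res {ζ ξ : 𝒳.obj} (χ : ζ ⟶ ξ) {V U : (StMod.sch 𝒳 ξ).Opens} (hVU : V ≤ U)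
    (h : ⊤ ≤ StMod.bmap 𝒳 χ ⁻¹ᵁ V) (a : Γ(StMod.sch 𝒳 ξ, U)) :
    resFn χ V h ((StMod.sch 𝒳 ξ).presheaf.map (homOfLE hVU).op a) =
      resFn χ U (h.trans ((StMod.bmap 𝒳 χ).preimage_mono hVU)) a := by
  change ((StMod.sch 𝒳 ξ).presheaf.map (homOfLE hVU).op ≫ (StMod.bmap 𝒳 χ).appLE V ⊤ h) a = _
  rw [Scheme.Hom.map_appLE]
  rfl

variable (𝒳) in
/-- The objects over affine schemes. -/
abbrev AObj : Type w := {ξ : 𝒳.obj // IsAffine (StMod.sch 𝒳 ξ)}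

variable (𝒳) in
/-- Modules on the affine objects with base change maps. -/
structure AffData where
  P : AObj 𝒳 → Type u
  [instAdd : ∀ ξ, AddCommGroup (P ξ)]
  [instMod : ∀ ξ, Module (Fn 𝒳 ξ.1) (P ξ)]
  r : ∀ {ξ' ξ : AObj 𝒳} (_ : ξ'.1 ⟶ ξ.1), P ξ →+ P ξ'
  r_smul : ∀ {ξ' ξ : AObj 𝒳} (φ : ξ'.1 ⟶ ξ.1) (c : Fn 𝒳 ξ.1) (m : P ξ), r φ (c • m) = fnMap φ c • r φ m
  r_id : ∀ (ξ : AObj 𝒳) (m : P ξ), r (𝟙 ξ.1) m = m
  r_comp : ∀ {ξ'' ξ' ξ : AObj 𝒳} (ψ : ξ''.1 ⟶ ξ'.1) (φ : ξ'.1 ⟶ ξ.1) (m : P ξ), r (ψ ≫ φ) m = r ψ (r φ m)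
  bc : ∀ {ξ' ξ : AObj 𝒳} (φ : ξ'.1 ⟶ ξ.1),
    letI := (fnMap φ).toAlgebra
    letI := Module.compHom (P ξ') (fnMap φ)
    haveI : IsScalarTower (Fn 𝒳 ξ.1) (Fn 𝒳 ξ'.1) (P ξ') := .of_algebraMap_smul fun _ _ => rfl
    ∀ L : P ξ →ₗ[Fn 𝒳 ξ.1] P ξ', (∀ m, L m = r φ m) → IsBaseChange (Fn 𝒳 ξ'.1) L

attribute [instance] AffData.instAdd AffData.instMod

/-- An affine open immersion onto a basic open is a localization. -/
theorem isLocalization_of_range {X Y : Scheme.{u}} [IsAffine X] [IsAffine Y] (c : Y ⟶ X) [IsOpenImmersion c]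
    (f : Γ(X, ⊤)) (he : c.opensRange = X.basicOpen f) :
    letI := c.appTop.hom.toAlgebra
    IsLocalization.Away f Γ(Y, ⊤) := by
  let V := c.opensRange
  letI := c.appTop.hom.toAlgebra
  letI : Algebra Γ(X, ⊤) Γ(X, V) := (X.presheaf.map (homOfLE le_top : V ⟶ ⊤).op).hom.toAlgebra
  haveI : IsLocalization.Away f Γ(X, V) := (isAffineOpen_top X).isLocalization_of_eq_basicOpen f _ he
  have hle : ⊤ ≤ c ⁻¹ᵁ V := fun y _ => ⟨y, rfl⟩
  have hiso : IsIso (c.appLE V ⊤ hle) := by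
    haveI : IsIso (c.app V) := c.isIso_app V le_rfl
    have e : c ⁻¹ᵁ V = ⊤ := top_le_iff.1 hle
    haveI : IsIso (Y.presheaf.map (homOfLE hle).op) := by
      rw [show (homOfLE hle) = eqToHom e.symm from Subsingleton.elim _ _]
      infer_instance
    rw [Scheme.Hom.appLE]
    infer_instance
  let e : Γ(X, V) ≃ₐ[Γ(X, ⊤)] Γ(Y, ⊤) := AlgEquiv.ofBijective
    { toRingHom := (c.appLE V ⊤ hle).hom
      commutes' := fun r => by
        change (X.presheaf.map (homOfLE le_top : V ⟶ ⊤).op ≫ c.appLE V ⊤ hle) r = c.appTop r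
        rw [Scheme.Hom.map_appLE, Scheme.Hom.appTop, Scheme.Hom.app_eq_appLE]
        rfl }
    (haveI := hiso; ConcreteCategory.bijective_of_isIso (c.appLE V ⊤ hle))
  exact IsLocalization.isLocalization_of_algEquiv (Submonoid.powers f) e

namespace AffData

variable (D : AffData 𝒳)

lemma r_congr {ξ' ξ : AObj 𝒳} {φ φ' : ξ'.1 ⟶ ξ.1} (e : φ = φ') (m : D.P ξ) : D.r φ m = D.r φ' m := by
  rw [e]

/-- The restriction to a basic open is a localization, elementwise. -/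
theorem localize {ξ' ξ : AObj 𝒳} (φ : ξ'.1 ⟶ ξ.1) [IsOpenImmersion (StMod.bmap 𝒳 φ)] (f : Fn 𝒳 ξ.1)
    (he : (StMod.bmap 𝒳 φ).opensRange = (StMod.sch 𝒳 ξ.1).basicOpen f) :
    (∀ m, D.r φ m = 0 → ∃ n : ℕ, f ^ n • m = 0) ∧
      (∀ y, ∃ (n : ℕ) (m : D.P ξ), D.r φ m = fnMap φ f ^ n • y) ∧ IsUnit (fnMap φ f) := by
  haveI := ξ.2
  haveI := ξ'.2
  letI := (fnMap φ).toAlgebra
  letI := Module.compHom (D.P ξ') (fnMap φ)
  haveI : IsScalarTower (Fn 𝒳 ξ.1) (Fn 𝒳 ξ'.1) (D.P ξ') := .of_algebraMap_smul fun _ _ => rfl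
  haveI hl : IsLocalization.Away f (Fn 𝒳 ξ'.1) := isLocalization_of_range (StMod.bmap 𝒳 φ) f he
  let L : D.P ξ →ₗ[Fn 𝒳 ξ.1] D.P ξ' :=
    { toFun := D.r φ, map_add' := map_add _, map_smul' := fun a m => D.r_smul φ a m }
  haveI : IsLocalizedModule (Submonoid.powers f) L :=
    (isLocalizedModule_iff_isBaseChange (Submonoid.powers f) (Fn 𝒳 ξ'.1) L).2 (D.bc φ L fun _ => rfl)
  refine ⟨fun m hm => ?_, fun y => ?_, ?_⟩
  · obtain ⟨⟨_, n, rfl⟩, hn⟩ := (IsLocalizedModule.eq_zero_iff (Submonoid.powers f) L).1 hm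
    exact ⟨n, hn⟩
  · obtain ⟨⟨m, ⟨_, n, rfl⟩⟩, h⟩ := IsLocalizedModule.surj (Submonoid.powers f) L y
    refine ⟨n, m, h.symm.trans ?_⟩
    change fnMap φ (f ^ n) • y = _
    rw [map_pow]
  · exact IsLocalization.map_units (Fn 𝒳 ξ'.1) ⟨f, Submonoid.mem_powers f⟩

end AffData

variable (hp : FibCat.IsFibGrpd 𝒳.p) {ξ : 𝒳.obj}

/-- The chosen object over an affine open. -/
def lo (U : (StMod.sch 𝒳 ξ).affineOpens) : AObj 𝒳 :=
  ⟨(exists_open_lift hp ξ U.1 U.2).choose, (exists_open_lift hp ξ U.1 U.2).choose_spec.choose_spec.choose⟩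

/-- The chosen arrow over an affine open. -/
def li (U : (StMod.sch 𝒳 ξ).affineOpens) : (lo hp U).1 ⟶ ξ :=
  (exists_open_lift hp ξ U.1 U.2).choose_spec.choose

instance isOpenImmersion_li (U : (StMod.sch 𝒳 ξ).affineOpens) : IsOpenImmersion (StMod.bmap 𝒳 (li hp U)) :=
  (exists_open_lift hp ξ U.1 U.2).choose_spec.choose_spec.choose_spec.choose

lemma range_li (U : (StMod.sch 𝒳 ξ).affineOpens) : (StMod.bmap 𝒳 (li hp U)).opensRange = U.1 :=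
  (exists_open_lift hp ξ U.1 U.2).choose_spec.choose_spec.choose_spec.choose_spec

lemma li_le (U : (StMod.sch 𝒳 ξ).affineOpens) : ⊤ ≤ StMod.bmap 𝒳 (li hp U) ⁻¹ᵁ U.1 :=
  fun y _ => (range_li hp U).le ⟨y, rfl⟩

lemma li_le' {U : (StMod.sch 𝒳 ξ).affineOpens} {W : (StMod.sch 𝒳 ξ).Opens} (h : U.1 ≤ W) :
    ⊤ ≤ StMod.bmap 𝒳 (li hp U) ⁻¹ᵁ W :=
  (li_le hp U).trans ((StMod.bmap 𝒳 (li hp U)).preimage_mono h)

/-- Arrows to the object over an affine open are determined by their composite. -/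
lemma li_cancel {U : (StMod.sch 𝒳 ξ).affineOpens} {ζ : 𝒳.obj} {c c' : ζ ⟶ (lo hp U).1}
    (e : c ≫ li hp U = c' ≫ li hp U) : c = c' := by
  refine hom_ext_bmap hp (li hp U) e ?_
  rw [← cancel_mono (StMod.bmap 𝒳 (li hp U)), ← StMod.bmap_comp, ← StMod.bmap_comp, e]

lemma exists_fac {U : (StMod.sch 𝒳 ξ).affineOpens} {ζ : 𝒳.obj} (χ : ζ ⟶ ξ)
    (h : ⊤ ≤ StMod.bmap 𝒳 χ ⁻¹ᵁ U.1) : ∃ c : ζ ⟶ (lo hp U).1, c ≫ li hp U = χ := by
  have hr : Set.range (StMod.bmap 𝒳 χ) ⊆ Set.range (StMod.bmap 𝒳 (li hp U)) := by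
    rintro _ ⟨y, rfl⟩
    exact (range_li hp U).ge (h (Set.mem_univ y))
  obtain ⟨c, hc, -⟩ := exists_factor hp (li hp U) χ (IsOpenImmersion.lift _ _ hr) (IsOpenImmersion.lift_fac _ _ _)
  exact ⟨c, hc⟩

/-- The factorisation through the object over an affine open. -/
def fac {U : (StMod.sch 𝒳 ξ).affineOpens} {ζ : 𝒳.obj} (χ : ζ ⟶ ξ)
    (h : ⊤ ≤ StMod.bmap 𝒳 χ ⁻¹ᵁ U.1) : ζ ⟶ (lo hp U).1 :=
  (exists_fac hp χ h).choose

@[reassoc (attr := simp)] lemma fac_li {U : (StMod.sch 𝒳 ξ).affineOpens} {ζ : 𝒳.obj} (χ : ζ ⟶ ξ)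
    (h : ⊤ ≤ StMod.bmap 𝒳 χ ⁻¹ᵁ U.1) : fac hp χ h ≫ li hp U = χ :=
  (exists_fac hp χ h).choose_spec

namespace AffData

variable (D : AffData 𝒳) {hp}

lemma r_eq {U : (StMod.sch 𝒳 ξ).affineOpens} {ζ : AObj 𝒳} {c c' : ζ.1 ⟶ (lo hp U).1}
    (e : c ≫ li hp U = c' ≫ li hp U) (m : D.P (lo hp U)) : D.r c m = D.r c' m :=
  D.r_congr (li_cancel hp e) m

variable (hp) (ξ)

/-- The presheaf on the affine opens of an object. -/
def pre : ShB.Pre (X := StMod.sch 𝒳 ξ) (StMod.sch 𝒳 ξ).affineOpens where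
  obj U := D.P (lo hp U)
  res {U V} h m := D.r (fac hp (li hp V) (li_le' hp h)) m
  res_id U m := (D.r_eq (c' := 𝟙 _) (by simp) m).trans (D.r_id _ m)
  res_comp {U V W} hVU hWV m := by
    rw [← D.r_comp]
    exact D.r_eq (by simp) m

variable {hp ξ}

lemma fnMap_fac_li {U V : (StMod.sch 𝒳 ξ).affineOpens} (h : V.1 ≤ U.1) (a : Γ(StMod.sch 𝒳 ξ, U.1)) :
    fnMap (fac hp (li hp V) (li_le' hp h)) (resFn (li hp U) U.1 (li_le hp U) a) =
      resFn (li hp V) U.1 (li_le' hp h) a := by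
  rw [fnMap_resFn]
  exact resFn_congr (fac_li hp _ _) _ _ a

lemma res_smul_li {U V : (StMod.sch 𝒳 ξ).affineOpens} (h : V.1 ≤ U.1) {W : (StMod.sch 𝒳 ξ).Opens} (hU : U.1 ≤ W)
    (a : Γ(StMod.sch 𝒳 ξ, W)) (m : D.P (lo hp U)) :
    (D.pre hp ξ).res h (resFn (li hp U) W (li_le' hp hU) a • m) =
      resFn (li hp V) W (li_le' hp (h.trans hU)) a • (show D.P (lo hp V) from (D.pre hp ξ).res h m) := by
  change D.r _ _ = _
  rw [D.r_smul, fnMap_resFn, resFn_congr (fac_li hp _ _) _ (li_le' hp (h.trans hU))]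
  rfl

/-- The restriction to a basic open of an affine open, elementwise. -/
theorem localize_li {U V : (StMod.sch 𝒳 ξ).affineOpens} (h : V.1 ≤ U.1) (f : Γ(StMod.sch 𝒳 ξ, U.1))
    (hV : V.1 = (StMod.sch 𝒳 ξ).basicOpen f) :
    (∀ m, D.r (fac hp (li hp V) (li_le' hp h)) m = 0 →
        ∃ n : ℕ, resFn (li hp U) U.1 (li_le hp U) f ^ n • m = 0) ∧
      (∀ y, ∃ (n : ℕ) (m : D.P (lo hp U)),
        D.r (fac hp (li hp V) (li_le' hp h)) m = resFn (li hp V) U.1 (li_le' hp h) f ^ n • y) ∧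
      IsUnit (resFn (li hp V) U.1 (li_le' hp h) f) := by
  let c := fac hp (li hp V) (li_le' hp h)
  let g := StMod.bmap 𝒳 (li hp U)
  have hc : StMod.bmap 𝒳 c ≫ g = StMod.bmap 𝒳 (li hp V) := by rw [← StMod.bmap_comp, fac_li]
  haveI : IsOpenImmersion (StMod.bmap 𝒳 c ≫ g) := by rw [hc]; infer_instance
  haveI : IsOpenImmersion (StMod.bmap 𝒳 c) := IsOpenImmersion.of_comp _ g
  have hpre : (StMod.bmap 𝒳 c).opensRange = g ⁻¹ᵁ V.1 := by
    ext x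
    constructor
    · rintro ⟨y, rfl⟩
      change g (StMod.bmap 𝒳 c y) ∈ V.1
      rw [← Scheme.Hom.comp_apply, hc, ← range_li hp V]
      exact ⟨y, rfl⟩
    · intro hx
      obtain ⟨y, hy⟩ := (range_li hp V).ge hx
      refine ⟨y, g.isOpenEmbedding.injective ?_⟩
      rw [← Scheme.Hom.comp_apply, hc]
      exact hy
  have hb : (StMod.bmap 𝒳 c).opensRange =
      (StMod.sch 𝒳 (lo hp U).1).basicOpen (resFn (li hp U) U.1 (li_le hp U) f) := by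
    rw [hpre, hV, Scheme.preimage_basicOpen]
    change _ = (StMod.sch 𝒳 (lo hp U).1).basicOpen (((StMod.bmap 𝒳 (li hp U)).appLE U.1 ⊤ (li_le hp U)) f)
    rw [Scheme.Hom.appLE, CommRingCat.comp_apply, Scheme.basicOpen_res, top_inf_eq]
  obtain ⟨h1, h2, h3⟩ := D.localize c _ hb
  rw [fnMap_fac_li h] at h2 h3
  exact ⟨h1, h2, h3⟩

variable (hp ξ)

theorem isSheaf_pre : ShB.IsSheaf (D.pre hp ξ) := by
  refine H17.AffBasis.isSheaf_of_pairGlue (fun U hU => ?_) (fun U V W VW f g hV hW hVW hc hVU hWU h1 h2 => ?_)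
  · haveI : IsEmpty (StMod.sch 𝒳 (lo hp U).1) := ⟨fun y => by
      have := li_le hp U (Set.mem_univ y)
      rw [hU] at this
      exact this⟩
    haveI : Subsingleton (Fn 𝒳 (lo hp U).1) := inferInstance
    exact ⟨⟨(0 : D.P (lo hp U))⟩, ⟨fun (a b : D.P (lo hp U)) =>
      (Module.subsingleton (Fn 𝒳 (lo hp U).1) _).elim a b⟩⟩
  obtain ⟨hfi, hfs, hfu⟩ := D.localize_li (hp := hp) hVU f hV
  obtain ⟨hgi, hgs, hgu⟩ := D.localize_li (hp := hp) hWU g hW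
  obtain ⟨hki, -, -⟩ := D.localize_li (hp := hp) (h1.trans hVU) (f * g) hVW
  let σ := resFn (li hp U) U.1 (li_le hp U)
  let F := σ f
  let G := σ g
  have hcop : IsCoprime F G := by
    have hspan : Ideal.span ({f, g} : Set Γ(StMod.sch 𝒳 ξ, U.1)) = ⊤ := by
      rw [← U.2.self_le_iSup_basicOpen_iff]
      refine hc.le.trans (sup_le ?_ ?_)
      · exact hV.le.trans (le_iSup_of_le (⟨f, Or.inl rfl⟩ : ({f, g} : Set _)) le_rfl)
      · exact hW.le.trans (le_iSup_of_le (⟨g, Or.inr rfl⟩ : ({f, g} : Set _)) le_rfl)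
    obtain ⟨p, q, hpq⟩ := Ideal.mem_span_pair.1 ((Ideal.eq_top_iff_one _).1 hspan)
    exact IsCoprime.map ⟨p, q, hpq⟩ σ
  constructor
  · intro (t : D.P (lo hp U)) (t' : D.P (lo hp U)) e1 e2
    obtain ⟨n, hn⟩ := hfi (t - t') (by rw [map_sub]; exact sub_eq_zero.2 e1)
    obtain ⟨m, hm⟩ := hgi (t - t') (by rw [map_sub]; exact sub_eq_zero.2 e2)
    obtain ⟨p, q, hpq⟩ := hcop.pow (m := n) (n := m)
    change @Eq (D.P (lo hp U)) t t'
    refine sub_eq_zero.1 ?_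
    rw [← one_smul (Fn 𝒳 (lo hp U).1) (t - t'), ← hpq, add_smul, mul_smul, mul_smul, hn, hm, smul_zero, smul_zero,
      add_zero]
  · intro (a : D.P (lo hp V)) (b : D.P (lo hp W)) hab
    let rV : D.P (lo hp U) →+ D.P (lo hp V) := D.r (fac hp (li hp V) (li_le' hp hVU))
    let rW : D.P (lo hp U) →+ D.P (lo hp W) := D.r (fac hp (li hp W) (li_le' hp hWU))
    let cV := fac hp (li hp VW) (li_le' hp h1)
    let cW := fac hp (li hp VW) (li_le' hp h2)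
    have hrV : ∀ c m, rV (σ c • m) = resFn (li hp V) U.1 (li_le' hp hVU) c • rV m := fun c m =>
      D.res_smul_li hVU le_rfl c m
    have hrW : ∀ c m, rW (σ c • m) = resFn (li hp W) U.1 (li_le' hp hWU) c • rW m := fun c m =>
      D.res_smul_li hWU le_rfl c m
    obtain ⟨n₁, t₁, ht₁⟩ := hfs a
    obtain ⟨n₂, t₂, ht₂⟩ := hgs b
    let fK := resFn (li hp VW) U.1 (li_le' hp (h1.trans hVU)) f
    let gK := resFn (li hp VW) U.1 (li_le' hp (h1.trans hVU)) g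
    let rK : D.P (lo hp U) →+ D.P (lo hp VW) := D.r (fac hp (li hp VW) (li_le' hp (h1.trans hVU)))
    have hrK : ∀ c m, rK (σ c • m) = resFn (li hp VW) U.1 (li_le' hp (h1.trans hVU)) c • rK m := fun c m =>
      D.res_smul_li (h1.trans hVU) le_rfl c m
    have hK1 : rK t₁ = fK ^ n₁ • D.r cV a := by
      have e : rK t₁ = D.r cV (rV t₁) := ((D.pre hp ξ).res_comp hVU h1 t₁).symm
      rw [e, show rV t₁ = _ from ht₁, ← map_pow, ← map_pow]
      exact D.res_smul_li h1 hVU (f ^ n₁) a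
    have hK2 : rK t₂ = gK ^ n₂ • D.r cV a := by
      have e : rK t₂ = D.r cW (rW t₂) := ((D.pre hp ξ).res_comp hWU h2 t₂).symm
      have hab' : D.r cV a = D.r cW b := hab
      rw [e, show rW t₂ = _ from ht₂, hab', ← map_pow, ← map_pow]
      exact D.res_smul_li h2 hWU (g ^ n₂) b
    obtain ⟨k, hk⟩ := hki (G ^ n₂ • t₁ - F ^ n₁ • t₂) (by
      change rK _ = 0
      rw [map_sub, sub_eq_zero, show G ^ n₂ = σ (g ^ n₂) from (map_pow σ g n₂).symm,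
        show F ^ n₁ = σ (f ^ n₁) from (map_pow σ f n₁).symm, hrK, hrK, hK1, hK2, map_pow, map_pow, smul_comm])
    have key : G ^ (n₂ + k) • (F ^ k • t₁) = F ^ (n₁ + k) • (G ^ k • t₂) := by
      rw [map_mul, mul_pow, smul_sub, sub_eq_zero, smul_smul, smul_smul] at hk
      rw [smul_smul, smul_smul]
      convert hk using 2 <;> ring
    obtain ⟨p, q, hpq⟩ := hcop.pow (m := n₁ + k) (n := n₂ + k)
    refine ⟨p • (F ^ k • t₁) + q • (G ^ k • t₂), ?_, ?_⟩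
    · change rV _ = a
      refine (hfu.pow (n₁ + k)).smul_left_cancel.1 ?_
      rw [← map_pow, ← hrV, map_pow, smul_add, smul_comm (σ f ^ (n₁ + k)) p, smul_comm (σ f ^ (n₁ + k)) q, ← key,
        smul_smul p, smul_smul q, ← add_smul, hpq, one_smul, ← map_pow, hrV,
        show rV t₁ = _ from ht₁, map_pow, map_pow, smul_smul, ← pow_add, add_comm k]
    · change rW _ = b
      refine (hgu.pow (n₂ + k)).smul_left_cancel.1 ?_
      rw [← map_pow, ← hrW, map_pow, smul_add, smul_comm (σ g ^ (n₂ + k)) p, smul_comm (σ g ^ (n₂ + k)) q, key,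
        smul_smul p, smul_smul q, ← add_smul, hpq, one_smul, ← map_pow, hrW, map_pow,
        show rW t₂ = _ from ht₂, smul_smul, ← pow_add, add_comm k, map_pow]

end AffData

end Groth.Agent.H14QCoh
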