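import Groth.Agent.H14QCoh.Amitsur
import Mathlib.RingTheory.IsTensorProduct
import Mathlib.RingTheory.RingHom.FaithfullyFlat
import Mathlib.Algebra.Category.Ring.Constructions

/-!
# Base change maps between modules over two rings, elementwise
-/

set_option autoImplicit false
set_option linter.style.haveILetI false

universe u

open TensorProduct CategoryTheory CategoryTheory.Limits

noncomputable section

namespace Groth.Agent.H14QCoh

variable {A B C : Type u} [CommRing A] [CommRing B] [CommRing C]
  {M N L : Type u} [AddCommGroup M] [Module A M] [AddCommGroup N] [Module B N] [AddCommGroup L] [Module C L]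

/-- A semilinear map exhibiting the target as the base change of the source. -/
structure IsBC (σ : A →+* B) (f : M →+ N) : Prop where
  smul : ∀ (a : A) (m : M), f (a • m) = σ a • f m
  bc : letI := σ.toAlgebra
    letI := Module.compHom N σ
    haveI : IsScalarTower A B N := .of_algebraMap_smul fun _ _ => rfl
    ∀ F : M →ₗ[A] N, (∀ m, F m = f m) → IsBaseChange B F

theorem isBC_of_tensor {σ : A →+* B} {f : M →+ N} (smul : ∀ (a : A) (m : M), f (a • m) = σ a • f m)
    (h : letI := σ.toAlgebra
      ∃ e : B ⊗[A] M →ₗ[B] N, Function.Bijective e ∧ ∀ m, e (1 ⊗ₜ m) = f m) : IsBC σ f := by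
  refine ⟨smul, ?_⟩
  letI := σ.toAlgebra
  letI := Module.compHom N σ
  haveI : IsScalarTower A B N := .of_algebraMap_smul fun _ _ => rfl
  intro F hF
  obtain ⟨e, he, he1⟩ := h
  exact IsBaseChange.of_equiv (LinearEquiv.ofBijective e he) fun m => (he1 m).trans (hF m).symm

namespace IsBC

variable {σ : A →+* B} {τ : B →+* C} {f : M →+ N} {g : N →+ L}

/-- The equivalence with the tensor product. -/
theorem exists_equiv (h : IsBC σ f) :
    letI := σ.toAlgebra
    ∃ e : B ⊗[A] M ≃ₗ[B] N, ∀ b m, e (b ⊗ₜ m) = b • f m := by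
  letI := σ.toAlgebra
  letI := Module.compHom N σ
  haveI : IsScalarTower A B N := .of_algebraMap_smul fun _ _ => rfl
  let F : M →ₗ[A] N := { toFun := f, map_add' := map_add f, map_smul' := h.smul }
  exact ⟨(h.bc F fun _ => rfl).equiv, fun b m => IsBaseChange.equiv_tmul _ b m⟩

theorem induction (h : IsBC σ f) {P : N → Prop} (y : N) (zero : P 0) (add : ∀ a b, P a → P b → P (a + b))
    (smul : ∀ (b : B) (m : M), P (b • f m)) : P y := by
  letI := σ.toAlgebra
  obtain ⟨e, he⟩ := h.exists_equiv
  obtain ⟨t, rfl⟩ := e.surjective y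
  induction t using TensorProduct.induction_on with
  | zero => rwa [map_zero]
  | add a b ha hb => rw [map_add]; exact add _ _ ha hb
  | tmul b m => rw [he]; exact smul b m

/-- Semilinear maps out of a base change are determined on the image. -/
theorem hom_ext (h : IsBC σ f) {L' : Type*} [AddCommGroup L'] [Module C L'] {a b : N →+ L'} (ρ : B →+* C)
    (ha : ∀ (r : B) n, a (r • n) = ρ r • a n) (hb : ∀ (r : B) n, b (r • n) = ρ r • b n)
    (he : ∀ m, a (f m) = b (f m)) : a = b :=
  AddMonoidHom.ext fun y => h.induction (P := fun y => a y = b y) y (by simp)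
    (fun x z hx hz => by rw [map_add, map_add, hx, hz]) fun r m => by rw [ha, hb, he]

/-- Extension of a semilinear map to the base change. -/
theorem exists_lift (h : IsBC σ f) {L' : Type u} [AddCommGroup L'] [Module B L'] (a : M →+ L')
    (ha : ∀ (r : A) m, a (r • m) = σ r • a m) : ∃ l : N →ₗ[B] L', ∀ m, l (f m) = a m := by
  letI := σ.toAlgebra
  letI := Module.compHom L' σ
  haveI : IsScalarTower A B L' := .of_algebraMap_smul fun _ _ => rfl
  obtain ⟨e, he⟩ := h.exists_equiv
  let a' : M →ₗ[A] L' := { toFun := a, map_add' := map_add a, map_smul' := ha }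
  refine ⟨(a'.liftBaseChange B).comp e.symm.toLinearMap, fun m => ?_⟩
  have : e.symm (f m) = 1 ⊗ₜ m := by rw [LinearEquiv.symm_apply_eq, he, one_smul]
  rw [LinearMap.comp_apply, LinearEquiv.coe_coe, this, LinearMap.liftBaseChange_tmul, one_smul]
  rfl

theorem id (A : Type u) [CommRing A] (M : Type u) [AddCommGroup M] [Module A M] :
    IsBC (RingHom.id A) (AddMonoidHom.id M) :=
  isBC_of_tensor (fun _ _ => rfl) ⟨(TensorProduct.lid A M).toLinearMap, (TensorProduct.lid A M).bijective,
    fun m => (TensorProduct.lid_tmul m (1 : A)).trans (one_smul A m)⟩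

/-- A linear bijection after a base change is a base change. -/
theorem comp_equiv (h : IsBC σ f) {N' : Type u} [AddCommGroup N'] [Module B N'] (l : N →ₗ[B] N')
    (hl : Function.Bijective l) : IsBC σ (l.toAddMonoidHom.comp f) := by
  letI := σ.toAlgebra
  obtain ⟨e, he⟩ := h.exists_equiv
  exact isBC_of_tensor (fun a m => by simp [h.smul]) ⟨l.comp e.toLinearMap, hl.comp e.bijective,
    fun m => congrArg l ((he 1 m).trans (one_smul B (f m)))⟩

theorem comp (hf : IsBC σ f) (hg : IsBC τ g) : IsBC (τ.comp σ) (g.comp f) := by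
  refine ⟨fun a m => by simp [hf.smul, hg.smul], ?_⟩
  letI := (τ.comp σ).toAlgebra
  letI := Module.compHom L (τ.comp σ)
  letI := σ.toAlgebra
  letI := τ.toAlgebra
  letI := Module.compHom L τ
  letI := Module.compHom N σ
  haveI : IsScalarTower A B C := .of_algebraMap_eq fun _ => rfl
  haveI : IsScalarTower A B N := .of_algebraMap_smul fun _ _ => rfl
  haveI : IsScalarTower B C L := .of_algebraMap_smul fun _ _ => rfl
  haveI : IsScalarTower A C L := .of_algebraMap_smul fun _ _ => rfl
  haveI : IsScalarTower A B L := .of_algebraMap_smul fun _ _ => rfl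
  intro F hF
  let F₁ : M →ₗ[A] N := { toFun := f, map_add' := map_add f, map_smul' := hf.smul }
  let F₂ : N →ₗ[B] L := { toFun := g, map_add' := map_add g, map_smul' := hg.smul }
  have : F = (F₂.restrictScalars A).comp F₁ := LinearMap.ext hF
  rw [this]
  exact (hf.bc F₁ fun _ => rfl).comp (hg.bc F₂ fun _ => rfl)

theorem of_comp (hf : IsBC σ f) (smul : ∀ (b : B) (n : N), g (b • n) = τ b • g n)
    (hgf : IsBC (τ.comp σ) (g.comp f)) : IsBC τ g := by
  refine ⟨smul, ?_⟩
  letI := (τ.comp σ).toAlgebra
  letI := Module.compHom L (τ.comp σ)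
  letI := σ.toAlgebra
  letI := τ.toAlgebra
  letI := Module.compHom L τ
  letI := Module.compHom N σ
  haveI : IsScalarTower A B C := .of_algebraMap_eq fun _ => rfl
  haveI : IsScalarTower A B N := .of_algebraMap_smul fun _ _ => rfl
  haveI : IsScalarTower B C L := .of_algebraMap_smul fun _ _ => rfl
  haveI : IsScalarTower A C L := .of_algebraMap_smul fun _ _ => rfl
  haveI : IsScalarTower A B L := .of_algebraMap_smul fun _ _ => rfl
  intro F hF
  let F₁ : M →ₗ[A] N := { toFun := f, map_add' := map_add f, map_smul' := hf.smul }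
  refine IsBaseChange.of_comp (hf.bc F₁ fun _ => rfl) (hgf.bc ((F.restrictScalars A).comp F₁) fun m => ?_)
  exact hF (f m)

/-- Base change descends along a faithfully flat ring map. -/
theorem of_ff (hτ : τ.FaithfullyFlat) (smul : ∀ (a : A) (m : M), f (a • m) = σ a • f m) (hg : IsBC τ g)
    (hgf : IsBC (τ.comp σ) (g.comp f)) : IsBC σ f := by
  letI := σ.toAlgebra
  letI := τ.toAlgebra
  letI := (τ.comp σ).toAlgebra
  haveI : IsScalarTower A B C := .of_algebraMap_eq fun _ => rfl
  haveI : Module.FaithfullyFlat B C := hτ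
  letI := Module.compHom N σ
  haveI : IsScalarTower A B N := .of_algebraMap_smul fun _ _ => rfl
  let F : M →ₗ[A] N := { toFun := f, map_add' := map_add f, map_smul' := smul }
  let l := F.liftBaseChange B
  obtain ⟨eg, heg⟩ := hg.exists_equiv
  obtain ⟨e, he⟩ := hgf.exists_equiv
  let cb := TensorProduct.AlgebraTensorModule.cancelBaseChange A B C C M
  have key : ∀ t, eg (l.lTensor C t) = e (cb t) := by
    intro t
    induction t using TensorProduct.induction_on with
    | zero => simp
    | add x y hx hy => rw [map_add, map_add, map_add, map_add, hx, hy]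
    | tmul c s =>
      induction s using TensorProduct.induction_on with
      | zero => simp
      | add x y hx hy => rw [tmul_add, map_add, map_add, map_add, map_add, hx, hy]
      | tmul b m =>
        rw [LinearMap.lTensor_tmul, heg, TensorProduct.AlgebraTensorModule.cancelBaseChange_tmul, he]
        change c • g (b • f m) = (b • c) • g (f m)
        rw [hg.smul, Algebra.smul_def, smul_smul, mul_comm]
        rfl
  have hb : Function.Bijective (l.lTensor C) := by
    have h2 : Function.Bijective fun t => eg (l.lTensor C t) := by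
      rw [show (fun t => eg (l.lTensor C t)) = fun t => e (cb t) from funext key]
      exact e.bijective.comp cb.bijective
    exact (Function.Bijective.of_comp_iff' eg.bijective _).1 h2
  exact isBC_of_tensor smul ⟨l, (Module.FaithfullyFlat.lTensor_bijective_iff_bijective B C l).1 hb,
    fun m => (LinearMap.liftBaseChange_tmul ..).trans (one_smul B (F m))⟩

/-- A base change along a faithfully flat ring map is injective. -/
theorem injective_of_ff (h : IsBC σ f) (hσ : σ.FaithfullyFlat) : Function.Injective f := by
  letI := σ.toAlgebra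
  haveI : Module.FaithfullyFlat A B := hσ
  obtain ⟨e, he⟩ := h.exists_equiv
  intro x y hxy
  refine Module.FaithfullyFlat.tensorProduct_mk_injective (A := A) (B := B) M (e.injective ?_)
  change e (1 ⊗ₜ x) = e (1 ⊗ₜ y)
  rw [he, he, hxy]

/-- Base change of a base change along a cocartesian square of rings. -/
theorem sq {A' B' : Type u} [CommRing A'] [CommRing B'] {N Q : Type u} [AddCommGroup N] [Module A' N]
    [AddCommGroup Q] [Module B' Q] {β : A →+* B} {ρ : A →+* A'} {b' : B →+* B'} {χ : A' →+* B'} {g : N →+ Q}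
    (hpush : IsPushout (CommRingCat.ofHom β) (CommRingCat.ofHom ρ) (CommRingCat.ofHom b') (CommRingCat.ofHom χ))
    (hg : IsBC χ g) :
    letI := Module.compHom N ρ
    letI := Module.compHom Q b'
    IsBC β g := by
  letI := Module.compHom N ρ
  letI := Module.compHom Q b'
  have hw : ∀ a, b' (β a) = χ (ρ a) := fun a => congr(CommRingCat.Hom.hom $(hpush.w) a)
  letI := β.toAlgebra
  letI := ρ.toAlgebra
  letI := χ.toAlgebra
  letI := b'.toAlgebra
  letI : Algebra A B' := (χ.comp ρ).toAlgebra
  haveI : IsScalarTower A B B' := .of_algebraMap_eq fun r => (hw r).symm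
  haveI : IsScalarTower A A' B' := .of_algebraMap_eq fun _ => rfl
  haveI : IsScalarTower A A' N := .of_algebraMap_smul fun _ _ => rfl
  haveI : Algebra.IsPushout A B A' B' := CommRingCat.isPushout_iff_isPushout.1 hpush
  haveI : IsScalarTower B B' Q := .of_algebraMap_smul fun _ _ => rfl
  obtain ⟨e, he⟩ := hg.exists_equiv
  let cb := (Algebra.IsPushout.cancelBaseChange A B A' B' N).symm
  refine isBC_of_tensor (fun a n => ?_) ⟨(e.toLinearMap.restrictScalars B).comp cb.toLinearMap,
    e.bijective.comp cb.bijective, fun n => ?_⟩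
  · change g (ρ a • n) = b' (β a) • g n
    rw [hg.smul, hw]
  · have : cb ((1 : B) ⊗ₜ[A] n) = (1 : B') ⊗ₜ[A'] n := by
      rw [LinearEquiv.symm_apply_eq, Algebra.IsPushout.cancelBaseChange_tmul]
    change e (cb _) = _
    rw [this, he, one_smul]

/-- An element with equal images in the double base change comes from the base, for a faithfully flat ring map. -/
theorem exists_of_eq {Q : Type u} [AddCommGroup Q] [Module C Q] {a' b : B →+* C} {ga gb : N →+ Q}
    (h : IsBC σ f) (hσ : σ.FaithfullyFlat)
    (hpush : IsPushout (CommRingCat.ofHom σ) (CommRingCat.ofHom σ) (CommRingCat.ofHom a') (CommRingCat.ofHom b))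
    (hgb : IsBC b gb) (hga : ∀ (r : B) n, ga (r • n) = a' r • ga n) (hfe : ∀ m, ga (f m) = gb (f m))
    (s : N) (hs : ga s = gb s) : ∃ m, f m = s := by
  have hq := hgb.sq hpush
  letI := σ.toAlgebra
  haveI : Module.FaithfullyFlat A B := hσ
  letI := Module.compHom N σ
  letI := Module.compHom Q a'
  obtain ⟨θ, hθ⟩ := hq.exists_equiv
  obtain ⟨e, he⟩ := h.exists_equiv
  let eA : B ⊗[A] M →ₗ[A] N :=
    { toFun := e, map_add' := map_add e, map_smul' := fun r t => by
        rw [RingHom.id_apply, ← algebraMap_smul B r t, map_smul]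
        rfl }
  have hA : Function.Injective eA := e.injective
  obtain ⟨y, rfl⟩ := e.surjective s
  have h1 : ∀ y, θ (eA.lTensor B ((amitsurOne A B M).lTensor B y)) = ga (e y) := by
    intro y
    induction y using TensorProduct.induction_on with
    | zero => simp
    | add p q hp hq => rw [map_add, map_add, map_add, hp, hq, map_add, map_add]
    | tmul c p =>
      change θ (c ⊗ₜ e (1 ⊗ₜ p)) = ga (e (c ⊗ₜ p))
      rw [hθ, he, he, one_smul, hga, ← hfe]
      rfl
  have h2 : ∀ y, θ (eA.lTensor B ((1 : B) ⊗ₜ y)) = gb (e y) := fun y => (hθ 1 (e y)).trans (one_smul B (gb (e y)))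
  have hy : amitsurDiff A B M y = 0 := by
    have hinj : Function.Injective (eA.lTensor B) := Module.Flat.lTensor_preserves_injective_linearMap _ hA
    have := θ.injective ((h1 y).trans (hs.trans (h2 y).symm))
    change (amitsurOne A B M).lTensor B y - (1 : B) ⊗ₜ y = 0
    rw [hinj this, sub_self]
  obtain ⟨p, rfl⟩ := exists_of_amitsurDiff_eq_zero hy
  exact ⟨p, ((he 1 p).trans (one_smul B (f p))).symm⟩

/-- An element killed by a flat base change has annihilator generating the unit ideal upstairs. -/
theorem map_annihilator_eq_top (h : IsBC σ f) (hσ : σ.Flat) (m : M) (hm : f m = 0) :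
    Ideal.map σ (LinearMap.ker (LinearMap.toSpanSingleton A M m)) = ⊤ := by
  letI := σ.toAlgebra
  haveI : Module.Flat A B := hσ
  obtain ⟨e, he⟩ := h.exists_equiv
  let K := LinearMap.ker (LinearMap.toSpanSingleton A M m)
  let j : (A ⧸ K) →ₗ[A] M := K.liftQ (LinearMap.toSpanSingleton A M m) le_rfl
  have hj : Function.Injective j := LinearMap.ker_eq_bot.1 (Submodule.ker_liftQ_eq_bot _ _ _ le_rfl)
  have h0 : (1 : B) ⊗ₜ[A] (Submodule.Quotient.mk (p := K) (1 : A)) = 0 := by
    refine Module.Flat.lTensor_preserves_injective_linearMap (M := B) j hj (e.injective ?_)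
    rw [LinearMap.lTensor_tmul, map_zero, map_zero, he]
    change (1 : B) • f ((1 : A) • m) = 0
    rw [one_smul, one_smul, hm]
  have h1 := congrArg (fun t => TensorProduct.quotTensorEquivQuotSMul B K (TensorProduct.comm A B _ t)) h0
  simp only [TensorProduct.comm_tmul, map_zero] at h1
  erw [TensorProduct.quotTensorEquivQuotSMul_mk_tmul, one_smul, Submodule.Quotient.mk_eq_zero] at h1
  refine (Ideal.eq_top_iff_one _).2 (Submodule.smul_le (P := (Ideal.map σ K).restrictScalars A) |>.2
    (fun r hr c _ => ?_) h1)
  rw [Submodule.restrictScalars_mem, Algebra.smul_def]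
  exact Ideal.mul_mem_right _ _ (Ideal.mem_map_of_mem _ hr)

end IsBC

end Groth.Agent.H14QCoh
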