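import Mathlib.RingTheory.Flat.FaithfullyFlat.Algebra
import Mathlib.RingTheory.TensorProduct.Basic
import Mathlib.LinearAlgebra.TensorProduct.Associator

/-!
# The first step of the Amitsur complex of a module
-/

set_option autoImplicit false

universe u

open TensorProduct

noncomputable section

namespace Groth.Agent.H14QCoh

variable {A B P : Type u} [CommRing A] [CommRing B] [Algebra A B] [AddCommGroup P] [Module A P]

variable (A B P) in
/-- `p ↦ 1 ⊗ p`. -/
def amitsurOne : P →ₗ[A] B ⊗[A] P := TensorProduct.mk A B P 1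

variable (A B P) in
/-- `b ⊗ p ↦ b ⊗ 1 ⊗ p - 1 ⊗ b ⊗ p`. -/
def amitsurDiff : B ⊗[A] P →ₗ[A] B ⊗[A] (B ⊗[A] P) :=
  (amitsurOne A B P).lTensor B - TensorProduct.mk A B (B ⊗[A] P) 1

lemma amitsurDiff_tmul (b : B) (p : P) :
    amitsurDiff A B P (b ⊗ₜ p) = b ⊗ₜ (1 ⊗ₜ p) - 1 ⊗ₜ (b ⊗ₜ p) := rfl

variable (A B P) in
/-- The contraction in the first two factors. -/
def mulLeft (Q : Type u) [AddCommGroup Q] [Module A Q] : B ⊗[A] (B ⊗[A] Q) →ₗ[A] B ⊗[A] Q :=
  (LinearMap.mul' A B).rTensor Q ∘ₗ (TensorProduct.assoc A B B Q).symm.toLinearMap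

lemma mulLeft_tmul {Q : Type u} [AddCommGroup Q] [Module A Q] (c b : B) (q : Q) :
    mulLeft A B Q (c ⊗ₜ (b ⊗ₜ q)) = (c * b) ⊗ₜ q := rfl

/-- Elements with equal images are constants, for a faithfully flat algebra. -/
theorem exists_of_amitsurDiff_eq_zero [Module.FaithfullyFlat A B] {y : B ⊗[A] P} (hy : amitsurDiff A B P y = 0) :
    ∃ p : P, (1 : B) ⊗ₜ[A] p = y := by
  have hex : Function.Exact (amitsurOne A B P) (amitsurDiff A B P) := by
    rw [← Module.FaithfullyFlat.lTensor_exact_iff_exact A B]
    intro z
    constructor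
    · intro hz
      refine ⟨mulLeft A B P z, ?_⟩
      have key : (mulLeft A B (B ⊗[A] P)) ((amitsurDiff A B P).lTensor B z) =
          (amitsurOne A B P).lTensor B (mulLeft A B P z) - z := by
        clear hz
        induction z using TensorProduct.induction_on with
        | zero => simp
        | add a b ha hb => rw [map_add, map_add, ha, hb, map_add, map_add]; abel
        | tmul c t =>
          induction t using TensorProduct.induction_on with
          | zero => simp
          | add a b ha hb => rw [tmul_add, map_add, map_add, ha, hb, map_add, map_add]; abel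
          | tmul b p =>
            rw [LinearMap.lTensor_tmul, amitsurDiff_tmul, tmul_sub, map_sub, mulLeft_tmul, mulLeft_tmul,
              mulLeft_tmul, LinearMap.lTensor_tmul, mul_one]
            rfl
      rw [hz, map_zero] at key
      exact sub_eq_zero.1 key.symm
    · rintro ⟨w, rfl⟩
      rw [← LinearMap.comp_apply, ← LinearMap.lTensor_comp]
      have : (amitsurDiff A B P).comp (amitsurOne A B P) = 0 := LinearMap.ext fun p => by
        change amitsurDiff A B P ((1 : B) ⊗ₜ p) = 0
        rw [amitsurDiff_tmul, sub_self]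
      rw [this, LinearMap.lTensor_zero]
      rfl
  exact (hex y).1 hy

end Groth.Agent.H14QCoh
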