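import Groth.Agent.H14QCoh.Basic
import Groth.Agent.H14Fib.Yoneda
import Groth.Agent.H14Fib.FpMap
import Groth.Agent.H14Fib.Equiv
import Groth.Prelude.Def_StMod6

/-!
# The category over an object is the base change to its scheme
-/

set_option autoImplicit false
set_option linter.style.haveILetI false
set_option backward.isDefEq.respectTransparency false
set_option backward.isDefEq.respectTransparency.types false

universe u

open CategoryTheory CategoryTheory.Limits AlgebraicGeometry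

noncomputable section

namespace Groth.Agent.H14QCoh

open H14Fib

variable {S : Scheme.{u}} {𝒳 𝒴 : AlgSt.Cat S} (f : 𝒳 ⥤ᵇ 𝒴) (η : 𝒴.obj)

/-- The category over an object is fibred in groupoids. -/
theorem fibCat_fibGrpd (hp : FibCat.IsFibGrpd 𝒳.p) : FibCat.IsFibGrpd (StMod.fibCat f η).p where
  exists_lift {x V} g := by
    obtain ⟨ξ, φ, hφ⟩ := hp.exists_lift (x := x.left) g
    refine ⟨CostructuredArrow.mk (f.map φ ≫ x.hom), CostructuredArrow.homMk φ rfl, ?_⟩
    exact IsHomLift.of_fac' (StMod.fibCat f η).p _ _ (IsHomLift.domain_eq 𝒳.p g φ)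
      (IsHomLift.codomain_eq 𝒳.p g φ) (IsHomLift.fac' 𝒳.p g φ)
  isStronglyCartesian {y x} φ := by
    haveI : (StMod.fibCat f η).p.IsHomLift ((StMod.fibCat f η).p.map φ) φ := IsHomLift.map _ φ
    have hc := hp.isStronglyCartesian φ.left
    refine { universal_property' := fun {z} g ψ hψ => ?_ }
    haveI : 𝒳.p.IsHomLift (g ≫ 𝒳.p.map φ.left) ψ.left :=
      IsHomLift.of_fac' 𝒳.p _ _ (IsHomLift.domain_eq (StMod.fibCat f η).p (g ≫ (StMod.fibCat f η).p.map φ) ψ)
        (IsHomLift.codomain_eq (StMod.fibCat f η).p (g ≫ (StMod.fibCat f η).p.map φ) ψ)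
        (IsHomLift.fac' (StMod.fibCat f η).p (g ≫ (StMod.fibCat f η).p.map φ) ψ)
    let c := CategoryTheory.Functor.IsStronglyCartesian.map 𝒳.p (𝒳.p.map φ.left) φ.left (g := g) rfl ψ.left
    have hc' : c ≫ φ.left = ψ.left := CategoryTheory.Functor.IsStronglyCartesian.fac _ _ _ _ _
    refine ⟨CostructuredArrow.homMk c (by
      rw [← CostructuredArrow.w φ, ← Category.assoc, ← f.map_comp, hc']
      exact CostructuredArrow.w ψ), ⟨?_, CostructuredArrow.hom_ext _ _ hc'⟩, ?_⟩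
    · exact IsHomLift.of_fac' (StMod.fibCat f η).p _ _ (IsHomLift.domain_eq 𝒳.p g c)
        (IsHomLift.codomain_eq 𝒳.p g c) (IsHomLift.fac' 𝒳.p g c)
    · rintro d ⟨hd, hd'⟩
      haveI : 𝒳.p.IsHomLift g d.left :=
        IsHomLift.of_fac' 𝒳.p _ _ (IsHomLift.domain_eq (StMod.fibCat f η).p g d)
          (IsHomLift.codomain_eq (StMod.fibCat f η).p g d) (IsHomLift.fac' (StMod.fibCat f η).p g d)
      exact CostructuredArrow.hom_ext _ _ (CategoryTheory.Functor.IsStronglyCartesian.map_uniq 𝒳.p (𝒳.p.map φ.left) φ.left rfl ψ.left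
        d.left (congrArg CommaMorphism.left hd'))

variable {T : Over S} (y : FibCat.overCat T ⥤ᵇ 𝒴) (i : y.obj (topObj T) ≅ η)

/-- The arrow to the object of a point of the base change. -/
def fpArrow (ω : (FibCat.fp y f).obj) : f.obj ω.obj.snd ⟶ η :=
  ω.obj.iso.inv ≫ y.map (toTop ω.obj.fst) ≫ i.hom

/-- The base change mapped to the category over the object. -/
def fromFp : FibCat.fp y f ⥤ᵇ StMod.fibCat f η where
  toFunctor :=
    { obj := fun ω => CostructuredArrow.mk (fpArrow f η y i ω)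
      map := fun {ω ω'} m => CostructuredArrow.homMk m.hom.snd (by
        change f.map m.hom.snd ≫ fpArrow f η y i ω' = fpArrow f η y i ω
        have hw : y.map m.hom.fst ≫ ω'.obj.iso.hom = ω.obj.iso.hom ≫ f.map m.hom.snd := m.hom.w
        simp only [fpArrow]
        rw [← toTop_comp m.hom.fst, y.map_comp, Category.assoc, Iso.eq_inv_comp, ← reassoc_of% hw,
          Iso.hom_inv_id_assoc])
      map_id := fun _ => rfl
      map_comp := fun _ _ => rfl }
  w := (FibCat.fpSnd y f).w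

variable (hi : 𝒴.p.IsHomLift (𝟙 T) i.hom)

include hi in
lemma fpArrow_lift (ω : (FibCat.fp y f).obj) : 𝒴.p.IsHomLift ω.obj.fst.hom (fpArrow f η y i ω) := by
  have hω : 𝒴.p.IsHomLift (𝟙 ω.obj.fst.left) ω.obj.iso.hom := ω.property
  have := IsHomLift.lift_id_inv 𝒴.p ω.obj.fst.left ω.obj.iso
  have h2 : 𝒴.p.IsHomLift ω.obj.fst.hom (y.map (toTop ω.obj.fst)) :=
    @BasedFunctor.preserves_isHomLift _ _ _ _ y _ _ _ _ _ (toTop ω.obj.fst) (overCat_isHomLift (toTop ω.obj.fst))
  have h3 := homLift_comp' this (homLift_comp' h2 hi)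
  simpa [fpArrow] using h3

include hi in
theorem fromFp_isEquivOver (h𝒴 : FibCat.IsFibGrpd 𝒴.p) : FibCat.IsEquivOver (fromFp f η y i) := by
  refine (isEquivOver_iff _).2 ⟨⟨⟨fun {ω ω'} k => ?_⟩, ⟨fun {ω ω'} m n h => ?_⟩⟩, fun x => ?_⟩
  · let b : ω.obj.snd ⟶ ω'.obj.snd := k.left
    have hk : f.map b ≫ fpArrow f η y i ω' = fpArrow f η y i ω := CostructuredArrow.w k
    have e : 𝒳.p.obj ω.obj.snd = ω.obj.fst.left := (FibCat.fpSnd y f).w_obj ω
    have e' : 𝒳.p.obj ω'.obj.snd = ω'.obj.fst.left := (FibCat.fpSnd y f).w_obj ω'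
    let g : ω.obj.fst.left ⟶ ω'.obj.fst.left := eqToHom e.symm ≫ 𝒳.p.map b ≫ eqToHom e'
    have hb : 𝒳.p.IsHomLift g b := IsHomLift.of_fac _ _ _ e e' rfl
    have hfb : 𝒴.p.IsHomLift g (f.map b) := @BasedFunctor.preserves_isHomLift _ _ _ _ f _ _ _ _ g b hb
    have hg : g ≫ ω'.obj.fst.hom = ω.obj.fst.hom := by
      have h1 := homLift_comp' hfb (fpArrow_lift f η y i hi ω')
      rw [hk] at h1
      have h2 := fpArrow_lift f η y i hi ω
      exact (IsHomLift.fac 𝒴.p _ (fpArrow f η y i ω)).trans (IsHomLift.fac 𝒴.p _ (fpArrow f η y i ω)).symm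
    let a : ω.obj.fst ⟶ ω'.obj.fst := Over.homMk g hg
    have hw : y.map a ≫ ω'.obj.iso.hom = ω.obj.iso.hom ≫ f.map b := by
      have hω : 𝒴.p.IsHomLift (𝟙 ω.obj.fst.left) ω.obj.iso.hom := ω.property
      have hω' : 𝒴.p.IsHomLift (𝟙 ω'.obj.fst.left) ω'.obj.iso.hom := ω'.property
      have ha : 𝒴.p.IsHomLift g (y.map a) :=
        @BasedFunctor.preserves_isHomLift _ _ _ _ y _ _ _ _ _ a (overCat_isHomLift a)
      have h3 : 𝒴.p.IsHomLift g (y.map a ≫ ω'.obj.iso.hom) := by simpa using homLift_comp' ha hω'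
      have h4 : 𝒴.p.IsHomLift g (ω.obj.iso.hom ≫ f.map b) := by simpa using homLift_comp' hω hfb
      have h5 := fpArrow_lift f η y i hi ω'
      have := sc_of_fibGrpd h𝒴 ω'.obj.fst.hom (fpArrow f η y i ω')
      refine CategoryTheory.Functor.IsStronglyCartesian.ext 𝒴.p ω'.obj.fst.hom (fpArrow f η y i ω') g ?_
      rw [Category.assoc, Category.assoc, hk]
      simp only [fpArrow, Iso.hom_inv_id_assoc]
      rw [← toTop_comp a, y.map_comp, Category.assoc]
    exact ⟨fpHom a b hw, CostructuredArrow.hom_ext _ _ rfl⟩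
  · have h2 : m.hom.snd = n.hom.snd := congrArg CommaMorphism.left h
    refine fp_hom_ext (Over.OverMorphism.ext ?_) h2
    have key := fun k : ω ⟶ ω' => Functor.congr_hom (FibCat.fpSnd y f).w k
    have := key m
    have hn := key n
    change 𝒳.p.map m.hom.snd = _ at this
    change 𝒳.p.map n.hom.snd = _ at hn
    rw [h2, hn] at this
    exact ((cancel_mono _).1 ((cancel_epi _).1 this)).symm
  · let α : f.obj x.left ⟶ η := x.hom
    have hx : 𝒳.p.obj x.left = 𝒳.p.obj x.left := rfl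
    have hT : 𝒴.p.obj η = T := IsHomLift.codomain_eq 𝒴.p (𝟙 T) i.hom
    let h : 𝒳.p.obj x.left ⟶ T := eqToHom (f.w_obj x.left).symm ≫ 𝒴.p.map α ≫ eqToHom hT
    have hα : 𝒴.p.IsHomLift h α := IsHomLift.of_fac _ _ _ (f.w_obj x.left) hT rfl
    let t : (FibCat.overCat T).obj := Over.mk h
    have hi' := IsHomLift.lift_id_inv 𝒴.p T i
    have hy : 𝒴.p.IsHomLift h (y.map (toTop t)) :=
      @BasedFunctor.preserves_isHomLift _ _ _ _ y _ _ _ _ _ (toTop t) (overCat_isHomLift (toTop t))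
    have hαi : 𝒴.p.IsHomLift h (α ≫ i.inv) := by simpa using homLift_comp' hα hi'
    have := sc_of_fibGrpd h𝒴 h (α ≫ i.inv)
    let χ : y.obj t ⟶ f.obj x.left := CategoryTheory.Functor.IsStronglyCartesian.map 𝒴.p h (α ≫ i.inv) (g := 𝟙 (𝒳.p.obj x.left))
      (Category.id_comp h).symm (y.map (toTop t))
    have hχ : 𝒴.p.IsHomLift (𝟙 (𝒳.p.obj x.left)) χ := CategoryTheory.Functor.IsStronglyCartesian.map_isHomLift _ _ _ _ _
    have hχe : χ ≫ α ≫ i.inv = y.map (toTop t) := CategoryTheory.Functor.IsStronglyCartesian.fac _ _ _ _ _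
    have := isIso_of_fibGrpd h𝒴 (𝟙 (𝒳.p.obj x.left)) χ
    let ω : (FibCat.fp y f).obj := ⟨{ fst := t, snd := x.left, iso := asIso χ }, hχ⟩
    have hω : fpArrow f η y i ω = α := by
      change inv χ ≫ y.map (toTop t) ≫ i.hom = α
      rw [← hχe]
      simp
    refine ⟨ω, CostructuredArrow.isoMk (Iso.refl _) (by
      change f.map (𝟙 x.left) ≫ x.hom = fpArrow f η y i ω
      rw [hω, f.map_id, Category.id_comp]), ?_⟩
    exact IsHomLift.of_fac' (StMod.fibCat f η).p _ _ rfl rfl (by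
      change 𝒳.p.map (𝟙 x.left) = _
      simp
      rfl)

end Groth.Agent.H14QCoh
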