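import Groth.Agent.H14QCoh.QCStack
import Groth.Agent.H14QCoh.FibCat
import Groth.Agent.H14AlgSt.DiagCalc
import Groth.Agent.H14AlgSt.Invariance
import Groth.Agent.H14AlgSt.Noeth

/-!
# Atlases of the categories over objects with affine schemes
-/

set_option autoImplicit false
set_option linter.style.haveILetI false
set_option backward.isDefEq.respectTransparency false
set_option backward.isDefEq.respectTransparency.types false

universe u

open CategoryTheory CategoryTheory.Limits AlgebraicGeometry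

noncomputable section

namespace Groth.Agent.H14QCoh

open H14Fib H14AlgSt H14Stk

variable {S : Scheme.{u}}

theorem repWith_qc_overMap {U V : Over S} (c : U ⟶ V) [QuasiCompact c.left] :
    AlgSt.RepByAlgSpWith AlgSp.IsQuasiCompactMor (AlgSt.overMap c) := by
  have hr : AlgSp.RepWith @QuasiCompact ((AlgSp.yon S).map c) :=
    (AlgSp.repWith_yon_map_iff @QuasiCompact c).2 inferInstance
  have h : AlgSt.RepByAlgSpWith AlgSp.IsQuasiCompactMor (AlgSt.ofSpMap ((AlgSp.yon S).map c)) :=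
    repWith_ofSpMap_of_representable _ _ hr.rep fun _ _ _ _ _ sq =>
      H12AlgSp.isQuasiCompactMor_of_repWith (AlgSp.IsAlgSpace.yon_obj _) (AlgSp.IsAlgSpace.yon_obj _)
        (H12AlgSp.repWith_of_isPullback sq hr)
  refine repWith_of_iso (mkIso (fun s => Iso.refl _)
      (fun {_ _} φ => (Category.comp_id _).trans ((Category.id_comp _).trans
        (Over.OverMorphism.ext rfl)).symm)
      (fun s => IsHomLift.id rfl) :
    BasedFunctor.comp (BasedFunctor.comp (AlgSt.ofOverCat U) (AlgSt.ofSpMap ((AlgSp.yon S).map c)))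
      (AlgSt.toOverCat V) ≅ AlgSt.overMap c) ?_
  exact (repWith_comp_equiv_iff (toOverCat_isEquivOver _)).2
    ((repWith_equiv_comp_iff (ofOverCat_isEquivOver U)).1 h)

variable {𝒳 𝒴 : AlgSt.Cat S}

/-- The category over an object with affine scheme has an affine chart with quasi-compact pairs of points. -/
theorem exists_qc_chart_fibCat (h𝒳 : AlgSt.IsAlgStack Scheme.fppfPrecoverage 𝒳)
    (h𝒴 : AlgSt.IsAlgStack Scheme.fppfPrecoverage 𝒴) (f : 𝒳 ⥤ᵇ 𝒴)
    (hfqc : AlgSt.IsQuasiCompactMor Scheme.fppfPrecoverage f) (hfqs : AlgSt.IsQuasiSeparatedMor f)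
    (η : 𝒴.obj) (hη : IsAffine (StMod.sch 𝒴 η)) :
    ∃ (U : Over S) (x : FibCat.overCat U ⥤ᵇ StMod.fibCat f η), IsAffine U.left ∧
      AlgSt.RepByAlgSpWith (AlgSp.LocP @Smooth) x ∧ AlgSt.RepByAlgSpWith AlgSp.IsSurjectiveMor x ∧
      AlgSt.IsQuasiCompact (FibCat.fp x x) := by
  have := isFibered_of_fibGrpd h𝒴.isStack.1
  obtain ⟨y, i, -, hi⟩ := exists_fromOver (𝒳 := 𝒴) (x := η) rfl
  let T : Over S := 𝒴.p.obj η
  haveI : IsAffine T.left := hη
  have hT := isAlgStack_overCat T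
  have h𝒲 := isAlgStack_fp' hT h𝒳 h𝒴 y f
  obtain ⟨U, x, hU, hx, hxs⟩ := hfqc _ hT (isQuasiCompact_overCat T) y
  have hB := fromFp_isEquivOver f η y i hi h𝒴.isStack.1
  have hU' := isAlgStack_overCat U
  obtain ⟨c, ⟨j⟩⟩ := exists_overMap_iso (BasedFunctor.comp x (FibCat.fpFst y f))
  haveI : IsAffine U.left := hU
  have hcomp : AlgSt.IsQuasiCompactMor Scheme.fppfPrecoverage (BasedFunctor.comp x (FibCat.fpFst y f)) :=
    isQCMor_of_repWith hU' hT (repWith_of_iso j.symm (repWith_qc_overMap c))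
  have hΔ : AlgSt.RepByAlgSpWith AlgSp.IsQuasiCompactMor (FibCat.diag (FibCat.fpFst y f)) :=
    repWith_mono (fun _ _ _ h => h.1) (repWith_diag_fpFst y hfqs)
  have hxq := repWith_of_isQCMor hU' h𝒲 (repByAlgSp1_of_with hx) (isQCMor_cancel hU' h𝒲 hT hcomp hΔ)
  let x' := BasedFunctor.comp x (fromFp f η y i)
  have h𝒵 := (isAlgStack_iff _ hB).1 h𝒲
  have hx'q := (repWith_comp_equiv_iff hB).2 hxq
  exact ⟨U, x', hU, (repWith_comp_equiv_iff hB).2 hx, (repWith_comp_equiv_iff hB).2 hxs,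
    isQCMor_of_repWith hU' h𝒵 hx'q _ hU' (isQuasiCompact_overCat U) x'⟩

/-- The category over an object with affine scheme has an atlas on affine objects. -/
theorem nonempty_atlas_fibCat (h𝒳 : AlgSt.IsAlgStack Scheme.fppfPrecoverage 𝒳)
    (h𝒴 : AlgSt.IsAlgStack Scheme.fppfPrecoverage 𝒴) (f : 𝒳 ⥤ᵇ 𝒴)
    (hfqc : AlgSt.IsQuasiCompactMor Scheme.fppfPrecoverage f) (hfqs : AlgSt.IsQuasiSeparatedMor f)
    (η : 𝒴.obj) (hη : IsAffine (StMod.sch 𝒴 η)) : Nonempty (Atlas (StMod.fibCat f η)) := by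
  obtain ⟨U, x, hU, hx, hxs, hR⟩ := exists_qc_chart_fibCat h𝒳 h𝒴 f hfqc hfqs η hη
  exact nonempty_atlas (fibCat_fibGrpd f η h𝒳.isStack.1) hx hxs hR

end Groth.Agent.H14QCoh
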