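import Groth.Agent.H14QCoh.AtlasF
import Groth.Agent.H14QCoh.FibAtlas
import Groth.Agent.H14AlgSt.ReducedSub

/-!
# Existence of atlases with flat transition arrows and covered parallel pairs
-/

set_option autoImplicit false
set_option linter.style.haveILetI false
set_option backward.isDefEq.respectTransparency false
set_option backward.isDefEq.respectTransparency.types false

universe u

open CategoryTheory CategoryTheory.Limits AlgebraicGeometry

noncomputable section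

namespace Groth.Agent.H14QCoh

open H14Fib H14AlgSt H14Stk

variable {S : Scheme.{u}} {𝒳 𝒴 : AlgSt.Cat S}

/-- Functors over the base preserve flatness of the underlying morphisms. -/
lemma flat_map (F : 𝒳 ⥤ᵇ 𝒴) {z' z : 𝒳.obj} {φ : z' ⟶ z} (h : Flat (StMod.bmap 𝒳 φ)) :
    Flat (StMod.bmap 𝒴 (F.map φ)) := by
  have e : StMod.bmap 𝒴 (F.map φ) =
      eqToHom (StMod.sch_obj_eq F z') ≫ StMod.bmap 𝒳 φ ≫ eqToHom (StMod.sch_obj_eq F z).symm := by
    have h1 := StMod.bmap_map_comm F φ rfl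
    rw [← cancel_mono (eqToHom (StMod.sch_obj_eq F z)), Category.assoc, Category.assoc, h1]
    simp
  rw [e]
  infer_instance

/-- Isomorphisms are flat. -/
lemma flat_iso {z' z : 𝒳.obj} (e : z' ≅ z) : Flat (StMod.bmap 𝒳 e.hom) := by
  haveI : IsIso (StMod.bmap 𝒳 e.hom) := inferInstanceAs (IsIso ((𝒳.p ⋙ Over.forget S).map e.hom))
  infer_instance

/-- The top arrow of a smooth map of charts is flat. -/
lemma flat_toTop_of_smooth {A U : Over S} (F : FibCat.overCat A ⥤ᵇ FibCat.overCat U)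
    (hF : AlgSt.RepByAlgSpWith (AlgSp.LocP @Smooth) F) :
    Flat (StMod.bmap (FibCat.overCat U) (toTop (F.obj (topObj A)))) := by
  obtain ⟨h, ⟨j⟩⟩ := exists_overMap_iso F
  haveI : Smooth h.left := smooth_of_repWith_overMap h (repWith_of_iso j hF)
  let i := appIso j (topObj A)
  change Flat (F.obj (topObj A)).hom.left
  rw [← Over.w i.hom]
  change Flat (i.hom.left.left ≫ 𝟙 A.left ≫ h.left)
  haveI : IsIso i.hom.left.left :=
    inferInstanceAs (IsIso ((Over.forget U ⋙ Over.forget S).map i.hom))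
  exact MorphismProperty.comp_mem @Flat i.hom.left.left (𝟙 A.left ≫ h.left) inferInstance
    (MorphismProperty.comp_mem @Flat (𝟙 A.left) h.left inferInstance ((smooth_le_flat : (@Smooth : MorphismProperty Scheme.{u}) ≤ @Flat) _ _ h.left ‹_›))

/-- A chart with quasi-compact pairs of points gives an atlas with flat transition arrows. -/
theorem nonempty_atlasF {𝒵 : AlgSt.Cat S} {U : Over S} (h : FibCat.IsFibGrpd 𝒵.p) [IsAffine U.left]
    {x : FibCat.overCat U ⥤ᵇ 𝒵} (hx : AlgSt.RepByAlgSpWith (AlgSp.LocP @Smooth) x)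
    (hxs : AlgSt.RepByAlgSpWith AlgSp.IsSurjectiveMor x) (hR : AlgSt.IsQuasiCompact (FibCat.fp x x)) :
    Nonempty (AtlasF 𝒵) := by
  obtain ⟨V, r, hV, hr, hrs⟩ := hR
  let ω := r.obj (topObj V)
  let p₁ := FibCat.fpFst x x
  let p₂ := FibCat.fpSnd x x
  let y := x.obj ω.obj.fst
  let a : y ⟶ x.obj (topObj U) := x.map (toTop ω.obj.fst)
  let b : y ⟶ x.obj (topObj U) := ω.obj.iso.hom ≫ x.map (toTop ω.obj.snd)
  have hV' := fibGrpd_overCat V
  have hU' := fibGrpd_overCat U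
  have hR := fp_fibGrpd (F := x) (G := x) hU' hU' h
  have hP := fp_fibGrpd (F := r) (G := r) hV' hV' hR
  have hsU : StMod.sch 𝒵 (x.obj (topObj U)) = U.left := congrArg (fun t => t.left) (x.w_obj (topObj U))
  have hsω : StMod.sch 𝒵 y = V.left :=
    (congrArg (fun t => t.left) (x.w_obj ω.obj.fst)).trans (congrArg (fun t => t.left) (r.w_obj (topObj V)))
  have hfa : Flat (StMod.bmap 𝒵 a) := flat_map x (flat_toTop_of_smooth (BasedFunctor.comp r p₁)
    (repWith_locP_comp H12AlgSp.etLocal_smooth hV' hR hr (repWith_fpFst x hx)))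
  have hfb : Flat (StMod.bmap 𝒵 b) := flat_comp (flat_iso ω.obj.iso) (flat_map x
    (flat_toTop_of_smooth (BasedFunctor.comp r p₂)
      (repWith_locP_comp H12AlgSp.etLocal_smooth hV' hR hr (repWith_fpSnd x hx))))
  refine ⟨{
    x := x.obj (topObj U)
    y := y
    a := a
    b := b
    affx := hsU ▸ ‹IsAffine U.left›
    affy := hsω ▸ hV
    cov := fun ξ hξ => exists_cov_lift h hx hxs ξ hξ
    cov₂ := exists_cov₂_chart h hr hrs
    flata := hfa
    flatb := hfb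
    cov₃ := ?_ }⟩
  intro ξ c c' hca hcb p
  -- the two points of `V`
  have hpy : 𝒵.p.obj y = V := (x.w_obj ω.obj.fst).trans (r.w_obj (topObj V))
  let gc : 𝒵.p.obj ξ.1 ⟶ V := 𝒵.p.map c ≫ eqToHom hpy
  let gc' : 𝒵.p.obj ξ.1 ⟶ V := 𝒵.p.map c' ≫ eqToHom hpy
  let s : (FibCat.overCat V).obj := Over.mk gc
  let s' : (FibCat.overCat V).obj := Over.mk gc'
  -- the arrow of `𝒵` under an object of `V`
  let dy : ∀ t : (FibCat.overCat V).obj, x.obj (r.obj t).obj.fst ⟶ y := fun t =>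
    x.map (p₁.map (r.map (toTop t)))
  have dy_a : ∀ t, dy t ≫ a = x.map (toTop (r.obj t).obj.fst) := fun t => by
    rw [← x.map_comp]
    exact congrArg x.toFunctor.map (toTop_comp _)
  have dy_b : ∀ t, dy t ≫ b = (r.obj t).obj.iso.hom ≫ x.map (toTop (r.obj t).obj.snd) := fun t => by
    have w : x.map (r.map (toTop t)).hom.fst ≫ ω.obj.iso.hom =
        (r.obj t).obj.iso.hom ≫ x.map (r.map (toTop t)).hom.snd := (r.map (toTop t)).hom.w
    change x.map (r.map (toTop t)).hom.fst ≫ ω.obj.iso.hom ≫ x.map (toTop ω.obj.snd) = _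
    rw [reassoc_of% w, ← x.map_comp, toTop_comp]
  -- comparison with `ξ`
  have vert : ∀ (k : ξ.1 ⟶ y) (t : (FibCat.overCat V).obj), t = Over.mk (𝒵.p.map k ≫ eqToHom hpy) →
      ∃ χ : x.obj (r.obj t).obj.fst ⟶ ξ.1, χ ≫ k = dy t ∧
        ∃ e : StMod.sch 𝒵 (x.obj (r.obj t).obj.fst) = StMod.sch 𝒵 ξ.1, StMod.bmap 𝒵 χ = eqToHom e := by
    intro k t ht
    subst ht
    let t : (FibCat.overCat V).obj := Over.mk (𝒵.p.map k ≫ eqToHom hpy)
    have e : 𝒵.p.obj (x.obj (r.obj t).obj.fst) = 𝒵.p.obj ξ.1 :=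
      (x.w_obj (r.obj t).obj.fst).trans (r.w_obj t)
    have hdy : 𝒵.p.IsHomLift t.hom (dy t) :=
      @BasedFunctor.preserves_isHomLift _ _ _ _ x _ _ _ _ _ _
        (@BasedFunctor.preserves_isHomLift _ _ _ _ p₁ _ _ _ _ _ _
          (@BasedFunctor.preserves_isHomLift _ _ _ _ r _ _ _ _ _ _ (overCat_isHomLift (toTop t))))
    obtain ⟨χ, hχ, hχb⟩ := exists_factor h k (dy t) (eqToHom (congrArg (fun T => T.left) e)) (by
      have := congrArg (fun m => m.left) (IsHomLift.fac' 𝒵.p t.hom (dy t))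
      refine Eq.trans ?_ this.symm
      simp [t, StMod.bmap])
    exact ⟨χ, hχ, _, hχb⟩
  obtain ⟨χ, hχ, eχ, hχb⟩ := vert c s rfl
  obtain ⟨χ', hχ', eχ', hχb'⟩ := vert c' s' rfl
  have hs : (r.obj s).obj.fst.left = (r.obj s').obj.fst.left := (r.w_obj s).trans (r.w_obj s').symm
  -- the components of the comparison of the two points
  have hfst : x.map (toTop (r.obj s).obj.fst) = χ ≫ c ≫ a := by rw [← dy_a, ← hχ, Category.assoc]
  have hfst' : x.map (toTop (r.obj s').obj.fst) = χ' ≫ c' ≫ a := by rw [← dy_a, ← hχ', Category.assoc]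
  have hsnd : (r.obj s).obj.iso.hom ≫ x.map (toTop (r.obj s).obj.snd) = χ ≫ c ≫ b := by
    rw [← dy_b, ← hχ, Category.assoc]
  have hsnd' : (r.obj s').obj.iso.hom ≫ x.map (toTop (r.obj s').obj.snd) = χ' ≫ c' ≫ b := by
    rw [← dy_b, ← hχ', Category.assoc]
  obtain ⟨κ, hκ, hκb⟩ := exists_factor h χ' χ (eqToHom (eχ.trans eχ'.symm)) (by rw [hχb, hχb']; simp)
  have full : ∀ {u u' : (FibCat.overCat U).obj} (k : x.obj u ⟶ x.obj u'),
      x.map (toTop u) = k ≫ x.map (toTop u') → ∃ i : u ⟶ u', x.map i = k := by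
    intro u u' k hk
    let g : StMod.sch (FibCat.overCat U) u ⟶ StMod.sch (FibCat.overCat U) u' :=
      eqToHom (StMod.sch_obj_eq x u).symm ≫ StMod.bmap 𝒵 k ≫ eqToHom (StMod.sch_obj_eq x u')
    obtain ⟨i, hi, hib⟩ := exists_factor hU' (toTop u') (toTop u) g (by
      rw [← cancel_epi (eqToHom (StMod.sch_obj_eq x u)), ← StMod.bmap_map_comm x (toTop u) rfl, hk,
        StMod.bmap_comp]
      simp [g, StMod.bmap_map_comm x (toTop u') rfl])
    refine ⟨i, hom_ext_bmap h (x.map (toTop u')) (by rw [← x.map_comp, hi, hk]) ?_⟩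
    rw [← cancel_mono (eqToHom (StMod.sch_obj_eq x u')), StMod.bmap_map_comm x i rfl, hib]
    simp [g]
  obtain ⟨i₁, hi₁⟩ := full κ (by rw [hfst, hfst', ← hκ, Category.assoc, hca])
  obtain ⟨i₂, hi₂⟩ := full ((r.obj s).obj.iso.inv ≫ κ ≫ (r.obj s').obj.iso.hom) (by
    rw [Category.assoc, Category.assoc, hsnd', ← hcb, reassoc_of% hκ, ← hsnd, Iso.inv_hom_id_assoc])
  let θ₁ : r.obj s ⟶ r.obj s' := fpHom i₁ i₂ (by rw [hi₁, hi₂, Iso.hom_inv_id_assoc])
  have hθv : (FibCat.fp x x).p.IsHomLift (𝟙 (𝒵.p.obj ξ.1)) θ₁ := by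
    refine IsHomLift.of_fac' _ _ _ (r.w_obj s) (r.w_obj s') (Over.OverMorphism.ext ?_)
    change (StMod.bmap (FibCat.overCat U) i₁ : StMod.sch (FibCat.overCat U) _ ⟶ _) = _
    have h1 := StMod.bmap_map_comm x i₁ rfl
    rw [hi₁, hκb] at h1
    rw [← cancel_epi (eqToHom (StMod.sch_obj_eq x (r.obj s).obj.fst)), ← h1]
    simp
  haveI : IsIso θ₁ := isIso_of_fibGrpd hR (𝟙 (𝒵.p.obj ξ.1)) θ₁
  let ω₀ : (FibCat.fp r r).obj := ⟨{ fst := s, snd := s', iso := asIso θ₁ }, hθv⟩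
  have hω₀ : IsAffine (StMod.sch (FibCat.fp r r) ω₀) := ξ.2
  -- an atlas of the pairs
  obtain ⟨-, -, A, -, α, -, -, -, -, hα, hαs, -, -⟩ :=
    exists_atlas_of_rep (f := r) r (repByAlgSp1_of_with hr V r)
  obtain ⟨ω', φ', hφ', ⟨m⟩⟩ := exists_cov_lift hP hα hαs ω₀ hω₀
  let q₁ := FibCat.fpFst r r
  let Ψ : FibCat.fp r r ⥤ᵇ 𝒵 := BasedFunctor.comp q₁ (BasedFunctor.comp r (BasedFunctor.comp p₁ x))
  let z₀ := α.obj (topObj A)
  let d₀ : Ψ.obj z₀ ⟶ y := dy z₀.obj.fst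
  let d₀' : Ψ.obj z₀ ⟶ y := x.map z₀.obj.iso.hom.hom.fst ≫ dy z₀.obj.snd
  have hd : Flat (StMod.bmap 𝒵 d₀) := flat_map x (flat_map p₁ (flat_map r
    (flat_toTop_of_smooth (BasedFunctor.comp α q₁)
      (repWith_locP_comp H12AlgSp.etLocal_smooth (fibGrpd_overCat A) hP hα (repWith_fpFst r hr)))))
  have hda : d₀ ≫ a = d₀' ≫ a := by
    rw [dy_a, Category.assoc, dy_a, ← x.map_comp, toTop_comp]
    rfl
  have hdb : d₀ ≫ b = d₀' ≫ b := by
    have w : x.map z₀.obj.iso.hom.hom.fst ≫ (r.obj z₀.obj.snd).obj.iso.hom =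
        (r.obj z₀.obj.fst).obj.iso.hom ≫ x.map z₀.obj.iso.hom.hom.snd := z₀.obj.iso.hom.hom.w
    rw [dy_b, Category.assoc, dy_b, reassoc_of% w, ← x.map_comp, toTop_comp]
  have dy_comp : ∀ {t t' : (FibCat.overCat V).obj} (k : t ⟶ t'),
      x.map (r.map k).hom.fst ≫ dy t' = dy t := fun {t t'} k => by
    change x.map (p₁.map (r.map k)) ≫ x.map (p₁.map (r.map (toTop t'))) = x.map (p₁.map (r.map (toTop t)))
    rw [← x.map_comp, ← p₁.map_comp, ← r.map_comp, toTop_comp]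
  let φ : Ψ.obj ω' ⟶ ξ.1 := Ψ.map φ' ≫ χ
  have hcd : φ ≫ c = Ψ.map m ≫ d₀ := by
    rw [Category.assoc, hχ]
    exact (dy_comp φ'.hom.fst).trans (dy_comp m.hom.fst).symm
  have hcd' : φ ≫ c' = Ψ.map m ≫ d₀' := by
    have w₀ : x.map (r.map φ'.hom.fst).hom.fst ≫ x.map i₁ =
        x.map ω'.obj.iso.hom.hom.fst ≫ x.map (r.map φ'.hom.snd).hom.fst := by
      rw [← x.map_comp, ← x.map_comp]
      exact congrArg (fun k : r.obj ω'.obj.fst ⟶ r.obj s' => x.map k.hom.fst) φ'.hom.w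
    have w₁ : x.map (r.map m.hom.fst).hom.fst ≫ x.map z₀.obj.iso.hom.hom.fst =
        x.map ω'.obj.iso.hom.hom.fst ≫ x.map (r.map m.hom.snd).hom.fst := by
      rw [← x.map_comp, ← x.map_comp]
      exact congrArg (fun k : r.obj ω'.obj.fst ⟶ r.obj z₀.obj.snd => x.map k.hom.fst) m.hom.w
    rw [Category.assoc, ← hκ, Category.assoc, hχ', ← hi₁]
    refine ((Category.assoc _ _ _).symm.trans (congrArg (· ≫ dy s') w₀)).trans ?_
    refine Eq.trans ?_ (((congrArg (· ≫ dy z₀.obj.snd) w₁).symm.trans (Category.assoc _ _ _)))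
    rw [Category.assoc, Category.assoc, dy_comp, dy_comp]
  -- an affine neighbourhood
  have hschΨ : ∀ {u u' : (FibCat.fp r r).obj} (k : u' ⟶ u), StMod.bmap 𝒵 (Ψ.map k) =
      eqToHom (StMod.sch_obj_eq Ψ u') ≫ StMod.bmap (FibCat.fp r r) k ≫ eqToHom (StMod.sch_obj_eq Ψ u).symm :=
    fun {u u'} k => by
    rw [← cancel_mono (eqToHom (StMod.sch_obj_eq Ψ u)), StMod.bmap_map_comm Ψ k rfl]
    simp
  have hφfl : Flat (StMod.bmap 𝒵 φ) := flat_comp (flat_map Ψ hφ'.2.1) (by rw [hχb]; infer_instance)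
  have hφs : Surjective (StMod.bmap 𝒵 φ) := by
    haveI := hφ'.2.2
    rw [StMod.bmap_comp, hschΨ, hχb]
    infer_instance
  obtain ⟨q, hq⟩ := hφs.surj p
  obtain ⟨W, hW, hqW, -⟩ :=
    exists_isAffineOpen_mem_and_subset (x := StMod.bmap 𝒵 (Ψ.map m) q) (U := ⊤) trivial
  obtain ⟨W', hW', hqW', hsub⟩ :=
    exists_isAffineOpen_mem_and_subset (x := q) (U := StMod.bmap 𝒵 (Ψ.map m) ⁻¹ᵁ W) hqW
  obtain ⟨z, j, hzA, hjI, hjR⟩ := exists_open_lift h (Ψ.obj z₀) W hW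
  obtain ⟨ξ', k, hξA, hkI, hkR⟩ := exists_open_lift h (Ψ.obj ω') W' hW'
  have hrange : Set.range (StMod.bmap 𝒵 k ≫ StMod.bmap 𝒵 (Ψ.map m)) ⊆ Set.range (StMod.bmap 𝒵 j) := by
    rintro _ ⟨w, rfl⟩
    exact hjR.ge (hsub (hkR.le ⟨w, rfl⟩))
  obtain ⟨e, he, -⟩ := exists_factor h j (k ≫ Ψ.map m) (IsOpenImmersion.lift _ _ hrange)
    ((IsOpenImmersion.lift_fac _ _ _).trans (StMod.bmap_comp _ _).symm)
  obtain ⟨q', hq'⟩ := hkR.ge hqW'
  refine ⟨⟨ξ', hξA⟩, ⟨z, hzA⟩, k ≫ φ, e, j ≫ d₀, j ≫ d₀', flat_comp inferInstance hφfl, ⟨q', ?_⟩,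
    flat_comp inferInstance hd, ?_, ?_, ?_, ?_⟩
  · rw [StMod.bmap_comp, Scheme.Hom.comp_apply, hq', hq]
  · rw [Category.assoc, hcd, reassoc_of% he]
  · rw [Category.assoc, hcd', reassoc_of% he]
  · rw [Category.assoc, Category.assoc, hda]
  · rw [Category.assoc, Category.assoc, hdb]

/-- The category over an object with affine scheme has an atlas with flat transition arrows. -/
theorem nonempty_atlasF_fibCat (h𝒳 : AlgSt.IsAlgStack Scheme.fppfPrecoverage 𝒳)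
    (h𝒴 : AlgSt.IsAlgStack Scheme.fppfPrecoverage 𝒴) (f : 𝒳 ⥤ᵇ 𝒴)
    (hfqc : AlgSt.IsQuasiCompactMor Scheme.fppfPrecoverage f) (hfqs : AlgSt.IsQuasiSeparatedMor f)
    (η : 𝒴.obj) (hη : IsAffine (StMod.sch 𝒴 η)) : Nonempty (AtlasF (StMod.fibCat f η)) := by
  obtain ⟨U, x, hU, hx, hxs, hR⟩ := exists_qc_chart_fibCat h𝒳 h𝒴 f hfqc hfqs η hη
  exact nonempty_atlasF (fibCat_fibGrpd f η h𝒳.isStack.1) hx hxs hR

end Groth.Agent.H14QCoh
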