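import Groth.Agent.H14QCoh.Atlas
import Groth.Prelude.Def_StMod6

/-!
# Sections of inverse images along functors over the base
-/

set_option autoImplicit false
set_option linter.style.haveILetI false
set_option backward.isDefEq.respectTransparency false
set_option backward.isDefEq.respectTransparency.types false

universe w' v' w v u

open CategoryTheory CategoryTheory.Limits AlgebraicGeometry Opposite TopologicalSpace

noncomputable section

namespace Groth.Agent.H14QCoh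

section Scheme

variable {X X' T T' : Scheme.{u}}

/-- Functions along an equality of schemes. -/
def castFn (h : X = T) : Γ(X, ⊤) ≃+* Γ(T, ⊤) := by
  subst h; exact RingEquiv.refl _

/-- Sections along an equality of schemes. -/
def castSec (h : X = T) (M : X.Modules) : Γ(M, ⊤) ≃+ Γ(StMod.castMod h M, ⊤) := by
  subst h; exact AddEquiv.refl _

lemma castSec_smul (h : X = T) (M : X.Modules) (r : Γ(X, ⊤)) (m : Γ(M, ⊤)) :
    castSec h M (r • m) = castFn h r • castSec h M m := by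
  subst h; rfl

lemma castHom_castSec (h : X = T) {M N : X.Modules} (a : M ⟶ N) (m : Γ(M, ⊤)) :
    (StMod.castHom h a).app ⊤ (castSec h M m) = castSec h N (a.app ⊤ m) := by
  subst h; rfl

lemma castFn_eq (h : X = T) (r : Γ(X, ⊤)) : castFn h r = (eqToHom h.symm).appTop r := by
  subst h; rfl

lemma castFn_appTop (hX : X = T) (hX' : X' = T') {g₁ : X' ⟶ X} {g : T' ⟶ T}
    (hg : g₁ ≫ eqToHom hX = eqToHom hX' ≫ g) (r : Γ(X, ⊤)) :
    castFn hX' (g₁.appTop r) = g.appTop (castFn hX r) := by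
  subst hX hX'
  obtain rfl : g₁ = g := by simpa using hg
  rfl

lemma castMap_castSec (hX : X = T) (hX' : X' = T') {g₁ : X' ⟶ X} {g : T' ⟶ T}
    (hg : g₁ ≫ eqToHom hX = eqToHom hX' ≫ g) {M : X.Modules} {N : X'.Modules}
    (m : M ⟶ (Scheme.Modules.pushforward g₁).obj N) (x : Γ(M, ⊤)) :
    (StMod.castMap hX hX' hg m).app ⊤ (castSec hX M x) = castSec hX' N (m.app ⊤ x) := by
  subst hX hX'
  obtain rfl : g₁ = g := by simpa using hg
  rw [StMod.castMap_rfl_self]
  rfl

end Scheme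

variable {S : Scheme.{u}} {𝒳 : BasedCategory.{v, w} (Over S)} {𝒵 : BasedCategory.{v', w'} (Over S)}
  (q : 𝒵 ⥤ᵇ 𝒳)

/-- Functions on the scheme under `q z`. -/
def toFn (z : 𝒵.obj) : Fn 𝒳 (q.obj z) ≃+* Fn 𝒵 z := castFn (StMod.sch_obj_eq q z)

/-- Sections over `q z` are the sections of the inverse image over `z`. -/
def toSec (F : StMod.QCoh 𝒳) (z : 𝒵.obj) : Sec F (q.obj z) ≃+ Sec ((StMod.comapQ q).obj F) z :=
  castSec (StMod.sch_obj_eq q z) _

lemma toSec_smul (F : StMod.QCoh 𝒳) (z : 𝒵.obj) (r : Fn 𝒳 (q.obj z)) (m : Sec F (q.obj z)) :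
    toSec q F z (r • m) = toFn q z r • toSec q F z m :=
  castSec_smul _ _ r m

lemma comap_mapTop (F : StMod.QCoh 𝒳) {z' z : 𝒵.obj} (φ : z' ⟶ z) (m : Sec F (q.obj z)) :
    ((StMod.comapQ q).obj F).obj.mapTop φ (toSec q F z m) = toSec q F z' (F.obj.mapTop (q.map φ) m) :=
  castMap_castSec (StMod.sch_obj_eq q z) (StMod.sch_obj_eq q z') (StMod.bmap_map_comm q φ rfl) _ m

lemma toFn_fnMap {z' z : 𝒵.obj} (φ : z' ⟶ z) (r : Fn 𝒳 (q.obj z)) :
    toFn q z' (fnMap (q.map φ) r) = fnMap φ (toFn q z r) :=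
  castFn_appTop (StMod.sch_obj_eq q z) (StMod.sch_obj_eq q z') (StMod.bmap_map_comm q φ rfl) r

lemma comapMap_toSec {F G : StMod.QCoh 𝒳} (u : F.obj ⟶ G.obj) (z : 𝒵.obj) (m : Sec F (q.obj z)) :
    ((StMod.Mod.comapMap q u).app z).app ⊤ (toSec q F z m) = toSec q G z ((u.app (q.obj z)).app ⊤ m) :=
  castHom_castSec (StMod.sch_obj_eq q z) _ m

lemma isAffine_obj_iff (z : 𝒵.obj) : IsAffine (StMod.sch 𝒳 (q.obj z)) ↔ IsAffine (StMod.sch 𝒵 z) := by
  rw [StMod.sch_obj_eq q z]

end Groth.Agent.H14QCoh
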