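import Groth.Agent.H14QCoh.SectDescent
import Groth.Agent.H14QCoh.Cast
import Groth.Prelude.Def_AlgSt2

/-!
# Sections of direct images along the base change of a morphism to a sheaf of sets
-/

set_option autoImplicit false
set_option linter.style.haveILetI false
set_option backward.isDefEq.respectTransparency false
set_option backward.isDefEq.respectTransparency.types false

universe u

open CategoryTheory CategoryTheory.Limits AlgebraicGeometry Opposite TopologicalSpace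

noncomputable section

namespace Groth.Agent.H14QCoh

open H14Fib H14Stk

variable {S : Scheme.{u}} {𝒳 : AlgSt.Cat S} {M M' : AlgSp.Sp S} (g : M' ⟶ M) (π : 𝒳 ⥤ᵇ AlgSt.ofSp M)
  (θ : (AlgSt.ofSp M').obj)

lemma spPt_iso_sec {ξ : 𝒳.obj} (α : π.obj ξ ⟶ (AlgSt.ofSpMap g).obj θ) :
    g.hom.app (op (π.obj ξ).base) (M'.obj.map α.hom.op θ.sec) = (π.obj ξ).sec :=
  (congr($(g.hom.naturality α.hom.op) θ.sec)).trans α.map_sec

/-- The point of the base change of an object over the image of `θ`. -/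
def spPt {ξ : 𝒳.obj} (α : π.obj ξ ⟶ (AlgSt.ofSpMap g).obj θ) : (FibCat.fp (AlgSt.ofSpMap g) π).obj :=
  ⟨{ fst := ⟨(π.obj ξ).base, M'.obj.map α.hom.op θ.sec⟩
     snd := ξ
     iso :=
      { hom := ⟨𝟙 _, (congr($(M.obj.map_id _) _)).trans (spPt_iso_sec g π θ α).symm⟩
        inv := ⟨𝟙 _, (congr($(M.obj.map_id _) _)).trans (spPt_iso_sec g π θ α)⟩
        hom_inv_id := Stk.EltObj.hom_ext (Category.id_comp _)
        inv_hom_id := Stk.EltObj.hom_ext (Category.id_comp _) } },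
    IsHomLift.of_fac' _ _ _ rfl rfl (by simp)⟩

/-- The arrow to `θ` of the point. -/
def spArr {ξ : 𝒳.obj} (α : π.obj ξ ⟶ (AlgSt.ofSpMap g).obj θ) :
    (FibCat.fpFst (AlgSt.ofSpMap g) π).obj (spPt g π θ α) ⟶ θ :=
  ⟨α.hom, rfl⟩

/-- The arrow between the points. -/
def spPtMap {ξ' ξ : 𝒳.obj} (φ : ξ' ⟶ ξ) (α : π.obj ξ ⟶ (AlgSt.ofSpMap g).obj θ) :
    spPt g π θ (π.map φ ≫ α) ⟶ spPt g π θ α :=
  ObjectProperty.homMk
    { fst := ⟨(π.map φ).hom, by
        change M'.obj.map (π.map φ).hom.op (M'.obj.map α.hom.op θ.sec) = M'.obj.map (π.map φ ≫ α).hom.op θ.sec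
        rw [Stk.EltObj.comp_hom, op_comp, Functor.map_comp_apply]⟩
      snd := φ
      w := Stk.EltObj.hom_ext ((Category.comp_id _).trans (Category.id_comp _).symm) }

lemma spPtMap_arr {ξ' ξ : 𝒳.obj} (φ : ξ' ⟶ ξ) (α : π.obj ξ ⟶ (AlgSt.ofSpMap g).obj θ) :
    (FibCat.fpFst (AlgSt.ofSpMap g) π).map (spPtMap g π θ φ α) ≫ spArr g π θ α = spArr g π θ (π.map φ ≫ α) :=
  Stk.EltObj.hom_ext rfl

/-- The arrow to the image of `θ` under the second projection. -/
def sndArr {ω : (FibCat.fp (AlgSt.ofSpMap g) π).obj} (γ : (FibCat.fpFst (AlgSt.ofSpMap g) π).obj ω ⟶ θ) :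
    π.obj ω.obj.snd ⟶ (AlgSt.ofSpMap g).obj θ :=
  ω.obj.iso.inv ≫ (AlgSt.ofSpMap g).map γ

lemma sndArr_nat {ω' ω : (FibCat.fp (AlgSt.ofSpMap g) π).obj} (k : ω' ⟶ ω)
    (γ : (FibCat.fpFst (AlgSt.ofSpMap g) π).obj ω ⟶ θ) :
    π.map k.hom.snd ≫ sndArr g π θ γ = sndArr g π θ ((FibCat.fpFst (AlgSt.ofSpMap g) π).map k ≫ γ) := by
  have hw : (AlgSt.ofSpMap g).map k.hom.fst ≫ ω.obj.iso.hom = ω'.obj.iso.hom ≫ π.map k.hom.snd := k.hom.w
  rw [sndArr, sndArr, ← cancel_epi ω'.obj.iso.hom, ← Category.assoc, ← hw, Category.assoc, Iso.hom_inv_id_assoc,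
    Iso.hom_inv_id_assoc, ← (AlgSt.ofSpMap g).map_comp]
  rfl

lemma sndArr_spArr {ξ : 𝒳.obj} (α : π.obj ξ ⟶ (AlgSt.ofSpMap g).obj θ) :
    sndArr g π θ (spArr g π θ α) = α :=
  Stk.EltObj.hom_ext (Category.id_comp _)

local notation "π'" => FibCat.fpFst (AlgSt.ofSpMap g) π
local notation "pr₂" => FibCat.fpSnd (AlgSt.ofSpMap g) π

/-- A section of the direct image along the base change gives one of the direct image. -/
def sectDown {F : StMod.QCoh 𝒳} (s : StMod.Mod.RelSect π' ((StMod.comapQ pr₂).obj F).obj θ) :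
    StMod.Mod.RelSect π F.obj ((AlgSt.ofSpMap g).obj θ) :=
  ⟨fun ξ α => (toSec pr₂ F (spPt g π θ α)).symm (s.1 _ (spArr g π θ α)), fun ξ' ξ φ α => by
    have h := s.2 (spPtMap g π θ φ α) (spArr g π θ α)
    rw [spPtMap_arr] at h
    refine (AddEquiv.eq_symm_apply _).2 ?_
    change toSec pr₂ F (spPt g π θ (π.map φ ≫ α)) (F.obj.mapTop ((pr₂).map (spPtMap g π θ φ α)) _) = _
    rw [← comap_mapTop, AddEquiv.apply_symm_apply]
    exact h⟩

/-- A section of the direct image gives one of the direct image along the base change. -/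
def sectUp {F : StMod.QCoh 𝒳} (n : StMod.Mod.RelSect π F.obj ((AlgSt.ofSpMap g).obj θ)) :
    StMod.Mod.RelSect π' ((StMod.comapQ pr₂).obj F).obj θ :=
  ⟨fun ω γ => toSec pr₂ F ω (n.1 ω.obj.snd (sndArr g π θ γ)), fun ω' ω k γ => by
    rw [comap_mapTop]
    refine congrArg (toSec pr₂ F ω') ?_
    change F.obj.mapTop k.hom.snd (n.1 ω.obj.snd (sndArr g π θ γ)) = _
    rw [n.2 k.hom.snd, sndArr_nat]⟩

lemma sectUp_val {F : StMod.QCoh 𝒳} (n : StMod.Mod.RelSect π F.obj ((AlgSt.ofSpMap g).obj θ))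
    (ω : (FibCat.fp (AlgSt.ofSpMap g) π).obj) (γ : (π').obj ω ⟶ θ) :
    (sectUp g π θ n).1 ω γ = toSec pr₂ F ω (n.1 ω.obj.snd (sndArr g π θ γ)) := rfl

/-- Surjective morphisms stay surjective under inverse image. -/
theorem isSurj_comapMap {𝒴 𝒵 : AlgSt.Cat S} (q : 𝒵 ⥤ᵇ 𝒴) {F G : StMod.QCoh 𝒴} (u : F ⟶ G)
    (hu : StMod.Mod.IsSurj u.hom) : StMod.Mod.IsSurj ((StMod.comapQ q).map u).hom := by
  intro z hz n
  obtain ⟨m, hm⟩ := hu (q.obj z) ((isAffine_obj_iff q z).2 hz) ((toSec q G z).symm n)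
  refine ⟨toSec q F z m, ?_⟩
  exact (comapMap_toSec q u.hom z m).trans (((toSec q G z).eq_symm_apply).1 hm)

/-- Surjectivity on sections passes from the base change to the morphism. -/
theorem surjective_relSectMap_of_baseChange {F G : StMod.QCoh 𝒳} (u : F ⟶ G)
    (h : Function.Surjective (StMod.Mod.relSectMap π' ((StMod.comapQ pr₂).map u).hom θ)) :
    Function.Surjective (StMod.Mod.relSectMap π u.hom ((AlgSt.ofSpMap g).obj θ)) := by
  intro n
  obtain ⟨s, hs⟩ := h (sectUp g π θ n)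
  refine ⟨sectDown g π θ s, StMod.Mod.RelSect.ext _ _ _ fun ξ α => ?_⟩
  refine (toSec pr₂ G (spPt g π θ α)).injective ?_
  refine Eq.trans ?_ ((congrArg (fun t => t.1 (spPt g π θ α) (spArr g π θ α)) hs).trans
    ((sectUp_val g π θ n _ _).trans
      (congrArg (fun β => toSec pr₂ G (spPt g π θ α) (n.1 ξ β)) (sndArr_spArr g π θ α))))
  rw [StMod.Mod.relSectMap_val, StMod.Mod.relSectMap_val]
  refine (comapMap_toSec pr₂ u.hom (spPt g π θ α) _).symm.trans ?_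
  exact congrArg _ ((toSec pr₂ F (spPt g π θ α)).apply_symm_apply _)

lemma iso_cod (ω : (FibCat.fp (AlgSt.ofSpMap g) π).obj) :
    (π.obj ω.obj.snd).base = ω.obj.fst.base :=
  @IsHomLift.codomain_eq _ _ _ _ (AlgSt.ofSp M).p _ _ _ _ (𝟙 _) ω.obj.iso.hom ω.property

lemma iso_inv_hom (ω : (FibCat.fp (AlgSt.ofSpMap g) π).obj) :
    ω.obj.iso.inv.hom = eqToHom (iso_cod g π ω) := by
  have h1 : ω.obj.iso.hom.hom = eqToHom (iso_cod g π ω).symm := by
    have := @IsHomLift.fac' _ _ _ _ (AlgSt.ofSp M).p _ _ _ _ (𝟙 _) ω.obj.iso.hom ω.property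
    simpa using this
  have h2 : ω.obj.iso.inv.hom ≫ ω.obj.iso.hom.hom = 𝟙 _ := congrArg Stk.EltObj.Hom.hom ω.obj.iso.inv_hom_id
  rw [h1] at h2
  exact (Category.comp_id _).symm.trans (((congrArg (ω.obj.iso.inv.hom ≫ ·) ((eqToHom_trans _ _).trans
    (eqToHom_refl _ rfl))).symm.trans (Category.assoc _ _ _).symm).trans
      ((congrArg (· ≫ eqToHom (iso_cod g π ω)) h2).trans (Category.id_comp _)))

lemma baseOver_left (ω : (FibCat.fp (AlgSt.ofSpMap g) π).obj) (γ : (π').obj ω ⟶ θ) :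
    eqToHom (StMod.sch_obj_eq pr₂ ω) ≫ (StMod.baseOver π' ω γ).left =
      (StMod.baseOver π ω.obj.snd (sndArr g π θ γ)).left := by
  simp only [StMod.baseOver, sndArr, Functor.map_comp, Over.comp_left, Over.eqToHom_left]
  change _ ≫ _ ≫ γ.hom.left = _ ≫ ω.obj.iso.inv.hom.left ≫ γ.hom.left
  rw [iso_inv_hom, Over.eqToHom_left]
  erw [Category.id_comp, ← Category.assoc, eqToHom_trans]

lemma toFn_unit (r : Fn (AlgSt.ofSp M') θ) (ω : (FibCat.fp (AlgSt.ofSpMap g) π).obj) (γ : (π').obj ω ⟶ θ) :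
    toFn pr₂ ω ((StMod.unitSect π ((AlgSt.ofSpMap g).obj θ) r).1 ω.obj.snd (sndArr g π θ γ)) =
      (StMod.unitSect π' θ r).1 ω γ := by
  rw [toFn, castFn_eq, StMod.unitSect_val, ← baseOver_left g π θ ω γ, StMod.unitSect_val, Scheme.Hom.comp_appTop]
  have key : ∀ {X Y : Scheme.{u}} (e : X = Y) (v : Γ(Y, ⊤)),
      (eqToHom e.symm).appTop ((eqToHom e).appTop v) = v := by
    intro X Y e v; subst e; rfl
  exact key _ _

/-- Bijectivity of the unit passes from the base change to the morphism. -/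
theorem bijective_unitSect_of_baseChange (h : Function.Bijective (StMod.unitSect π' θ)) :
    Function.Bijective (StMod.unitSect π ((AlgSt.ofSpMap g).obj θ)) := by
  refine ⟨fun r r' e => h.1 (StMod.Mod.RelSect.ext _ _ _ fun ω γ => ?_), fun n => ?_⟩
  · rw [← toFn_unit, ← toFn_unit]
    exact congrArg (fun t : StMod.Mod.RelSect π (StMod.O 𝒳) ((AlgSt.ofSpMap g).obj θ) =>
      toFn pr₂ ω (t.1 ω.obj.snd (sndArr g π θ γ))) e
  · let n' : StMod.Mod.RelSect π' (StMod.O (FibCat.fp (AlgSt.ofSpMap g) π)) θ :=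
      ⟨fun ω γ => toFn pr₂ ω (n.1 ω.obj.snd (sndArr g π θ γ)), fun ω' ω k γ => by
        refine ((toFn_fnMap pr₂ k _).symm.trans (congrArg (toFn pr₂ ω') ?_))
        change (StMod.O 𝒳).mapTop k.hom.snd (n.1 ω.obj.snd (sndArr g π θ γ)) = _
        rw [n.2 k.hom.snd, sndArr_nat]⟩
    obtain ⟨r, hr⟩ := h.2 n'
    refine ⟨r, StMod.Mod.RelSect.ext _ _ _ fun ξ α => ?_⟩
    have e := congrArg (fun t : StMod.Mod.RelSect π' (StMod.O _) θ => t.1 (spPt g π θ α) (spArr g π θ α)) hr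
    change (StMod.unitSect π' θ r).1 _ _ = toFn pr₂ (spPt g π θ α) (n.1 ξ (sndArr g π θ (spArr g π θ α))) at e
    rw [← toFn_unit, sndArr_spArr] at e
    exact (toFn pr₂ (spPt g π θ α)).injective e

end Groth.Agent.H14QCoh
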