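import Groth.Agent.H14QCoh.Push

/-!
# Generating families pull back along affine representable functors
-/

set_option autoImplicit false
set_option linter.style.haveILetI false
set_option backward.isDefEq.respectTransparency false
set_option backward.isDefEq.respectTransparency.types false

universe t w' v' w v u

open CategoryTheory CategoryTheory.Limits AlgebraicGeometry Opposite TopologicalSpace

noncomputable section

namespace Groth.Agent.H14QCoh

variable {S : Scheme.{u}} {𝒳 : BasedCategory.{v, w} (Over S)} {𝒵 : BasedCategory.{v', w'} (Over S)}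

namespace AffRep

variable {q : 𝒵 ⥤ᵇ 𝒳} (R : AffRep q)

/-- The section of `q z` over the universal object. -/
def sect (ζ : 𝒵.obj) : ζ ⟶ R.z (q.obj ζ) := (R.existsUnique (q.obj ζ) ζ (𝟙 _)).exists.choose

lemma sect_spec (ζ : 𝒵.obj) : q.map (R.sect ζ) ≫ R.e (q.obj ζ) = 𝟙 _ :=
  (R.existsUnique (q.obj ζ) ζ (𝟙 _)).exists.choose_spec

lemma sect_g (ζ : 𝒵.obj) :
    StMod.bmap 𝒵 (R.sect ζ) ≫ R.g (q.obj ζ) = eqToHom (StMod.sch_obj_eq q ζ).symm := by
  have h := congrArg (StMod.bmap 𝒳) (R.sect_spec ζ)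
  rw [StMod.bmap_comp, StMod.bmap_id] at h
  have h2 := StMod.bmap_map_comm q (R.sect ζ) rfl
  rw [g, ← cancel_epi (eqToHom (StMod.sch_obj_eq q ζ)), ← Category.assoc, ← Category.assoc, ← h2]
  simp [h]

lemma sect_nat {ζ' ζ : 𝒵.obj} (f : ζ' ⟶ ζ) : R.sect ζ' ≫ R.c (q.map f) = f ≫ R.sect ζ :=
  (R.existsUnique (q.obj ζ) ζ' (q.map f)).unique
    (by rw [q.map_comp, Category.assoc, R.c_spec, ← Category.assoc, R.sect_spec, Category.id_comp])
    (by rw [q.map_comp, Category.assoc, R.sect_spec, Category.comp_id])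

lemma sect_c (ξ : 𝒳.obj) : R.sect (R.z ξ) ≫ R.c (R.e ξ) = 𝟙 _ :=
  (R.existsUnique ξ (R.z ξ) (R.e ξ)).unique
    (by rw [q.map_comp, Category.assoc, R.c_spec, ← Category.assoc, R.sect_spec, Category.id_comp])
    (by rw [q.map_id, Category.id_comp])

/-- Sections of a direct image. -/
def sec (M : StMod.QCoh 𝒵) (ξ : 𝒳.obj) (s : Sec (R.push M) ξ) : Sec M (R.z ξ) := s

lemma sec_smul (M : StMod.QCoh 𝒵) (ξ : 𝒳.obj) (r : Fn 𝒳 ξ) (s : Sec (R.push M) ξ) :
    R.sec M ξ (r • s) = (R.g ξ).appTop r • R.sec M ξ s :=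
  rfl

lemma sec_zero (M : StMod.QCoh 𝒵) (ξ : 𝒳.obj) : R.sec M ξ 0 = 0 := rfl

lemma sec_add (M : StMod.QCoh 𝒵) (ξ : 𝒳.obj) (s t : Sec (R.push M) ξ) :
    R.sec M ξ (s + t) = R.sec M ξ s + R.sec M ξ t := rfl

lemma sec_mapTop (M : StMod.QCoh 𝒵) {ξ' ξ : 𝒳.obj} (φ : ξ' ⟶ ξ) (s : Sec (R.push M) ξ) :
    R.sec M ξ' ((R.push M).obj.mapTop φ s) = M.obj.mapTop (R.c φ) (R.sec M ξ s) :=
  (R.pushMap_app M.obj φ rfl ⊤ s).trans (H10Coh.rs_self _ _ _)

lemma sec_pushHom {M N : StMod.QCoh 𝒵} (u : M.obj ⟶ N.obj) (ξ : 𝒳.obj) (s : Sec (R.push M) ξ) :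
    R.sec N ξ (((R.pushHom u).app ξ).app ⊤ s) = (u.app (R.z ξ)).app ⊤ (R.sec M ξ s) :=
  rfl

include R in
/-- A generating family pulls back to a generating family along an affine representable functor. -/
theorem isGenFam_comapQ (hp : FibCat.IsFibGrpd 𝒳.p) (hpz : FibCat.IsFibGrpd 𝒵.p) {ι : Type t}
    (E : ι → StMod.QCoh 𝒳) (hE : StMod.IsGenFam E) :
    StMod.IsGenFam (fun i => (StMod.comapQ q).obj (E i)) := by
  rw [StMod.isGenFam_iff] at hE ⊢
  intro M N u hu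
  have hpush : ∀ (i : ι) (φ : (E i).obj ⟶ (R.push M).obj), φ ≫ R.pushHom u.hom = 0 := by
    intro i φ
    let f : AffFam ((StMod.comapQ q).obj (E i)) M := fun ζ hζ =>
      { toFun := fun s =>
          M.obj.mapTop (R.sect ζ) (R.sec M _ ((φ.app (q.obj ζ)).app ⊤ ((toSec q (E i) ζ).symm s)))
        map_add' := fun a b => by rw [map_add, map_add, sec_add, M.obj.mapTop_add]
        map_smul' := fun r a => by
          obtain ⟨r, rfl⟩ := (toFn q ζ).surjective r
          obtain ⟨a, rfl⟩ := (toSec q (E i) ζ).surjective a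
          rw [← toSec_smul, AddEquiv.symm_apply_apply, AddEquiv.symm_apply_apply, Scheme.Modules.Hom.app_smul,
            sec_smul, M.obj.mapTop_smul, RingHom.id_apply]
          refine congrArg (· • _) ?_
          refine (congr($(congrArg Scheme.Hom.appTop (R.sect_g ζ)) r)).trans ?_
          exact (castFn_eq _ r).symm }
    have hf : f.Nat := by
      intro ζ' ζ a hζ' hζ s
      obtain ⟨s, rfl⟩ := (toSec q (E i) ζ).surjective s
      change M.obj.mapTop _ (R.sec M _ ((φ.app _).app ⊤ ((toSec q (E i) ζ').symm _))) =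
        M.obj.mapTop a (M.obj.mapTop _ (R.sec M _ ((φ.app _).app ⊤ ((toSec q (E i) ζ).symm _))))
      rw [comap_mapTop, AddEquiv.symm_apply_apply, AddEquiv.symm_apply_apply,
        ← StMod.Mod.mapTop_app φ (q.map a) s]
      refine (congrArg (M.obj.mapTop (R.sect ζ')) (R.sec_mapTop M (q.map a) _)).trans ?_
      rw [← M.obj.mapTop_comp, ← M.obj.mapTop_comp, R.sect_nat]
    obtain ⟨ψ, hψ⟩ := exists_hom hpz f hf
    have h0 := hu i ψ
    refine hom_ext_affine (F := E i) (G := R.push N) hp fun ξ hξ m => ?_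
    have hz : IsAffine (StMod.sch 𝒵 (R.z ξ)) := isAffine_of_isAffineHom (R.g ξ)
    have key := congrArg (fun k => (StMod.Mod.Hom.app k (R.z ξ)).app ⊤
      (toSec q (E i) (R.z ξ) ((E i).obj.mapTop (R.e ξ) m))) h0
    simp only [StMod.Mod.comp_app, StMod.Mod.zero_app, Scheme.Modules.Hom.comp_app] at key ⊢
    change (u.hom.app (R.z ξ)).app ⊤ ((ψ.app (R.z ξ)).app ⊤ _) = 0 at key
    change (u.hom.app (R.z ξ)).app ⊤ (R.sec M ξ ((φ.app ξ).app ⊤ m)) = 0
    rw [hψ _ hz] at key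
    change (u.hom.app (R.z ξ)).app ⊤ (M.obj.mapTop _ (R.sec M _ ((φ.app _).app ⊤
      ((toSec q (E i) (R.z ξ)).symm _)))) = 0 at key
    rw [AddEquiv.symm_apply_apply, ← StMod.Mod.mapTop_app φ (R.e ξ) m] at key
    rw [show R.sec M ξ ((φ.app ξ).app ⊤ m) = M.obj.mapTop (R.sect (R.z ξ))
      (R.sec M _ ((R.push M).obj.mapTop (R.e ξ) ((φ.app ξ).app ⊤ m))) by
        rw [R.sec_mapTop, ← M.obj.mapTop_comp, R.sect_c, M.obj.mapTop_id]]
    exact key
  have hz := hE (ObjectProperty.homMk (R.pushHom u.hom) : R.push M ⟶ R.push N) hpush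
  have hz' : R.pushHom u.hom = 0 :=
    (congrArg (fun k : R.push M ⟶ R.push N => k.hom) hz : _)
  refine InducedCategory.hom_ext (hom_ext_affine hpz fun ζ hζ s => ?_)
  have hq : IsAffine (StMod.sch 𝒳 (q.obj ζ)) := (isAffine_obj_iff q ζ).2 hζ
  have hzq : IsAffine (StMod.sch 𝒵 (R.z (q.obj ζ))) := isAffine_of_isAffineHom (R.g (q.obj ζ))
  have h1 : ∀ x, (u.hom.app (R.z (q.obj ζ))).app ⊤ x = 0 := fun x => by
    have := congrArg (fun k => (StMod.Mod.Hom.app k (q.obj ζ)).app ⊤ x) hz'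
    exact this
  change (u.hom.app ζ).app ⊤ s = 0
  refine sec_induction (φ := R.sect ζ) hζ hzq (P := fun s => (u.hom.app ζ).app ⊤ s = 0) s (map_zero _) ?_ ?_
  · intro a b ha hb
    rw [map_add, ha, hb, add_zero]
  · intro b x
    rw [Scheme.Modules.Hom.app_smul, ← StMod.Mod.mapTop_app, h1, N.obj.mapTop_zero, smul_zero]

end AffRep

end Groth.Agent.H14QCoh
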