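import Groth.Agent.H14QCoh.AffRepOf
import Groth.Prelude.Def_StMod2

/-!
# Composites of cohomologically affine morphisms with affine morphisms
-/

set_option autoImplicit false
set_option linter.style.haveILetI false
set_option backward.isDefEq.respectTransparency false
set_option backward.isDefEq.respectTransparency.types false

universe u

open CategoryTheory CategoryTheory.Limits AlgebraicGeometry

noncomputable section

namespace Groth.Agent.H14QCoh

variable {S : Scheme.{u}} {𝒵 𝒳 : AlgSt.Cat S} {M : AlgSp.Sp S} {q : 𝒵 ⥤ᵇ 𝒳} (R : AffRep q)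
  (π : 𝒳 ⥤ᵇ AlgSt.ofSp M)

include R in
/-- Cohomological affineness passes to composites with affine representable functors. -/
theorem AffRep.isCohAffine_comp (h : StMod.IsCohAffine π) : StMod.IsCohAffine (BasedFunctor.comp q π) := by
  intro F G u hu E hE t
  have hv : StMod.Mod.IsSurj (R.pushHom u.hom) := fun ξ hξ x => by
    have hz : IsAffine (StMod.sch 𝒵 (R.z ξ)) := isAffine_of_isAffineHom (R.g ξ)
    obtain ⟨y, hy⟩ := hu (R.z ξ) hz (R.sec G ξ x)
    exact ⟨y, hy⟩
  let t' : StMod.Mod.RelSect π (R.push G).obj (StMod.etaOf E) :=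
    ⟨fun ξ α => (t.1 (R.z ξ) (π.map (R.e ξ) ≫ α) : Sec G (R.z ξ)), fun ξ' ξ φ α => by
      refine (R.sec_mapTop G φ _).trans ?_
      refine (t.2 (R.c φ) (π.map (R.e ξ) ≫ α)).trans ?_
      refine congrArg (t.1 (R.z ξ')) ?_
      change π.map (q.map (R.c φ)) ≫ π.map (R.e ξ) ≫ α = _
      rw [← Category.assoc, ← π.map_comp, R.c_spec, π.map_comp, Category.assoc]⟩
  obtain ⟨s', hs'⟩ := h (F := R.push F) (G := R.push G) (ObjectProperty.homMk (R.pushHom u.hom)) hv E hE t'
  refine ⟨⟨fun ζ β => F.obj.mapTop (R.sect ζ) (R.sec F _ (s'.1 (q.obj ζ) β)), fun ζ' ζ φ β => ?_⟩,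
    StMod.Mod.RelSect.ext _ _ _ fun ζ β => ?_⟩
  · have e1 : R.sec F _ (s'.1 (q.obj ζ') (π.map (q.map φ) ≫ β)) =
        F.obj.mapTop (R.c (q.map φ)) (R.sec F _ (s'.1 (q.obj ζ) β)) :=
      (congrArg (R.sec F _) (s'.2 (q.map φ) β).symm).trans (R.sec_mapTop F (q.map φ) _)
    refine Eq.trans ?_ (congrArg (F.obj.mapTop (R.sect ζ')) e1).symm
    rw [← F.obj.mapTop_comp, ← F.obj.mapTop_comp, R.sect_nat]
  · have e2 := congrArg (fun r => R.sec G _ (r.1 (q.obj ζ) β)) hs'
    change (u.hom.app ζ).app ⊤ (F.obj.mapTop _ _) = _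
    rw [← StMod.Mod.mapTop_app]
    refine (congrArg (G.obj.mapTop (R.sect ζ)) e2).trans ?_
    refine (t.2 (R.sect ζ) _).trans (congrArg (t.1 ζ) ?_)
    change π.map (q.map (R.sect ζ)) ≫ π.map (R.e (q.obj ζ)) ≫ β = β
    rw [← Category.assoc, ← π.map_comp, R.sect_spec, π.map_id, Category.id_comp]

/-- Cohomological affineness passes to composites with affine morphisms. -/
theorem isCohAffine_comp_affine (hq : AlgSt.RepByAlgSpWith AlgSp.IsAffineMor q) (hz : FibCat.IsFibGrpd 𝒵.p)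
    (hx : FibCat.IsFibGrpd 𝒳.p) (h : StMod.IsCohAffine π) : StMod.IsCohAffine (BasedFunctor.comp q π) :=
  (affRepOf hq hz hx).isCohAffine_comp π h

end Groth.Agent.H14QCoh
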