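import Groth.Agent.H14QCoh.Atlas
import Groth.Prelude.Def_StMod3
import Groth.Agent.H8Props.FinLocFree.Sheaf
import Mathlib.LinearAlgebra.TensorProduct.Pi

/-!
# Compatible tuples of sections
-/

set_option autoImplicit false
set_option linter.style.haveILetI false
set_option backward.isDefEq.respectTransparency false
set_option backward.isDefEq.respectTransparency.types false

universe w v u

open CategoryTheory CategoryTheory.Limits AlgebraicGeometry Opposite TopologicalSpace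
open scoped TensorProduct

noncomputable section

namespace Groth.Agent.H14QCoh

variable {S : Scheme.{u}} {𝒳 : BasedCategory.{v, w} (Over S)}

theorem finitePresentation_sec {E : StMod.QCoh 𝒳} (hE : E.obj.IsFinPres) (ξ : 𝒳.obj)
    (hξ : IsAffine (StMod.sch 𝒳 ξ)) : Module.FinitePresentation (Fn 𝒳 ξ) (Sec E ξ) :=
  H8Props.FinLocFree.finitePresentation_sections (E.obj.obj ξ) (hE ξ) (isAffineOpen_top _)

/-- A finite presentation of the sections at the atlas, with the transition matrix of the generators. -/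
structure Presn (𝔸 : Atlas 𝒳) (E : StMod.QCoh 𝒳) where
  n : ℕ
  m : ℕ
  e : Fin n → Sec E 𝔸.x
  r : Fin m → Fin n → Fn 𝒳 𝔸.x
  s : Fin n → Fin n → Fn 𝒳 𝔸.y
  rel : ∀ i, ∑ k, r i k • e k = 0
  trans : ∀ j, E.obj.mapTop 𝔸.a (e j) = ∑ k, s j k • E.obj.mapTop 𝔸.b (e k)
  span : Submodule.span (Fn 𝒳 𝔸.x) (Set.range e) = ⊤
  lift : ∀ {Q : Type u} [AddCommGroup Q] [Module (Fn 𝒳 𝔸.x) Q] (q : Fin n → Q),
    (∀ i, ∑ k, r i k • q k = 0) → ∃ h : Sec E 𝔸.x →ₗ[Fn 𝒳 𝔸.x] Q, ∀ j, h (e j) = q j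

theorem exists_presn_of (𝔸 : Atlas 𝒳) {E : StMod.QCoh 𝒳} (hE : Module.FinitePresentation (Fn 𝒳 𝔸.x) (Sec E 𝔸.x)) :
    Nonempty (Presn 𝔸 E) := by
  classical
  obtain ⟨n, m, f, g, hf, hfg⟩ := Module.FinitePresentation.exists_fin' (Fn 𝒳 𝔸.x) (Sec E 𝔸.x)
  let e : Fin n → Sec E 𝔸.x := fun j => f (Pi.single j 1)
  have hf' : ∀ q, f q = ∑ k, q k • e k := fun q => by
    conv_lhs => rw [← Finset.univ_sum_single q]
    rw [map_sum]
    exact Finset.sum_congr rfl fun k _ => by rw [← map_smul, ← Pi.single_smul, smul_eq_mul, mul_one]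
  have hspan : Submodule.span (Fn 𝒳 𝔸.x) (Set.range e) = ⊤ := top_le_iff.1 fun p _ => by
    obtain ⟨q, rfl⟩ := hf p
    rw [hf']
    exact Submodule.sum_mem _ fun k _ => Submodule.smul_mem _ _ (Submodule.subset_span ⟨k, rfl⟩)
  have hb : ∀ z : Sec E 𝔸.y, ∃ s : Fin n → Fn 𝒳 𝔸.y, z = ∑ k, s k • E.obj.mapTop 𝔸.b (e k) := by
    intro z
    refine sec_induction (φ := 𝔸.b) 𝔸.affy 𝔸.affx (P := fun z => ∃ s : Fin n → Fn 𝒳 𝔸.y, z = ∑ k, s k • E.obj.mapTop 𝔸.b (e k))
      z ⟨0, by simp⟩ ?_ ?_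
    · rintro a b ⟨s, rfl⟩ ⟨s', rfl⟩
      exact ⟨s + s', by simp [add_smul, Finset.sum_add_distrib]⟩
    · intro c p
      obtain ⟨q, rfl⟩ := hf p
      refine ⟨fun k => c * fnMap 𝔸.b (q k), ?_⟩
      rw [hf']
      let L : Sec E 𝔸.x →+ Sec E 𝔸.y := AddMonoidHom.mk' (E.obj.mapTop 𝔸.b) (E.obj.mapTop_add 𝔸.b)
      rw [show E.obj.mapTop 𝔸.b (∑ k, q k • e k) = L (∑ k, q k • e k) from rfl, map_sum, Finset.smul_sum]
      exact Finset.sum_congr rfl fun k _ => by
        change c • E.obj.mapTop 𝔸.b (q k • e k) = _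
        rw [E.obj.mapTop_smul, smul_smul]
  choose s hs using fun j => hb (E.obj.mapTop 𝔸.a (e j))
  refine ⟨{ n := n, m := m, e := e, r := fun i => g (Pi.single i 1), s := s, rel := fun i => ?_, trans := hs,
            span := hspan, lift := fun {Q} _ _ q hq => ?_ }⟩
  · rw [← hf']
    exact (hfg _).2 ⟨_, rfl⟩
  · let π : (Fin n → Fn 𝒳 𝔸.x) →ₗ[Fn 𝒳 𝔸.x] Q := Fintype.linearCombination (Fn 𝒳 𝔸.x) q
    have hker : LinearMap.ker f ≤ LinearMap.ker π := by
      intro z hz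
      obtain ⟨w, rfl⟩ := (hfg z).1 hz
      rw [LinearMap.mem_ker, ← Finset.univ_sum_single w, map_sum, map_sum]
      refine Finset.sum_eq_zero fun i _ => ?_
      rw [show Pi.single i (w i) = w i • (Pi.single i (1 : Fn 𝒳 𝔸.x) : Fin m → Fn 𝒳 𝔸.x) by
        rw [← Pi.single_smul, smul_eq_mul, mul_one], map_smul, map_smul, Fintype.linearCombination_apply, hq i, smul_zero]
    refine ⟨((LinearMap.ker f).liftQ π hker).comp (LinearMap.quotKerEquivOfSurjective f hf).symm.toLinearMap,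
      fun j => ?_⟩
    have : (LinearMap.quotKerEquivOfSurjective f hf).symm (e j) = Submodule.Quotient.mk (Pi.single j 1) := by
      rw [LinearEquiv.symm_apply_eq]
      rfl
    rw [LinearMap.comp_apply, LinearEquiv.coe_coe, this, Submodule.liftQ_apply, Fintype.linearCombination_apply,
      Finset.sum_eq_single j (fun k _ hk => by rw [Pi.single_eq_of_ne hk, zero_smul])
        (fun h => absurd (Finset.mem_univ j) h), Pi.single_eq_same, one_smul]

theorem exists_presn (𝔸 : Atlas 𝒳) {E : StMod.QCoh 𝒳} (hE : E.obj.IsFinPres) : Nonempty (Presn 𝔸 E) :=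
  exists_presn_of 𝔸 (finitePresentation_sec hE 𝔸.x 𝔸.affx)

/-- Compatible tuples give morphisms. -/
theorem Presn.exists_hom (hp : FibCat.IsFibGrpd 𝒳.p) {𝔸 : Atlas 𝒳} {E F : StMod.QCoh 𝒳} (P : Presn 𝔸 E)
    (q : Fin P.n → Sec F 𝔸.x) (h₁ : ∀ i, ∑ k, P.r i k • q k = 0)
    (h₂ : ∀ j, F.obj.mapTop 𝔸.a (q j) = ∑ k, P.s j k • F.obj.mapTop 𝔸.b (q k)) :
    ∃ φ : E.obj ⟶ F.obj, ∀ j, (φ.app 𝔸.x).app ⊤ (P.e j) = q j := by
  obtain ⟨h, hh⟩ := P.lift q h₁
  obtain ⟨φ, hφ⟩ := exists_hom_of_atlas (F := E) (G := F) hp 𝔸 h (lin_ext (φ := 𝔸.a) 𝔸.affy 𝔸.affx fun z => by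
    have hz : z ∈ Submodule.span (Fn 𝒳 𝔸.x) (Set.range P.e) := P.span ▸ Submodule.mem_top
    induction hz using Submodule.span_induction with
    | mem z hz =>
      obtain ⟨j, rfl⟩ := hz
      rw [pl_mapTop, hh, P.trans, map_sum, h₂]
      exact Finset.sum_congr rfl fun k _ => by rw [map_smul, pl_mapTop, hh]
    | zero => simp [StMod.Mod.mapTop_zero]
    | add a b _ _ ha hb => rw [E.obj.mapTop_add, map_add, map_add, ha, hb]
    | smul c a _ ha => rw [E.obj.mapTop_smul, map_smul, map_smul, ha])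
  exact ⟨φ, fun j => (hφ _).trans (hh j)⟩

/-- A tensor with vanishing projections vanishes. -/
lemma eq_zero_of_proj {A B : Type u} [CommRing A] [CommRing B] [Algebra A B] {ι : Type} [Fintype ι]
    {Q : ι → Type u} [∀ i, AddCommGroup (Q i)] [∀ i, Module A (Q i)] (t : B ⊗[A] ((i : ι) → Q i))
    (h : ∀ i, (LinearMap.proj i).lTensor B t = 0) : t = 0 := by
  classical
  refine (TensorProduct.piRight A A B Q).injective ?_
  rw [map_zero]
  funext i
  have key : ∀ t, TensorProduct.piRight A A B Q t i = (LinearMap.proj i).lTensor B t := fun t => by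
    induction t using TensorProduct.induction_on with
    | zero => simp
    | add a b ha hb => rw [map_add, Pi.add_apply, ha, hb, map_add]
    | tmul c z => rfl
  rw [key, h]
  rfl

end Groth.Agent.H14QCoh
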