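import Groth.Agent.H14QCoh.Cast
import Groth.Agent.H14QCoh.Presentation

/-!
# Morphisms killed by a module stay killed after flat base change
-/

set_option autoImplicit false
set_option linter.style.haveILetI false
set_option backward.isDefEq.respectTransparency false
set_option backward.isDefEq.respectTransparency.types false

universe w' v' w v u

open CategoryTheory CategoryTheory.Limits AlgebraicGeometry Opposite TopologicalSpace
open scoped TensorProduct

noncomputable section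

namespace Groth.Agent.H14QCoh

variable {S : Scheme.{u}} {𝒳 : BasedCategory.{v, w} (Over S)} {𝒵 : BasedCategory.{v', w'} (Over S)}

/-- `q` is, on affine objects, the base change along a flat map of rings. -/
structure FlatBC (q : 𝒵 ⥤ᵇ 𝒳) where
  A : Type u
  B : Type u
  [instA : CommRing A]
  [instB : CommRing B]
  β : A →+* B
  flat : β.Flat
  ρ : ∀ ξ : 𝒳.obj, A →+* Fn 𝒳 ξ
  ρ_nat : ∀ ⦃ξ' ξ : 𝒳.obj⦄ (φ : ξ' ⟶ ξ) (r : A), fnMap φ (ρ ξ r) = ρ ξ' r
  σ : ∀ ζ : 𝒵.obj, B →+* Fn 𝒳 (q.obj ζ)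
  σ_nat : ∀ ⦃ζ' ζ : 𝒵.obj⦄ (c : ζ' ⟶ ζ) (r : B), fnMap (q.map c) (σ ζ r) = σ ζ' r
  z : ∀ ξ : 𝒳.obj, IsAffine (StMod.sch 𝒳 ξ) → 𝒵.obj
  affz : ∀ ξ hξ, IsAffine (StMod.sch 𝒳 (q.obj (z ξ hξ)))
  e : ∀ ξ hξ, q.obj (z ξ hξ) ⟶ ξ
  push : ∀ ξ hξ, IsPushout (CommRingCat.ofHom β) (CommRingCat.ofHom (ρ ξ)) (CommRingCat.ofHom (σ (z ξ hξ)))
    (CommRingCat.ofHom (fnMap (e ξ hξ)))
  fac : ∀ ξ hξ (ζ : 𝒵.obj) (α : q.obj ζ ⟶ ξ), ∃ c : ζ ⟶ z ξ hξ, q.map c ≫ e ξ hξ = α

attribute [instance] FlatBC.instA FlatBC.instB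

variable {q : 𝒵 ⥤ᵇ 𝒳} (Φ : FlatBC q)

lemma FlatBC.w (ξ : 𝒳.obj) (hξ : IsAffine (StMod.sch 𝒳 ξ)) :
    (Φ.σ (Φ.z ξ hξ)).comp Φ.β = (fnMap (Φ.e ξ hξ)).comp (Φ.ρ ξ) :=
  congrArg CommRingCat.Hom.hom (Φ.push ξ hξ).w

include Φ in
/-- A morphism killed by every morphism from `E` is killed by every morphism from the inverse image of `E`. -/
theorem comp_comapMap_eq_zero (hp : FibCat.IsFibGrpd 𝒳.p) (hpz : FibCat.IsFibGrpd 𝒵.p) (𝔸 : Atlas 𝒳)
    {E F G : StMod.QCoh 𝒳} (hE : E.obj.IsFinPres) (u : F.obj ⟶ G.obj)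
    (hu : ∀ φ : E.obj ⟶ F.obj, φ ≫ u = 0)
    (ψ : ((StMod.comapQ q).obj E).obj ⟶ ((StMod.comapQ q).obj F).obj) :
    ψ ≫ StMod.Mod.comapMap q u = 0 := by
  classical
  obtain ⟨P⟩ := exists_presn 𝔸 hE
  let x := 𝔸.x
  let y := 𝔸.y
  let zx := Φ.z x 𝔸.affx
  let zy := Φ.z y 𝔸.affy
  let ex := Φ.e x 𝔸.affx
  let ey := Φ.e y 𝔸.affy
  obtain ⟨ca, hca⟩ := Φ.fac x 𝔸.affx zy (ey ≫ 𝔸.a)
  obtain ⟨cb, hcb⟩ := Φ.fac x 𝔸.affx zy (ey ≫ 𝔸.b)
  letI := Φ.β.toAlgebra
  haveI : Module.Flat Φ.A Φ.B := Φ.flat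
  letI := baseModule F (Φ.ρ x)
  letI := baseModule F (Φ.ρ y)
  letI := baseModule F (Φ.σ zx)
  letI := baseModule F (Φ.σ zy)
  let θx := sqLift Φ.β F ex (Φ.ρ x) (Φ.σ zx) (Φ.w x 𝔸.affx)
  let θy := sqLift Φ.β F ey (Φ.ρ y) (Φ.σ zy) (Φ.w y 𝔸.affy)
  have hθx : Function.Bijective θx :=
    bijective_sqLift Φ.β F ex (Φ.ρ x) (Φ.σ zx) (Φ.affz x 𝔸.affx) 𝔸.affx (Φ.w x 𝔸.affx) (Φ.push x 𝔸.affx)
  have hθy : Function.Bijective θy :=
    bijective_sqLift Φ.β F ey (Φ.ρ y) (Φ.σ zy) (Φ.affz y 𝔸.affy) 𝔸.affy (Φ.w y 𝔸.affy) (Φ.push y 𝔸.affy)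
  -- the values of `ψ` on the generators
  let H : Sec E (q.obj zx) → Sec F (q.obj zx) := fun m => (toSec q F zx).symm ((ψ.app zx).app ⊤ (toSec q E zx m))
  have Hnat : ∀ (c : zy ⟶ zx) (m : Sec E (q.obj zx)),
      (toSec q F zy).symm ((ψ.app zy).app ⊤ (toSec q E zy (E.obj.mapTop (q.map c) m))) =
        F.obj.mapTop (q.map c) (H m) := by
    intro c m
    rw [AddEquiv.symm_apply_eq, ← comap_mapTop, ← comap_mapTop, AddEquiv.apply_symm_apply,
      StMod.Mod.mapTop_app]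
  have Hsmul : ∀ (z : 𝒵.obj) (r : Fn 𝒳 (q.obj z)) (m : Sec E (q.obj z)),
      (toSec q F z).symm ((ψ.app z).app ⊤ (toSec q E z (r • m))) =
        r • (toSec q F z).symm ((ψ.app z).app ⊤ (toSec q E z m)) := by
    intro z r m
    rw [AddEquiv.symm_apply_eq, toSec_smul, toSec_smul, Scheme.Modules.Hom.app_smul, AddEquiv.apply_symm_apply]
  let q' : Fin P.n → Sec F (q.obj zx) := fun j => H (E.obj.mapTop ex (P.e j))
  choose w hw using fun j => hθx.2 (q' j)
  let t : Φ.B ⊗[Φ.A] (Fin P.n → Sec F x) := (TensorProduct.piRight Φ.A Φ.A Φ.B _).symm w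
  have ht : ∀ j, θx ((LinearMap.proj j).lTensor Φ.B t) = q' j := by
    intro j
    have key : ∀ v : Φ.B ⊗[Φ.A] (Fin P.n → Sec F x),
        TensorProduct.piRight Φ.A Φ.A Φ.B _ v j = (LinearMap.proj j).lTensor Φ.B v := fun v => by
      induction v using TensorProduct.induction_on with
      | zero => simp
      | add a b ha hb => rw [map_add, Pi.add_apply, ha, hb, map_add]
      | tmul c z => rfl
    rw [← key, LinearEquiv.apply_symm_apply, hw]
  -- the equations
  let Lrel : (Fin P.n → Sec F x) →ₗ[Φ.A] (Fin P.m → Sec F x) :=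
    { toFun := fun v i => ∑ k, P.r i k • v k
      map_add' := fun a b => funext fun i => by simp [smul_add, Finset.sum_add_distrib]
      map_smul' := fun r a => funext fun i => by
        change ∑ k, P.r i k • Φ.ρ x r • a k = Φ.ρ x r • ∑ k, P.r i k • a k
        rw [Finset.smul_sum]
        exact Finset.sum_congr rfl fun k _ => smul_comm _ _ _ }
  let Lgl : (Fin P.n → Sec F x) →ₗ[Φ.A] (Fin P.n → Sec F y) :=
    { toFun := fun v j => F.obj.mapTop 𝔸.a (v j) - ∑ k, P.s j k • F.obj.mapTop 𝔸.b (v k)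
      map_add' := fun a b => funext fun j => by
        simp only [Pi.add_apply, F.obj.mapTop_add, smul_add, Finset.sum_add_distrib]
        abel
      map_smul' := fun r a => funext fun j => by
        change F.obj.mapTop 𝔸.a (Φ.ρ x r • a j) - ∑ k, P.s j k • F.obj.mapTop 𝔸.b (Φ.ρ x r • a k) =
          Φ.ρ y r • (F.obj.mapTop 𝔸.a (a j) - ∑ k, P.s j k • F.obj.mapTop 𝔸.b (a k))
        rw [smul_sub, Finset.smul_sum, F.obj.mapTop_smul]
        refine congrArg₂ (· - ·) (congrArg (· • _) (Φ.ρ_nat 𝔸.a r)) (Finset.sum_congr rfl fun k _ => ?_)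
        rw [F.obj.mapTop_smul, smul_comm]
        exact congrArg (· • _) (Φ.ρ_nat 𝔸.b r) }
  have hrel : Lrel.lTensor Φ.B t = 0 := by
    refine eq_zero_of_proj _ fun i => hθx.1 ?_
    rw [map_zero]
    have key : ∀ v : Φ.B ⊗[Φ.A] (Fin P.n → Sec F x),
        θx ((LinearMap.proj i).lTensor Φ.B (Lrel.lTensor Φ.B v)) =
          ∑ k, fnMap ex (P.r i k) • θx ((LinearMap.proj k).lTensor Φ.B v) := fun v => by
      induction v using TensorProduct.induction_on with
      | zero => simp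
      | add a b ha hb => simp only [map_add, smul_add, Finset.sum_add_distrib, ha, hb]
      | tmul c z =>
        simp only [θx, LinearMap.lTensor_tmul, sqLift_tmul]
        change _ • F.obj.mapTop ex (∑ k, P.r i k • z k) = _
        rw [show F.obj.mapTop ex (∑ k, P.r i k • z k) = ∑ k, F.obj.mapTop ex (P.r i k • z k) from
          map_sum (AddMonoidHom.mk' (F.obj.mapTop ex) (F.obj.mapTop_add ex)) _ _, Finset.smul_sum]
        refine Finset.sum_congr rfl fun k _ => ?_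
        rw [F.obj.mapTop_smul, smul_comm]
        rfl
    rw [key]
    simp only [ht, q']
    let Hm : Sec E (q.obj zx) →+ Sec F (q.obj zx) := AddMonoidHom.mk' H fun a b => by
      simp only [H, map_add]
    calc ∑ k, fnMap ex (P.r i k) • H (E.obj.mapTop ex (P.e k))
        = ∑ k, Hm (E.obj.mapTop ex (P.r i k • P.e k)) := Finset.sum_congr rfl fun k _ => by
          rw [E.obj.mapTop_smul]
          exact (Hsmul zx _ _).symm
      _ = Hm (E.obj.mapTop ex (∑ k, P.r i k • P.e k)) := by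
          rw [show E.obj.mapTop ex (∑ k, P.r i k • P.e k) = ∑ k, E.obj.mapTop ex (P.r i k • P.e k) from
            map_sum (AddMonoidHom.mk' (E.obj.mapTop ex) (E.obj.mapTop_add ex)) _ _, map_sum]
      _ = 0 := by rw [P.rel, E.obj.mapTop_zero, map_zero]
  have hgl : Lgl.lTensor Φ.B t = 0 := by
    refine eq_zero_of_proj _ fun j => hθy.1 ?_
    rw [map_zero]
    have hσ : ∀ (c : zy ⟶ zx) (r : Φ.B), fnMap (q.map c) (Φ.σ zx r) = Φ.σ zy r := fun c r => Φ.σ_nat c r
    have hpull : ∀ (α : y ⟶ x) (c : zy ⟶ zx) (hc : q.map c ≫ ex = ey ≫ α) (v : Φ.B ⊗[Φ.A] Sec F x)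
        (g : Sec F x →ₗ[Φ.A] Sec F y) (hg : ∀ m, g m = F.obj.mapTop α m),
        θy (g.lTensor Φ.B v) = F.obj.mapTop (q.map c) (θx v) := by
      intro α c hc v g hg
      induction v using TensorProduct.induction_on with
      | zero => simp [StMod.Mod.mapTop_zero]
      | add a b ha hb => rw [map_add, map_add, ha, hb, map_add, F.obj.mapTop_add]
      | tmul r m =>
        simp only [θx, θy, LinearMap.lTensor_tmul, sqLift_tmul, hg]
        rw [F.obj.mapTop_smul, ← F.obj.mapTop_comp, ← F.obj.mapTop_comp, hc]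
        exact congrArg (· • _) (hσ c r).symm
    have key : ∀ v : Φ.B ⊗[Φ.A] (Fin P.n → Sec F x),
        θy ((LinearMap.proj j).lTensor Φ.B (Lgl.lTensor Φ.B v)) =
          F.obj.mapTop (q.map ca) (θx ((LinearMap.proj j).lTensor Φ.B v)) -
            ∑ k, fnMap ey (P.s j k) • F.obj.mapTop (q.map cb) (θx ((LinearMap.proj k).lTensor Φ.B v)) := fun v => by
      induction v using TensorProduct.induction_on with
      | zero => simp [StMod.Mod.mapTop_zero]
      | add a b ha hb =>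
        simp only [map_add, F.obj.mapTop_add, smul_add, Finset.sum_add_distrib, ha, hb]
        abel
      | tmul r z =>
        simp only [θx, θy, LinearMap.lTensor_tmul, sqLift_tmul]
        change _ • F.obj.mapTop ey (F.obj.mapTop 𝔸.a (z j) - ∑ k, P.s j k • F.obj.mapTop 𝔸.b (z k)) = _
        let L : Sec F y →+ Sec F (q.obj zy) := AddMonoidHom.mk' (F.obj.mapTop ey) (F.obj.mapTop_add ey)
        rw [show F.obj.mapTop ey (F.obj.mapTop 𝔸.a (z j) - ∑ k, P.s j k • F.obj.mapTop 𝔸.b (z k)) =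
          L (F.obj.mapTop 𝔸.a (z j)) - ∑ k, L (P.s j k • F.obj.mapTop 𝔸.b (z k)) from
            (map_sub L _ _).trans (congrArg (L (F.obj.mapTop 𝔸.a (z j)) - ·) (map_sum L _ _)), smul_sub, Finset.smul_sum]
        refine congrArg₂ (· - ·) ?_ (Finset.sum_congr rfl fun k _ => ?_)
        · change _ • F.obj.mapTop ey _ = _
          rw [F.obj.mapTop_smul, ← F.obj.mapTop_comp, ← F.obj.mapTop_comp, hca]
          exact congrArg (· • _) (hσ ca r).symm
        · change _ • F.obj.mapTop ey _ = _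
          rw [F.obj.mapTop_smul, F.obj.mapTop_smul, smul_comm, ← F.obj.mapTop_comp, ← F.obj.mapTop_comp, hcb]
          exact congrArg (_ • ·) (congrArg (· • _) (hσ cb r).symm)
    rw [key]
    simp only [ht, q']
    rw [← Hnat, sub_eq_zero]
    let K : Sec E (q.obj zy) →+ Sec F (q.obj zy) :=
      AddMonoidHom.mk' (fun m => (toSec q F zy).symm ((ψ.app zy).app ⊤ (toSec q E zy m))) fun a b => by
        simp only [map_add]
    let L : Sec E y →+ Sec E (q.obj zy) := AddMonoidHom.mk' (E.obj.mapTop ey) (E.obj.mapTop_add ey)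
    calc (toSec q F zy).symm ((ψ.app zy).app ⊤ (toSec q E zy (E.obj.mapTop (q.map ca) (E.obj.mapTop ex (P.e j)))))
        = K (L (∑ k, P.s j k • E.obj.mapTop 𝔸.b (P.e k))) := by
          rw [← E.obj.mapTop_comp, hca, E.obj.mapTop_comp, P.trans]
          rfl
      _ = ∑ k, K (L (P.s j k • E.obj.mapTop 𝔸.b (P.e k))) := by rw [map_sum, map_sum]
      _ = _ := Finset.sum_congr rfl fun k _ => by
          rw [← Hnat]
          refine (congrArg K (E.obj.mapTop_smul ey _ _)).trans ((Hsmul zy _ _).trans ?_)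
          rw [← E.obj.mapTop_comp, ← E.obj.mapTop_comp, hcb]
  -- compatible tuples over the base give morphisms killed by `u`
  have hker : Lrel.prod Lgl ∘ₗ (LinearMap.ker (Lrel.prod Lgl)).subtype = 0 := LinearMap.ext fun v => v.2
  obtain ⟨t', ht'⟩ : t ∈ Set.range ((LinearMap.ker (Lrel.prod Lgl)).subtype.lTensor Φ.B) := by
    refine ((Module.Flat.lTensor_exact Φ.B (LinearMap.exact_subtype_ker_map _)) t).1 ?_
    refine (TensorProduct.prodRight Φ.A Φ.A Φ.B _ _).injective ?_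
    have key : ∀ v : Φ.B ⊗[Φ.A] (Fin P.n → Sec F x),
        TensorProduct.prodRight Φ.A Φ.A Φ.B _ _ ((Lrel.prod Lgl).lTensor Φ.B v) =
          (Lrel.lTensor Φ.B v, Lgl.lTensor Φ.B v) := fun v => by
      induction v using TensorProduct.induction_on with
      | zero => simp only [map_zero]; rfl
      | add a b ha hb => simp only [map_add, ha, hb, Prod.mk_add_mk]
      | tmul c z => rfl
    rw [key, hrel, hgl, map_zero]
    rfl
  have huq : ∀ j, (u.app (q.obj zx)).app ⊤ (q' j) = 0 := by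
    intro j
    rw [← ht, ← ht']
    clear ht'
    induction t' using TensorProduct.induction_on with
    | zero => simp
    | add a b ha hb => rw [map_add, map_add, map_add, map_add, ha, hb, add_zero]
    | tmul c v =>
      obtain ⟨φ, hφ⟩ := P.exists_hom hp (F := F) v.1
        (fun i => congr_fun (congrArg Prod.fst v.2) i)
        (fun j => sub_eq_zero.1 (congr_fun (congrArg Prod.snd v.2) j))
      have h0 : (u.app x).app ⊤ (v.1 j) = 0 := by
        rw [← hφ]
        have := congrArg (fun f => (StMod.Mod.Hom.app f x).app ⊤ (P.e j)) (hu φ)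
        simpa using this
      simp only [θx, LinearMap.lTensor_tmul, sqLift_tmul, Scheme.Modules.Hom.app_smul]
      change Φ.σ zx c • (u.app (q.obj zx)).app ⊤ (F.obj.mapTop ex (v.1 j)) = 0
      rw [← StMod.Mod.mapTop_app, h0, G.obj.mapTop_zero, smul_zero]
  have hzx : ∀ m : Sec E (q.obj zx), (u.app (q.obj zx)).app ⊤ (H m) = 0 := by
    intro m
    refine sec_induction (φ := ex) (Φ.affz x 𝔸.affx) 𝔸.affx (P := fun m => (u.app (q.obj zx)).app ⊤ (H m) = 0) m ?_ ?_ ?_
    · simp only [H, map_zero]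
    · intro a b ha hb
      simp only [H, map_add] at ha hb ⊢
      rw [ha, hb, add_zero]
    · intro c p
      have hH : H (c • E.obj.mapTop ex p) = c • H (E.obj.mapTop ex p) := Hsmul zx _ _
      rw [hH, Scheme.Modules.Hom.app_smul]
      clear hH
      have hpmem : p ∈ Submodule.span (Fn 𝒳 x) (Set.range P.e) := P.span ▸ Submodule.mem_top
      suffices (u.app (q.obj zx)).app ⊤ (H (E.obj.mapTop ex p)) = 0 by rw [this, smul_zero]
      induction hpmem using Submodule.span_induction with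
      | mem p hp =>
        obtain ⟨j, rfl⟩ := hp
        exact huq j
      | zero => simp only [H, StMod.Mod.mapTop_zero, map_zero]
      | add a b _ _ ha hb =>
        simp only [H, E.obj.mapTop_add, map_add] at ha hb ⊢
        rw [ha, hb, add_zero]
      | smul r a _ ha =>
        rw [E.obj.mapTop_smul, show H (fnMap ex r • E.obj.mapTop ex a) = fnMap ex r • H (E.obj.mapTop ex a) from
          Hsmul zx _ _, Scheme.Modules.Hom.app_smul, ha, smul_zero]
  have hat : ∀ s : Sec ((StMod.comapQ q).obj E) zx,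
      ((ψ ≫ StMod.Mod.comapMap q u).app zx).app ⊤ s = 0 := by
    intro s
    obtain ⟨m, rfl⟩ := (toSec q E zx).surjective s
    change ((StMod.Mod.comapMap q u).app zx).app ⊤ ((ψ.app zx).app ⊤ (toSec q E zx m)) = 0
    obtain ⟨n, hn⟩ := (toSec q F zx).surjective ((ψ.app zx).app ⊤ (toSec q E zx m))
    rw [← hn, comapMap_toSec, show n = H m from ((AddEquiv.symm_apply_eq _).2 hn.symm).symm, hzx, map_zero]
  refine hom_ext_affine (F := (StMod.comapQ q).obj E) (G := (StMod.comapQ q).obj G) hpz fun ζ hζ s => ?_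
  haveI := (isAffine_obj_iff q ζ).2 hζ
  obtain ⟨ξ', φ, hφ, ⟨α⟩⟩ := 𝔸.cov (q.obj ζ) ‹_›
  obtain ⟨ζ', c, e, he⟩ := exists_lift hpz ζ (StMod.bmap 𝒳 φ ≫ eqToHom (StMod.sch_obj_eq q ζ))
  haveI := hφ.1
  haveI := hφ.2.1
  haveI := hφ.2.2
  have hc : IsCov c := by
    refine ⟨IsAffine.of_isIso e.hom, ?_, ?_⟩ <;> rw [he] <;> infer_instance
  obtain ⟨d, -, -⟩ := exists_factor hp φ (q.map c) (eqToHom (StMod.sch_obj_eq q ζ') ≫ e.hom) (by
    rw [← cancel_mono (eqToHom (StMod.sch_obj_eq q ζ)), StMod.bmap_map_comm q c rfl, he, Category.assoc,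
      Category.assoc])
  obtain ⟨c', -⟩ := Φ.fac x 𝔸.affx ζ' (d ≫ α)
  refine injective_mapTop_cov (F := (StMod.comapQ q).obj G) hc ?_
  rw [StMod.Mod.mapTop_app, StMod.Mod.mapTop_app, StMod.Mod.zero_app]
  refine sec_induction (F := (StMod.comapQ q).obj E) (φ := c') hc.1 ((isAffine_obj_iff q zx).1 (Φ.affz x 𝔸.affx))
    (P := fun m => ((ψ ≫ StMod.Mod.comapMap q u).app ζ').app ⊤ m = _) _ ?_ ?_ ?_
  · simp
  · intro a b ha hb
    rw [map_add, ha, hb]
    simp
  · intro r m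
    rw [Scheme.Modules.Hom.app_smul, ← StMod.Mod.mapTop_app, hat, StMod.Mod.mapTop_zero, smul_zero]
    simp

end Groth.Agent.H14QCoh
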