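import Groth.Agent.H14QCoh.Cast
import Groth.Agent.H10Coh.FlatBC.Transpose
import Mathlib.AlgebraicGeometry.Morphisms.Flat

/-!
# Direct image of quasi-coherent modules along an affine representable functor
-/

set_option autoImplicit false
set_option linter.style.haveILetI false
set_option backward.isDefEq.respectTransparency false
set_option backward.isDefEq.respectTransparency.types false

universe w' v' w v u

open CategoryTheory CategoryTheory.Limits AlgebraicGeometry Opposite TopologicalSpace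
open scoped TensorProduct

noncomputable section

namespace Groth.Agent.H14QCoh

variable {S : Scheme.{u}} {𝒳 : BasedCategory.{v, w} (Over S)} {𝒵 : BasedCategory.{v', w'} (Over S)}

/-- `q` is representable by affine morphisms: every object has a universal arrow from the image of `q`. -/
structure AffRep (q : 𝒵 ⥤ᵇ 𝒳) where
  z : 𝒳.obj → 𝒵.obj
  e : ∀ ξ, q.obj (z ξ) ⟶ ξ
  isAffineHom : ∀ ξ, IsAffineHom (StMod.bmap 𝒳 (e ξ))
  existsUnique : ∀ ξ (ζ : 𝒵.obj) (α : q.obj ζ ⟶ ξ), ∃! c : ζ ⟶ z ξ, q.map c ≫ e ξ = α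
  cart : ∀ ⦃ξ' ξ : 𝒳.obj⦄ (φ : ξ' ⟶ ξ) (c : z ξ' ⟶ z ξ), q.map c ≫ e ξ = e ξ' ≫ φ →
    IsPullback (StMod.bmap 𝒳 (q.map c)) (StMod.bmap 𝒳 (e ξ')) (StMod.bmap 𝒳 (e ξ)) (StMod.bmap 𝒳 φ)

namespace AffRep

variable {q : 𝒵 ⥤ᵇ 𝒳} (R : AffRep q)

/-- The affine morphism of schemes of an object. -/
def g (ξ : 𝒳.obj) : StMod.sch 𝒵 (R.z ξ) ⟶ StMod.sch 𝒳 ξ :=
  eqToHom (StMod.sch_obj_eq q (R.z ξ)).symm ≫ StMod.bmap 𝒳 (R.e ξ)

instance (ξ : 𝒳.obj) : IsAffineHom (R.g ξ) :=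
  haveI := R.isAffineHom ξ
  inferInstanceAs (IsAffineHom (eqToHom _ ≫ StMod.bmap 𝒳 (R.e ξ)))

/-- The arrow between the universal objects. -/
def c {ξ' ξ : 𝒳.obj} (φ : ξ' ⟶ ξ) : R.z ξ' ⟶ R.z ξ := (R.existsUnique ξ (R.z ξ') (R.e ξ' ≫ φ)).exists.choose

lemma c_spec {ξ' ξ : 𝒳.obj} (φ : ξ' ⟶ ξ) : q.map (R.c φ) ≫ R.e ξ = R.e ξ' ≫ φ :=
  (R.existsUnique ξ (R.z ξ') (R.e ξ' ≫ φ)).exists.choose_spec

lemma c_id (ξ : 𝒳.obj) : R.c (𝟙 ξ) = 𝟙 (R.z ξ) :=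
  (R.existsUnique ξ (R.z ξ) (R.e ξ ≫ 𝟙 ξ)).unique (R.c_spec _) (by simp)

lemma c_comp {ξ'' ξ' ξ : 𝒳.obj} (ψ : ξ'' ⟶ ξ') (φ : ξ' ⟶ ξ) : R.c (ψ ≫ φ) = R.c ψ ≫ R.c φ :=
  (R.existsUnique ξ (R.z ξ'') (R.e ξ'' ≫ ψ ≫ φ)).unique (R.c_spec _) (by
    rw [q.map_comp, Category.assoc, R.c_spec, ← Category.assoc, R.c_spec, Category.assoc])

lemma g_bmap {ξ' ξ : 𝒳.obj} (φ : ξ' ⟶ ξ) :
    StMod.bmap 𝒵 (R.c φ) ≫ R.g ξ = R.g ξ' ≫ StMod.bmap 𝒳 φ := by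
  rw [g, g, Category.assoc, ← StMod.bmap_comp, ← R.c_spec φ, StMod.bmap_comp, ← Category.assoc, ← Category.assoc]
  congr 1
  rw [← cancel_mono (eqToHom (StMod.sch_obj_eq q (R.z ξ))), Category.assoc, Category.assoc,
    StMod.bmap_map_comm q (R.c φ) rfl]
  simp

lemma isPullback_g {ξ' ξ : 𝒳.obj} (φ : ξ' ⟶ ξ) :
    IsPullback (StMod.bmap 𝒵 (R.c φ)) (R.g ξ') (R.g ξ) (StMod.bmap 𝒳 φ) :=
  (R.cart φ (R.c φ) (R.c_spec φ)).of_iso (eqToIso (StMod.sch_obj_eq q (R.z ξ')))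
    (eqToIso (StMod.sch_obj_eq q (R.z ξ))) (Iso.refl _) (Iso.refl _)
    (by simp [StMod.bmap_map_comm q (R.c φ) rfl]) (by simp [g]) (by simp [g]) (by simp)

attribute [local irreducible] g

/-- The comparison map of the direct image. -/
def pushMap (N : StMod.Mod 𝒵) {ξ' ξ : 𝒳.obj} (φ : ξ' ⟶ ξ) {h : StMod.sch 𝒳 ξ' ⟶ StMod.sch 𝒳 ξ}
    (hh : StMod.bmap 𝒳 φ = h) :
    (Scheme.Modules.pushforward (R.g ξ)).obj (N.obj (R.z ξ)) ⟶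
      (Scheme.Modules.pushforward h).obj ((Scheme.Modules.pushforward (R.g ξ')).obj (N.obj (R.z ξ'))) :=
  (Scheme.Modules.pushforward (R.g ξ)).map (N.map (R.c φ) rfl) ≫
    (Scheme.Modules.pushforwardComp (StMod.bmap 𝒵 (R.c φ)) (R.g ξ)).hom.app _ ≫
    (Scheme.Modules.pushforwardCongr ((R.g_bmap φ).trans (congrArg (R.g ξ' ≫ ·) hh))).hom.app _ ≫
    (Scheme.Modules.pushforwardComp (R.g ξ') h).inv.app _

lemma pre_eq {ξ' ξ : 𝒳.obj} (φ : ξ' ⟶ ξ) {h : StMod.sch 𝒳 ξ' ⟶ StMod.sch 𝒳 ξ} (hh : StMod.bmap 𝒳 φ = h)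
    (U : (StMod.sch 𝒳 ξ).Opens) :
    R.g ξ' ⁻¹ᵁ (h ⁻¹ᵁ U) = StMod.bmap 𝒵 (R.c φ) ⁻¹ᵁ (R.g ξ ⁻¹ᵁ U) := by
  rw [← Scheme.Hom.comp_preimage, ← Scheme.Hom.comp_preimage, R.g_bmap φ, hh]

lemma pushMap_app (N : StMod.Mod 𝒵) {ξ' ξ : 𝒳.obj} (φ : ξ' ⟶ ξ) {h : StMod.sch 𝒳 ξ' ⟶ StMod.sch 𝒳 ξ}
    (hh : StMod.bmap 𝒳 φ = h) (U : (StMod.sch 𝒳 ξ).Opens) (m : Γ(N.obj (R.z ξ), R.g ξ ⁻¹ᵁ U)) :
    (R.pushMap N φ hh).app U m =
      H10Coh.rs (N.obj (R.z ξ')) (R.pre_eq φ hh U).le ((N.map (R.c φ) rfl).app (R.g ξ ⁻¹ᵁ U) m) := by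
  rw [pushMap, Scheme.Modules.Hom.comp_app, Scheme.Modules.Hom.comp_app, Scheme.Modules.Hom.comp_app,
    Scheme.Modules.pushforward_map_app, Scheme.Modules.pushforwardComp_hom_app_app,
    Scheme.Modules.pushforwardCongr_hom_app_app, Scheme.Modules.pushforwardComp_inv_app_app]
  rfl

/-- Comparison maps along equal arrows. -/
lemma rs_map_congr (N : StMod.Mod 𝒵) {z' z : 𝒵.obj} {a b : z' ⟶ z} (e : a = b) {U : (StMod.sch 𝒵 z).Opens}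
    {V : (StMod.sch 𝒵 z').Opens} {ga gb : StMod.sch 𝒵 z' ⟶ StMod.sch 𝒵 z} (ha : StMod.bmap 𝒵 a = ga)
    (hb : StMod.bmap 𝒵 b = gb) (h₁ : V ≤ ga ⁻¹ᵁ U) (h₂ : V ≤ gb ⁻¹ᵁ U) (m : Γ(N.obj z, U)) :
    H10Coh.rs (N.obj z') h₁ ((N.map a ha).app U m) = H10Coh.rs (N.obj z') h₂ ((N.map b hb).app U m) := by
  subst e ha hb
  rfl

lemma rs_map_one (N : StMod.Mod 𝒵) {z : 𝒵.obj} {a : z ⟶ z} (ea : a = 𝟙 z) {ga : StMod.sch 𝒵 z ⟶ StMod.sch 𝒵 z}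
    (ha : StMod.bmap 𝒵 a = ga) {U V : (StMod.sch 𝒵 z).Opens} (h₁ : V ≤ ga ⁻¹ᵁ U) (h₂ : V ≤ U) (m : Γ(N.obj z, U)) :
    H10Coh.rs (N.obj z) h₁ ((N.map a ha).app U m) = H10Coh.rs (N.obj z) h₂ m := by
  subst ea
  obtain rfl : ga = 𝟙 _ := ha.symm.trans (StMod.bmap_id z)
  rw [StMod.Mod.map_id_app]
  rfl

lemma rs_preimage_id {Z X : Scheme.{u}} (g : Z ⟶ X) (M : Z.Modules) (U : X.Opens)
    (h : g ⁻¹ᵁ ((𝟙 X : X ⟶ X) ⁻¹ᵁ U) ≤ g ⁻¹ᵁ U) (m : Γ(M, g ⁻¹ᵁ U)) : H10Coh.rs M h m = m :=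
  H10Coh.rs_self M _ m

lemma pushMap_id_app (N : StMod.Mod 𝒵) (ξ : 𝒳.obj) (U : (StMod.sch 𝒳 ξ).Opens)
    (m : Γ(N.obj (R.z ξ), R.g ξ ⁻¹ᵁ U)) : (R.pushMap N (𝟙 ξ) (StMod.bmap_id ξ)).app U m = m := by
  have hU : (𝟙 (StMod.sch 𝒳 ξ) : StMod.sch 𝒳 ξ ⟶ StMod.sch 𝒳 ξ) ⁻¹ᵁ U ≤ U := le_rfl
  exact ((R.pushMap_app N (𝟙 ξ) (StMod.bmap_id ξ) U m).trans
    (rs_map_one N (R.c_id ξ) rfl (R.pre_eq (𝟙 ξ) (StMod.bmap_id ξ) U).le ((R.g ξ).preimage_mono hU) m)).trans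
    (rs_preimage_id (R.g ξ) _ U ((R.g ξ).preimage_mono hU) m)

lemma rs_pushforward {Z X : Scheme.{u}} (f : Z ⟶ X) (M : Z.Modules) {U V : X.Opens} (h : V ≤ U) (x : Γ(M, f ⁻¹ᵁ U)) :
    H10Coh.rs ((Scheme.Modules.pushforward f).obj M) h x = H10Coh.rs M (f.preimage_mono h) x :=
  rfl

lemma pushMap_comp_app (N : StMod.Mod 𝒵) {ξ'' ξ' ξ : 𝒳.obj} (ψ : ξ'' ⟶ ξ') (φ : ξ' ⟶ ξ)
    {h : StMod.sch 𝒳 ξ'' ⟶ StMod.sch 𝒳 ξ'} {g : StMod.sch 𝒳 ξ' ⟶ StMod.sch 𝒳 ξ}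
    (hh : StMod.bmap 𝒳 ψ = h) (hg : StMod.bmap 𝒳 φ = g) (H : StMod.bmap 𝒳 (ψ ≫ φ) = h ≫ g)
    (U : (StMod.sch 𝒳 ξ).Opens) (m : Γ(N.obj (R.z ξ), R.g ξ ⁻¹ᵁ U)) :
    (R.pushMap N (ψ ≫ φ) H).app U m = (R.pushMap N ψ hh).app (g ⁻¹ᵁ U) ((R.pushMap N φ hg).app U m) := by
  refine (R.pushMap_app N (ψ ≫ φ) H U m).trans (Eq.trans ?_ (R.pushMap_app N ψ hh (g ⁻¹ᵁ U) _).symm)
  have e1 := R.pushMap_app N φ hg U m
  have e2 := (congrArg ((N.map (R.c ψ) rfl).app (R.g ξ' ⁻¹ᵁ (g ⁻¹ᵁ U))) e1).trans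
    ((H10Coh.app_rs (N.map (R.c ψ) rfl) (R.pre_eq φ hg U).le _).trans (rs_pushforward _ _ _ _))
  refine Eq.trans ?_ ((congrArg (H10Coh.rs (N.obj (R.z ξ'')) (R.pre_eq ψ hh (g ⁻¹ᵁ U)).le) e2).trans
    (H10Coh.rs_rs _ _ _ _)).symm
  have hle : R.g ξ'' ⁻¹ᵁ ((h ≫ g) ⁻¹ᵁ U) ≤
      (StMod.bmap 𝒵 (R.c ψ) ≫ StMod.bmap 𝒵 (R.c φ)) ⁻¹ᵁ (R.g ξ ⁻¹ᵁ U) :=
    (R.pre_eq ψ hh (g ⁻¹ᵁ U)).le.trans ((StMod.bmap 𝒵 (R.c ψ)).preimage_mono (R.pre_eq φ hg U).le)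
  refine (rs_map_congr N (R.c_comp ψ φ) rfl (StMod.bmap_comp _ _) _ hle m).trans ?_
  rw [StMod.Mod.map_comp_app N (R.c ψ) (R.c φ) rfl rfl]
  rfl

/-- The direct image of a module. -/
def pushMod (N : StMod.Mod 𝒵) : StMod.Mod 𝒳 where
  obj ξ := (Scheme.Modules.pushforward (R.g ξ)).obj (N.obj (R.z ξ))
  map φ _ hh := R.pushMap N φ hh
  map_id ξ := by
    refine Scheme.Modules.hom_ext _ _ fun U => ?_
    rw [Scheme.Modules.Hom.comp_app, Scheme.Modules.pushforwardId_hom_app_app, Category.comp_id,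
      Scheme.Modules.Hom.id_app]
    exact AddCommGrpCat.hom_ext (AddMonoidHom.ext fun m => R.pushMap_id_app N ξ U m)
  map_comp {ξ2 ξ1 ξ} ψ φ {h g} hh hg := by
    refine Scheme.Modules.hom_ext _ _ fun U => AddCommGrpCat.hom_ext (AddMonoidHom.ext fun m => ?_)
    exact R.pushMap_comp_app N ψ φ hh hg (by rw [StMod.bmap_comp, hh, hg]) U m

/-- The direct image of a morphism. -/
def pushHom {N N' : StMod.Mod 𝒵} (u : N ⟶ N') : R.pushMod N ⟶ R.pushMod N' where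
  app ξ := (Scheme.Modules.pushforward (R.g ξ)).map (u.app (R.z ξ))
  comm {ξ' ξ} φ h hh := by
    refine Scheme.Modules.hom_ext _ _ fun U => AddCommGrpCat.hom_ext (AddMonoidHom.ext fun m => ?_)
    change (u.app (R.z ξ')).app (R.g ξ' ⁻¹ᵁ (h ⁻¹ᵁ U)) ((R.pushMap N φ hh).app U m) =
      (R.pushMap N' φ hh).app U ((u.app (R.z ξ)).app (R.g ξ ⁻¹ᵁ U) m)
    rw [pushMap_app, pushMap_app, H10Coh.app_rs]
    exact congrArg _ (congr($(congrArg (fun f => Scheme.Modules.Hom.app f (R.g ξ ⁻¹ᵁ U)) (u.comm (R.c φ) rfl)) m))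

theorem isLocQCoh_pushMod (N : StMod.QCoh 𝒵) : (R.pushMod N.obj).IsLocQCoh := fun ξ =>
  haveI : (N.obj.obj (R.z ξ)).IsQuasicoherent := N.property.2 (R.z ξ)
  H10Coh.isQuasicoherent_pushforward_of_isAffineHom (R.g ξ) _

theorem isCartesian_pushMod (N : StMod.QCoh 𝒵) : (R.pushMod N.obj).IsCartesian := by
  intro ξ' ξ φ h hh
  subst hh
  refine H10Coh.FBC.isIso_transpose (StMod.bmap 𝒳 φ) (R.isLocQCoh_pushMod N ξ) _ fun U V hU hV hle => ?_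
  let gz := R.g ξ
  let gz' := R.g ξ'
  let cz := StMod.bmap 𝒵 (R.c φ)
  let P := gz ⁻¹ᵁ U
  let P' := gz' ⁻¹ᵁ V
  have hP : IsAffineOpen P := hU.preimage gz
  have hP' : IsAffineOpen P' := hV.preimage gz'
  have hle' : P' ≤ cz ⁻¹ᵁ P := ((R.g ξ').preimage_mono hle).trans (R.pre_eq φ rfl U).le
  have hPP : P' = cz ⁻¹ᵁ P ⊓ gz' ⁻¹ᵁ V := (inf_eq_right.2 hle').symm
  have hpush := (isIso_pushoutSection_iff (R.isPullback_g φ) hle (le_refl (gz ⁻¹ᵁ U)) hPP).1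
    (isIso_pushoutSection_of_isAffineOpen (R.isPullback_g φ) hle le_rfl hPP hU hV hP)
  let A := Γ(StMod.sch 𝒳 ξ, U)
  let B := Γ(StMod.sch 𝒳 ξ', V)
  let K := Γ(StMod.sch 𝒵 (R.z ξ), P)
  let K' := Γ(StMod.sch 𝒵 (R.z ξ'), P')
  let fA : A →+* K := (gz.appLE U P le_rfl).hom
  let fB : B →+* K' := (gz'.appLE V P' le_rfl).hom
  let fK : K →+* K' := (cz.appLE P P' hle').hom
  letI : Algebra A B := ((StMod.bmap 𝒳 φ).appLE U V hle).hom.toAlgebra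
  letI : Algebra A K := fA.toAlgebra
  letI : Algebra B K' := fB.toAlgebra
  letI : Algebra K K' := fK.toAlgebra
  letI : Algebra A K' := (fK.comp fA).toAlgebra
  haveI : IsScalarTower A K K' := .of_algebraMap_eq fun _ => rfl
  haveI : IsScalarTower A B K' := .of_algebraMap_eq fun r => (congr($(hpush.w) r) : _)
  haveI : Algebra.IsPushout A K B K' := CommRingCat.isPushout_iff_isPushout.1 hpush
  haveI : Algebra.IsPushout A B K K' := Algebra.IsPushout.symm inferInstance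
  let M := Γ((R.pushMod N.obj).obj ξ, U)
  let M' := Γ((R.pushMod N.obj).obj ξ', V)
  letI : Module K M := (inferInstance : Module K Γ(N.obj.obj (R.z ξ), P))
  letI : Module K' M' := (inferInstance : Module K' Γ(N.obj.obj (R.z ξ'), P'))
  letI : Module K M' := Module.compHom M' fK
  letI : Module K Γ(N.obj.obj (R.z ξ'), P') := Module.compHom _ fK
  letI : Module A Γ(N.obj.obj (R.z ξ), P) := Module.compHom _ fA
  haveI : IsScalarTower A K M := .of_algebraMap_smul fun r m =>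
    congrArg (fun k : K => k • m) (congr($(Scheme.Hom.appLE_eq_app gz) r))
  haveI : IsScalarTower K K' M' := .of_algebraMap_smul fun r m => rfl
  haveI : IsScalarTower B K' M' := .of_algebraMap_smul fun r m =>
    congrArg (fun k : K' => k • m) (congr($(Scheme.Hom.appLE_eq_app gz') r))
  haveI : IsScalarTower K K' Γ(N.obj.obj (R.z ξ'), P') := .of_algebraMap_smul fun r m => rfl
  have hb := isBaseChange_resLin N (R.c φ) hle' hP hP'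
  letI : Module A M' := Module.compHom M' ((StMod.bmap 𝒳 φ).appLE U V hle).hom
  haveI : IsScalarTower A B M' := .of_algebraMap_smul fun r m => rfl
  let E := (Algebra.IsPushout.cancelBaseChange A B K K' M).symm
  have hbij : Function.Bijective fun t : B ⊗[A] M => hb.equiv (E t) := hb.equiv.bijective.comp E.bijective
  have happ : ∀ m : M, H10Coh.FBC.locLin (StMod.bmap 𝒳 φ)
      (N := (Scheme.Modules.pushforward (R.g ξ)).obj (N.obj.obj (R.z ξ)))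
      ((R.pushMod N.obj).map φ rfl) hle m = resLin N (R.c φ) hle' m := by
    intro m
    change H10Coh.rs (N.obj.obj (R.z ξ')) ((R.g ξ').preimage_mono hle) ((R.pushMap N.obj φ rfl).app U m) = _
    rw [pushMap_app, H10Coh.rs_rs]
    rfl
  refine (congrArg Function.Bijective (funext fun t => ?_)).mpr hbij
  induction t using TensorProduct.induction_on with
  | zero => rw [map_zero, map_zero, map_zero]
  | add a b ha hb' => rw [map_add, map_add, map_add, ha, hb']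
  | tmul r m =>
    have hE : E ((1 : B) ⊗ₜ[A] m) = (1 : K') ⊗ₜ[K] m := by
      rw [LinearEquiv.symm_apply_eq, Algebra.IsPushout.cancelBaseChange_tmul]
    rw [show r ⊗ₜ[A] m = r • ((1 : B) ⊗ₜ[A] m) by rw [TensorProduct.smul_tmul', smul_eq_mul, mul_one], map_smul E,
      hE, ← IsScalarTower.algebraMap_smul K' r ((1 : K') ⊗ₜ[K] m), map_smul hb.equiv, IsBaseChange.equiv_tmul,
      one_smul, map_smul, LinearMap.liftBaseChange_tmul, one_smul]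
    refine (congrArg (r • ·) (happ m)).trans ?_
    exact (congrArg (fun k : K' => k • resLin N (R.c φ) hle' m) (congr($(Scheme.Hom.appLE_eq_app gz') r))).symm

/-- The direct image as a quasi-coherent module. -/
def push (N : StMod.QCoh 𝒵) : StMod.QCoh 𝒳 := ⟨R.pushMod N.obj, R.isCartesian_pushMod N, R.isLocQCoh_pushMod N⟩

end AffRep

end Groth.Agent.H14QCoh
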