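import Groth.Agent.H14QCoh.FibCat
import Groth.Agent.H14QCoh.Flat
import Groth.Agent.H14QCoh.Push
import Mathlib.AlgebraicGeometry.Morphisms.Affine

/-!
# Change of the object: base change of the categories over affine objects
-/

set_option autoImplicit false
set_option linter.style.haveILetI false
set_option backward.isDefEq.respectTransparency false
set_option backward.isDefEq.respectTransparency.types false

universe u

open CategoryTheory CategoryTheory.Limits AlgebraicGeometry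

noncomputable section

namespace Groth.Agent.H14QCoh

variable {S : Scheme.{u}} {𝒳 𝒴 : AlgSt.Cat S} (f : 𝒳 ⥤ᵇ 𝒴)

/-- The projection of an object over `η` to the scheme of `η`. -/
def pr {η : 𝒴.obj} (x : (StMod.fibCat f η).obj) : StMod.sch (StMod.fibCat f η) x ⟶ StMod.sch 𝒴 η :=
  eqToHom (StMod.sch_obj_eq f x.left).symm ≫ StMod.bmap 𝒴 x.hom

lemma bmap_pr {η : 𝒴.obj} {x' x : (StMod.fibCat f η).obj} (k : x' ⟶ x) :
    StMod.bmap (StMod.fibCat f η) k ≫ pr f x = pr f x' := by
  change StMod.bmap 𝒳 k.left ≫ pr f x = _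
  rw [pr, pr, ← CostructuredArrow.w k, StMod.bmap_comp, ← Category.assoc, ← Category.assoc]
  refine congrArg (· ≫ _) ?_
  rw [← cancel_epi (eqToHom (StMod.sch_obj_eq f x'.left)), ← Category.assoc, ← StMod.bmap_map_comm f k.left rfl]
  simp

variable {η' η : 𝒴.obj} (β : η' ⟶ η)

/-- The functor changing the object. -/
def bcFun : StMod.fibCat f η' ⥤ᵇ StMod.fibCat f η where
  toFunctor := CostructuredArrow.map β
  w := rfl

lemma pr_bcFun (ζ : (StMod.fibCat f η').obj) :
    pr f ((bcFun f β).obj ζ) = pr f ζ ≫ StMod.bmap 𝒴 β := by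
  change eqToHom _ ≫ StMod.bmap 𝒴 (ζ.hom ≫ β) = _
  rw [StMod.bmap_comp, pr, Category.assoc]

theorem exists_bc (hp : FibCat.IsFibGrpd 𝒳.p) (hq : FibCat.IsFibGrpd 𝒴.p) (x : (StMod.fibCat f η).obj) :
    ∃ (z : (StMod.fibCat f η').obj) (e : (bcFun f β).obj z ⟶ x),
      IsPullback (pr f z) (StMod.bmap (StMod.fibCat f η) e) (StMod.bmap 𝒴 β) (pr f x) ∧
      ∀ (ζ : (StMod.fibCat f η').obj) (γ : (bcFun f β).obj ζ ⟶ x), ∃! c : ζ ⟶ z, (bcFun f β).map c ≫ e = γ := by
  obtain ⟨ξ, φ, ei, hφ⟩ := exists_lift hp x.left (pullback.snd (StMod.bmap 𝒴 β) (pr f x))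
  have hcomm : StMod.bmap 𝒳 φ ≫ pr f x =
      (ei.hom ≫ pullback.fst (StMod.bmap 𝒴 β) (pr f x)) ≫ StMod.bmap 𝒴 β := by
    rw [hφ, Category.assoc, Category.assoc, ← pullback.condition]
  have hfφ : eqToHom (StMod.sch_obj_eq f ξ).symm ≫ StMod.bmap 𝒴 (f.map φ ≫ x.hom) = StMod.bmap 𝒳 φ ≫ pr f x := by
    rw [pr, StMod.bmap_comp, ← Category.assoc, ← Category.assoc]
    refine congrArg (· ≫ _) ?_
    rw [← cancel_mono (eqToHom (StMod.sch_obj_eq f x.left)), Category.assoc, StMod.bmap_map_comm f φ rfl]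
    simp
  obtain ⟨α, hα, hαb⟩ := exists_factor hq β (f.map φ ≫ x.hom)
    (eqToHom (StMod.sch_obj_eq f ξ) ≫ ei.hom ≫ pullback.fst _ _) (by
      rw [← cancel_epi (eqToHom (StMod.sch_obj_eq f ξ).symm), hfφ, hcomm]
      simp)
  let z : (StMod.fibCat f η').obj := CostructuredArrow.mk α
  let e : (bcFun f β).obj z ⟶ x := CostructuredArrow.homMk φ hα.symm
  have hz : pr f z = ei.hom ≫ pullback.fst _ _ := by
    change eqToHom _ ≫ StMod.bmap 𝒴 α = _
    rw [hαb]
    simp
  refine ⟨z, e, ?_, fun ζ γ => ?_⟩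
  · exact IsPullback.of_iso (IsPullback.of_hasPullback _ _) ei.symm (Iso.refl _) (Iso.refl _) (Iso.refl _)
      (by simp [hz]) (by change _ = ei.inv ≫ StMod.bmap 𝒳 φ; rw [hφ]; simp) (by simp) (by simp)
  · have hγ : StMod.bmap 𝒳 γ.left ≫ pr f x = pr f ((bcFun f β).obj ζ) := bmap_pr f γ
    rw [pr_bcFun] at hγ
    let l : StMod.sch 𝒳 ζ.left ⟶ StMod.sch 𝒳 ξ := pullback.lift (pr f ζ) (StMod.bmap 𝒳 γ.left) hγ.symm ≫ ei.inv
    obtain ⟨c, hc, hcb⟩ := exists_factor hp φ γ.left l (by simp [l, hφ])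
    have hcz : StMod.bmap 𝒳 c ≫ pr f z = pr f ζ := by simp [hz, hcb, l]
    have hcα : f.map c ≫ α = ζ.hom := by
      refine hom_ext_bmap hq β ?_ ?_
      · rw [Category.assoc, hα, ← Category.assoc, ← f.map_comp, hc]
        exact CostructuredArrow.w γ
      · rw [← cancel_epi (eqToHom (StMod.sch_obj_eq f ζ.left).symm)]
        refine Eq.trans ?_ (show pr f ζ = _ from rfl)
        rw [← hcz]
        change _ = StMod.bmap 𝒳 c ≫ eqToHom _ ≫ StMod.bmap 𝒴 α
        rw [StMod.bmap_comp, ← Category.assoc, ← Category.assoc]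
        refine congrArg (· ≫ _) ?_
        rw [← cancel_mono (eqToHom (StMod.sch_obj_eq f ξ)), Category.assoc, StMod.bmap_map_comm f c rfl]
        simp
    refine ⟨CostructuredArrow.homMk c hcα, CostructuredArrow.hom_ext _ _ hc, fun d hd => ?_⟩
    refine CostructuredArrow.hom_ext _ _ (hom_ext_bmap hp φ ?_ ?_)
    · exact (congrArg CommaMorphism.left hd).trans hc.symm
    · change StMod.bmap 𝒳 d.left = StMod.bmap 𝒳 c
      rw [← cancel_mono ei.hom]
      refine pullback.hom_ext ?_ ?_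
      · rw [Category.assoc, Category.assoc, ← hz, hcz]
        exact bmap_pr f d
      · rw [Category.assoc, Category.assoc, ← hφ, ← StMod.bmap_comp, ← StMod.bmap_comp, hc]
        exact congrArg (StMod.bmap 𝒳) (congrArg CommaMorphism.left hd)

theorem push_aux {x : (StMod.fibCat f η).obj} {z : (StMod.fibCat f η').obj} (e : (bcFun f β).obj z ⟶ x)
    [IsAffine (StMod.sch 𝒴 η')] [IsAffine (StMod.sch 𝒴 η)] [IsAffine (StMod.sch (StMod.fibCat f η) x)]
    (H : IsPullback (pr f z) (StMod.bmap (StMod.fibCat f η) e) (StMod.bmap 𝒴 β) (pr f x))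
    (σ : Fn 𝒴 η' →+* Fn (StMod.fibCat f η) ((bcFun f β).obj z)) (hσ : σ = (pr f z).appTop.hom) :
    IsPushout (CommRingCat.ofHom (fnMap β)) (CommRingCat.ofHom (pr f x).appTop.hom) (CommRingCat.ofHom σ)
      (CommRingCat.ofHom (fnMap e)) := by
  have key := isPushout_appTop_of_isPullback H
  have k2 : IsPushout (StMod.bmap 𝒴 β).appTop (pr f x).appTop (pr f z).appTop
      (StMod.bmap (StMod.fibCat f η) e).appTop := key
  have e1 : CommRingCat.ofHom (fnMap β) = (StMod.bmap 𝒴 β).appTop := rfl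
  have e2 : CommRingCat.ofHom (pr f x).appTop.hom = (pr f x).appTop := rfl
  have e3 : CommRingCat.ofHom σ = (pr f z).appTop := by rw [hσ]; rfl
  have e4 : CommRingCat.ofHom (fnMap e) = (StMod.bmap (StMod.fibCat f η) e).appTop := rfl
  rw [e1, e2, e4, e3]
  exact k2

theorem cart_aux {x' x : (StMod.fibCat f η).obj} {z' z : (StMod.fibCat f η').obj} (φ : x' ⟶ x) (c : z' ⟶ z)
    (e' : (bcFun f β).obj z' ⟶ x') (e : (bcFun f β).obj z ⟶ x)
    (H' : IsPullback (pr f z') (StMod.bmap (StMod.fibCat f η) e') (StMod.bmap 𝒴 β) (pr f x'))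
    (H : IsPullback (pr f z) (StMod.bmap (StMod.fibCat f η) e) (StMod.bmap 𝒴 β) (pr f x))
    (h : (bcFun f β).map c ≫ e = e' ≫ φ) :
    IsPullback (StMod.bmap (StMod.fibCat f η) ((bcFun f β).map c)) (StMod.bmap (StMod.fibCat f η) e')
      (StMod.bmap (StMod.fibCat f η) e) (StMod.bmap (StMod.fibCat f η) φ) := by
  have h1 : StMod.bmap (StMod.fibCat f η) ((bcFun f β).map c) ≫ pr f z = pr f z' := bmap_pr f c
  have h2 : StMod.bmap (StMod.fibCat f η) φ ≫ pr f x = pr f x' := bmap_pr f φ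
  have H'' := H'.flip
  rw [← h1, ← h2] at H''
  refine (IsPullback.of_bot H'' ?_ H.flip).flip
  rw [← StMod.bmap_comp, ← StMod.bmap_comp, h]

variable (hp : FibCat.IsFibGrpd 𝒳.p) (hq : FibCat.IsFibGrpd 𝒴.p)

/-- The change of the object is representable by affine morphisms. -/
def bcAffRep (hη' : IsAffine (StMod.sch 𝒴 η')) (hη : IsAffine (StMod.sch 𝒴 η)) : AffRep (bcFun f β) where
  z x := (exists_bc f β hp hq x).choose
  e x := (exists_bc f β hp hq x).choose_spec.choose
  isAffineHom x := MorphismProperty.of_isPullback (P := @IsAffineHom)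
    (exists_bc f β hp hq x).choose_spec.choose_spec.1 inferInstance
  existsUnique x := (exists_bc f β hp hq x).choose_spec.choose_spec.2
  cart {x' x} φ c h :=
    cart_aux f β φ c _ _ (exists_bc f β hp hq x').choose_spec.choose_spec.1
      (exists_bc f β hp hq x).choose_spec.choose_spec.1 h

/-- A flat change of the object is a flat base change on affine objects. -/
def bcFlatBC (hη' : IsAffine (StMod.sch 𝒴 η')) (hη : IsAffine (StMod.sch 𝒴 η))
    (hfl : Flat (StMod.bmap 𝒴 β)) : FlatBC (bcFun f β) where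
  A := Fn 𝒴 η
  B := Fn 𝒴 η'
  β := fnMap β
  flat := (HasRingHomProperty.iff_of_isAffine (P := @Flat)).1 hfl
  ρ x := (pr f x).appTop.hom
  ρ_nat _ _ φ r := congr($(congrArg Scheme.Hom.appTop (bmap_pr f φ)) r)
  σ ζ := (pr f ζ).appTop.hom
  σ_nat _ _ c r := congr($(congrArg Scheme.Hom.appTop (bmap_pr f c)) r)
  z x _ := (exists_bc f β hp hq x).choose
  affz x hx :=
    haveI := hx
    haveI : IsAffineHom (StMod.bmap (StMod.fibCat f η) (exists_bc f β hp hq x).choose_spec.choose) :=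
      MorphismProperty.of_isPullback (P := @IsAffineHom) (exists_bc f β hp hq x).choose_spec.choose_spec.1 inferInstance
    isAffine_of_isAffineHom (StMod.bmap (StMod.fibCat f η) (exists_bc f β hp hq x).choose_spec.choose)
  e x _ := (exists_bc f β hp hq x).choose_spec.choose
  push x hx :=
    haveI := hx
    push_aux f β (exists_bc f β hp hq x).choose_spec.choose (exists_bc f β hp hq x).choose_spec.choose_spec.1 _ rfl
  fac x _ ζ γ := ((exists_bc f β hp hq x).choose_spec.choose_spec.2 ζ γ).exists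

end Groth.Agent.H14QCoh
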