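import Groth.Agent.H14QCoh.GlobSect
import Groth.Agent.H14QCoh.FibCat
import Groth.Agent.H14QCoh.FibAtlas
import Groth.Agent.H14QCoh.BaseChange
import Groth.Prelude.Def_StMod2

/-!
# Surjectivity and bijectivity on sections of direct images descend along flat covers of the target
-/

set_option autoImplicit false
set_option linter.style.haveILetI false
set_option backward.isDefEq.respectTransparency false
set_option backward.isDefEq.respectTransparency.types false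

universe u

open CategoryTheory CategoryTheory.Limits AlgebraicGeometry Opposite TopologicalSpace

noncomputable section

namespace Groth.Agent.H14QCoh

variable {S : Scheme.{u}} {𝒳 𝒴 : AlgSt.Cat S} (π : 𝒳 ⥤ᵇ 𝒴)

/-- The module restricted over an object. -/
abbrev fibQ (η : 𝒴.obj) (F : StMod.QCoh 𝒳) : StMod.QCoh (StMod.fibCat π η) :=
  (StMod.comapQ (StMod.fibFst π η)).obj F

lemma mapTop_fib {η : 𝒴.obj} (F : StMod.Mod 𝒳) {x' x : (StMod.fibCat π η).obj} (φ : x' ⟶ x)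
    (m : Γ(F.obj x.left, ⊤)) :
    (StMod.Mod.comap (StMod.fibFst π η) F).mapTop φ m = F.mapTop φ.left m := by
  have e : (StMod.Mod.comap (StMod.fibFst π η) F).map φ rfl = F.map φ.left rfl := by
    rw [StMod.Mod.comap_map]
    erw [StMod.castMap_rfl]
    erw [StMod.Mod.map_comp_pushforwardCongr]
    rfl
  exact congr($(congrArg (fun m => Scheme.Modules.Hom.app m ⊤) e) m)

/-- A section of the direct image over an object as a family on the category over the object. -/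
def toGlob {η : 𝒴.obj} {F : StMod.QCoh 𝒳} (s : StMod.Mod.RelSect π F.obj η) : (fibQ π η F).obj.GlobSect :=
  ⟨fun x => s.1 x.left x.hom, fun x' x φ => by
    rw [show (fibQ π η F).obj.mapTop φ (s.1 x.left x.hom) = F.obj.mapTop φ.left (s.1 x.left x.hom) from
      mapTop_fib π F.obj φ _, s.2 φ.left x.hom, CostructuredArrow.w φ]⟩

lemma toGlob_val {η : 𝒴.obj} {F : StMod.QCoh 𝒳} (s : StMod.Mod.RelSect π F.obj η)
    (x : (StMod.fibCat π η).obj) : (toGlob π s).1 x = s.1 x.left x.hom := rfl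

/-- A family on the category over an object as a section of the direct image. -/
def ofGlob {η : 𝒴.obj} {F : StMod.QCoh 𝒳} (t : (fibQ π η F).obj.GlobSect) : StMod.Mod.RelSect π F.obj η :=
  ⟨fun ξ α => t.1 (CostructuredArrow.mk α), fun ξ' ξ φ α => by
    exact (mapTop_fib π F.obj (CostructuredArrow.homMk φ rfl :
      CostructuredArrow.mk (π.map φ ≫ α) ⟶ CostructuredArrow.mk α) _).symm.trans (t.2 _)⟩

lemma toGlob_ofGlob {η : 𝒴.obj} {F : StMod.QCoh 𝒳} (t : (fibQ π η F).obj.GlobSect) :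
    toGlob π (ofGlob π t) = t :=
  StMod.Mod.GlobSect.ext fun x => by
    obtain ⟨ξ, ⟨⟨⟩⟩, α⟩ := x
    rfl

lemma ofGlob_toGlob {η : 𝒴.obj} {F : StMod.QCoh 𝒳} (s : StMod.Mod.RelSect π F.obj η) :
    ofGlob π (toGlob π s) = s := rfl

variable (h𝒳 : AlgSt.IsAlgStack Scheme.fppfPrecoverage 𝒳) (h𝒴 : AlgSt.IsAlgStack Scheme.fppfPrecoverage 𝒴)
  (hqc : AlgSt.IsQuasiCompactMor Scheme.fppfPrecoverage π) (hqs : AlgSt.IsQuasiSeparatedMor π)

omit h𝒳 h𝒴 hqc hqs in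
lemma baseOver_eq_pr {η : 𝒴.obj} (x : (StMod.fibCat π η).obj) :
    (StMod.baseOver π x.left x.hom).left = pr π x := by
  simp [StMod.baseOver, pr, StMod.bmap, Over.eqToHom_left]

omit h𝒳 h𝒴 hqc hqs in
lemma eq_top_of_jointly {η : 𝒴.obj} [IsAffine (StMod.sch 𝒴 η)] {κ : Type u} {η' : κ → 𝒴.obj}
    (β : ∀ k, η' k ⟶ η) [∀ k, IsAffine (StMod.sch 𝒴 (η' k))]
    (hs : ∀ p : StMod.sch 𝒴 η, ∃ k q, StMod.bmap 𝒴 (β k) q = p) (J : Ideal (Fn 𝒴 η))
    (hJ : ∀ k, J.map (fnMap (β k)) = ⊤) : J = ⊤ := by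
  by_contra hne
  obtain ⟨N, hN, hle⟩ := Ideal.exists_le_maximal _ hne
  obtain ⟨p, hpN⟩ := (StMod.sch 𝒴 η).isoSpec.hom.surjective ⟨N, hN.isPrime⟩
  obtain ⟨k, q, hq⟩ := hs p
  obtain ⟨P, hPq⟩ : ∃ P, P = (StMod.sch 𝒴 (η' k)).isoSpec.hom q := ⟨_, rfl⟩
  have hcomap : P.asIdeal.comap (fnMap (β k)) = N := by
    have := congr($(Scheme.isoSpec_hom_naturality (StMod.bmap 𝒴 (β k))) q)
    rw [Scheme.Hom.comp_apply, Scheme.Hom.comp_apply, hq, hpN, ← hPq] at this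
    exact congrArg PrimeSpectrum.asIdeal this
  refine P.isPrime.ne_top ((hJ k).symm.trans_le ?_ |> top_le_iff.1)
  exact Ideal.map_le_iff_le_comap.2 (hle.trans hcomap.ge)

include h𝒳 h𝒴 hqc hqs in
/-- Surjectivity on sections of direct images descends along jointly surjective flat families. -/
theorem surjective_relSectMap_of_family {F G : StMod.QCoh 𝒳} (u : F ⟶ G) {η : 𝒴.obj}
    (hη : IsAffine (StMod.sch 𝒴 η)) {κ : Type u} {η' : κ → 𝒴.obj} (β : ∀ k, η' k ⟶ η)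
    [∀ k, IsAffine (StMod.sch 𝒴 (η' k))] (hfl : ∀ k, Flat (StMod.bmap 𝒴 (β k)))
    (hs : ∀ p : StMod.sch 𝒴 η, ∃ k q, StMod.bmap 𝒴 (β k) q = p)
    (h : ∀ k, Function.Surjective (StMod.Mod.relSectMap π u.hom (η' k))) :
    Function.Surjective (StMod.Mod.relSectMap π u.hom η) := by
  intro n
  haveI := hη
  obtain ⟨𝔸⟩ := nonempty_atlas_fibCat h𝒳 h𝒴 π hqc hqs η hη
  let J : Ideal (Fn 𝒴 η) := Submodule.comap
    (LinearMap.toSpanSingleton (Fn 𝒴 η) (StMod.Mod.RelSect π G.obj η) n)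
    (LinearMap.range (StMod.Mod.relSectMap π u.hom η))
  suffices hJ : J = ⊤ by
    obtain ⟨m, hm⟩ := (hJ ▸ Submodule.mem_top : (1 : Fn 𝒴 η) ∈ J)
    exact ⟨m, hm.trans (one_smul _ n)⟩
  refine eq_top_of_jointly β hs J fun k => ?_
  let n' : StMod.Mod.RelSect π G.obj (η' k) := ⟨fun ξ α => n.1 ξ (α ≫ β k), fun ξ' ξ φ α => by
    change G.obj.mapTop φ (n.1 ξ (α ≫ β k)) = n.1 ξ' ((π.map φ ≫ α) ≫ β k)
    rw [n.2 φ, Category.assoc]⟩
  obtain ⟨s', hs'⟩ := h k n'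
  refine map_liftable_eq_top (bcFlatBC π (β k) h𝒳.isStack.1 h𝒴.isStack.1 inferInstance hη (hfl k))
    (fibCat_fibGrpd π η h𝒳.isStack.1) 𝔸 (F := fibQ π η F) (G := fibQ π η G)
    ((StMod.comapQ (StMod.fibFst π η)).map u).hom (toGlob π n) (fun ζ => s'.1 ζ.left ζ.hom)
    (fun {ζ' ζ} c => (mapTop_fib π F.obj ((bcFun π (β k)).map c) _).trans (by
      change F.obj.mapTop c.left _ = _
      rw [s'.2 c.left, CostructuredArrow.w c]))
    (fun ζ => congrArg (fun t : StMod.Mod.RelSect π G.obj (η' k) => t.1 ζ.left ζ.hom) hs') J fun r m hm => ?_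
  refine ⟨ofGlob π m, StMod.Mod.RelSect.ext _ _ _ fun ξ α => ?_⟩
  refine (hm (CostructuredArrow.mk α)).trans ?_
  change _ = (StMod.baseOver π ξ α).left.appTop r • n.1 ξ α
  exact congrArg (fun c : Fn 𝒳 ξ => c • n.1 ξ α)
    (congr($(congrArg Scheme.Hom.appTop (baseOver_eq_pr π (CostructuredArrow.mk α))) r)).symm

lemma unitSect_pr {η : 𝒴.obj} (r : Fn 𝒴 η) (ξ : 𝒳.obj) (α : π.obj ξ ⟶ η) :
    (StMod.unitSect π η r).1 ξ α = (pr π (CostructuredArrow.mk α)).appTop r :=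
  congr($(congrArg Scheme.Hom.appTop (baseOver_eq_pr π (CostructuredArrow.mk α))) r)

lemma smul_unit_one {η : 𝒴.obj} (x : (StMod.fibCat π η).obj) (r : Fn (StMod.fibCat π η) x) :
    r • (StMod.unitSect π η 1).1 x.left x.hom = (show Sec (fibQ π η (StMod.OQ 𝒳)) x from r) := by
  have : (show Fn 𝒳 x.left from (StMod.unitSect π η 1).1 x.left x.hom) = 1 := map_one _
  exact (congrArg (fun m : Fn 𝒳 x.left => (show Fn 𝒳 x.left from r) * m) this).trans (mul_one _)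

include h𝒳 h𝒴 hqc hqs in
/-- Bijectivity of the unit on sections descends along jointly surjective flat families. -/
theorem bijective_unitSect_of_family {η : 𝒴.obj}
    (hη : IsAffine (StMod.sch 𝒴 η)) {κ : Type u} {η' : κ → 𝒴.obj} (β : ∀ k, η' k ⟶ η)
    [∀ k, IsAffine (StMod.sch 𝒴 (η' k))] (hfl : ∀ k, Flat (StMod.bmap 𝒴 (β k)))
    (hs : ∀ p : StMod.sch 𝒴 η, ∃ k q, StMod.bmap 𝒴 (β k) q = p)
    (h : ∀ k, Function.Bijective (StMod.unitSect π (η' k))) : Function.Bijective (StMod.unitSect π η) := by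
  haveI := hη
  have hpr : ∀ (k : κ) (ζ : (StMod.fibCat π (η' k)).obj) (r : Fn 𝒴 η),
      (pr π ζ).appTop (fnMap (β k) r) = (pr π ((bcFun π (β k)).obj ζ)).appTop r := by
    intro k ζ r
    rw [pr_bcFun, Scheme.Hom.comp_appTop]
    rfl
  refine ⟨(injective_iff_map_eq_zero _).2 fun r hr => ?_, fun n => ?_⟩
  · let J : Ideal (Fn 𝒴 η) := LinearMap.ker (LinearMap.toSpanSingleton (Fn 𝒴 η) (Fn 𝒴 η) r)
    suffices hJ : J = ⊤ by
      have h1 : (1 : Fn 𝒴 η) ∈ J := hJ ▸ Submodule.mem_top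
      simpa [J] using h1
    refine eq_top_of_jointly β hs J fun k => ?_
    have h0 : fnMap (β k) r = 0 := by
      refine (h k).1 ?_
      rw [map_zero]
      refine StMod.Mod.RelSect.ext _ _ _ fun ξ α => ?_
      refine (unitSect_pr π (fnMap (β k) r) ξ α).trans ((hpr k (CostructuredArrow.mk α) r).trans ?_)
      exact (unitSect_pr π r ξ (α ≫ β k)).symm.trans
        (congrArg (fun t : StMod.Mod.RelSect π (StMod.O 𝒳) η => t.1 ξ (α ≫ β k)) hr)
    letI := (fnMap (β k)).toAlgebra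
    haveI : Module.Flat (Fn 𝒴 η) (Fn 𝒴 (η' k)) := (HasRingHomProperty.iff_of_isAffine (P := @Flat)).1 (hfl k)
    refine map_eq_top_of_tmul_eq_zero (B := Fn 𝒴 (η' k)) r ?_ J fun c hc => hc
    refine (TensorProduct.rid (Fn 𝒴 η) (Fn 𝒴 (η' k))).injective ?_
    rw [TensorProduct.rid_tmul, map_zero, Algebra.smul_def, mul_one]
    exact h0
  · obtain ⟨𝔸⟩ := nonempty_atlas_fibCat h𝒳 h𝒴 π hqc hqs η hη
    let J : Ideal (Fn 𝒴 η) := Submodule.comap
      (LinearMap.toSpanSingleton (Fn 𝒴 η) (StMod.Mod.RelSect π (StMod.O 𝒳) η) n)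
      (LinearMap.range (StMod.unitSect π η))
    suffices hJ : J = ⊤ by
      obtain ⟨m, hm⟩ := (hJ ▸ Submodule.mem_top : (1 : Fn 𝒴 η) ∈ J)
      exact ⟨m, hm.trans (one_smul _ n)⟩
    refine eq_top_of_jointly β hs J fun k => ?_
    let n' : StMod.Mod.RelSect π (StMod.O 𝒳) (η' k) := ⟨fun ξ α => n.1 ξ (α ≫ β k), fun ξ' ξ φ α => by
      change (StMod.O 𝒳).mapTop φ (n.1 ξ (α ≫ β k)) = n.1 ξ' ((π.map φ ≫ α) ≫ β k)
      rw [n.2 φ, Category.assoc]⟩
    obtain ⟨r', hr'⟩ := (h k).2 n'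
    let n₀ : (fibQ π η (StMod.OQ 𝒳)).obj.GlobSect := toGlob π (F := StMod.OQ 𝒳) n
    let o : (fibQ π η (StMod.OQ 𝒳)).obj.GlobSect := toGlob π (F := StMod.OQ 𝒳) (StMod.unitSect π η 1)
    let Φ := bcFlatBC π (β k) h𝒳.isStack.1 h𝒴.isStack.1 inferInstance hη (hfl k)
    let ζ := Φ.z 𝔸.x 𝔸.affx
    refine map_smul_eq_top Φ (fibCat_fibGrpd π η h𝒳.isStack.1) 𝔸 n₀ o r' ?_ J fun a r hr => ?_
    · refine Eq.trans ?_ (smul_unit_one π ((bcFun π (β k)).obj ζ) _).symm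
      change n'.1 ζ.left ζ.hom = (pr π ζ).appTop r'
      rw [← hr']
      exact unitSect_pr π r' ζ.left ζ.hom
    · refine ⟨r, StMod.Mod.RelSect.ext _ _ _ fun ξ α => ?_⟩
      refine (unitSect_pr π r ξ α).trans ?_
      refine ((smul_unit_one π (CostructuredArrow.mk α) _).symm.trans (hr (CostructuredArrow.mk α)).symm).trans ?_
      change _ = (StMod.baseOver π ξ α).left.appTop a • n.1 ξ α
      exact congrArg (fun c : Fn 𝒳 ξ => c • n.1 ξ α)
        (congr($(congrArg Scheme.Hom.appTop (baseOver_eq_pr π (CostructuredArrow.mk α))) a)).symm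

end Groth.Agent.H14QCoh
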