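import Groth.Agent.H14QCoh.CohAffDescent
import Groth.Agent.H12AlgSp.Charts

/-!
# Bijectivity of the unit on all etale charts from affine ones
-/

set_option autoImplicit false
set_option linter.style.haveILetI false
set_option backward.isDefEq.respectTransparency false
set_option backward.isDefEq.respectTransparency.types false

universe u

open CategoryTheory CategoryTheory.Limits AlgebraicGeometry Opposite TopologicalSpace

noncomputable section

namespace Groth.Agent.H14QCoh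

variable {S : Scheme.{u}} {𝒳 𝒴 : AlgSt.Cat S} (π : 𝒳 ⥤ᵇ 𝒴)

lemma baseOver_comp {η' η : 𝒴.obj} (β : η' ⟶ η) (ξ : 𝒳.obj) (α : π.obj ξ ⟶ η') :
    (StMod.baseOver π ξ (α ≫ β)).left = (StMod.baseOver π ξ α).left ≫ StMod.bmap 𝒴 β := by
  simp [StMod.baseOver, StMod.bmap]

/-- Pullback of the unit along an arrow. -/
lemma unitSect_fnMap {η' η : 𝒴.obj} (β : η' ⟶ η) (r : Fn 𝒴 η) (ξ : 𝒳.obj) (α : π.obj ξ ⟶ η') :
    (StMod.unitSect π η' (fnMap β r)).1 ξ α = (StMod.unitSect π η r).1 ξ (α ≫ β) := by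
  rw [StMod.unitSect_val, StMod.unitSect_val, baseOver_comp π β ξ α, Scheme.Hom.comp_appTop]
  rfl

/-- Bijectivity of the unit glues from the members of a basis of affine open arrows. -/
theorem bijective_unitSect_of_affineOpens (hp : FibCat.IsFibGrpd 𝒳.p) {η : 𝒴.obj}
    (ηU : (StMod.sch 𝒴 η).affineOpens → 𝒴.obj) (β : ∀ U, ηU U ⟶ η)
    (hβ : ∀ U, IsOpenImmersion (StMod.bmap 𝒴 (β U))) (hr : ∀ U, (StMod.bmap 𝒴 (β U)).opensRange = U.1)
    (hfac : ∀ U (y : 𝒴.obj) (γ : y ⟶ η), Set.range (StMod.bmap 𝒴 γ).base ⊆ U.1 → ∃ j : y ⟶ ηU U, j ≫ β U = γ)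
    (h : ∀ U, Function.Bijective (StMod.unitSect π (ηU U))) : Function.Bijective (StMod.unitSect π η) := by
  let X := StMod.sch 𝒴 η
  have hle : ∀ U : X.affineOpens, ⊤ ≤ StMod.bmap 𝒴 (β U) ⁻¹ᵁ U.1 := fun U y _ => (hr U).le ⟨y, rfl⟩
  let res : ∀ U : X.affineOpens, Γ(X, U.1) ⟶ Γ(StMod.sch 𝒴 (ηU U), ⊤) :=
    fun U => (StMod.bmap 𝒴 (β U)).appLE U.1 ⊤ (hle U)
  have hres : ∀ U, Function.Bijective (res U) := fun U => by
    haveI := hβ U
    haveI : IsIso ((StMod.bmap 𝒴 (β U)).app U.1) := (StMod.bmap 𝒴 (β U)).isIso_app U.1 (hr U).ge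
    have e : StMod.bmap 𝒴 (β U) ⁻¹ᵁ U.1 = ⊤ := top_le_iff.1 (hle U)
    haveI : IsIso ((StMod.sch 𝒴 (ηU U)).presheaf.map (homOfLE (hle U)).op) := by
      rw [show (homOfLE (hle U)) = eqToHom e.symm from Subsingleton.elim _ _]
      infer_instance
    haveI : IsIso (res U) := by simp only [res, Scheme.Hom.appLE]; infer_instance
    exact ConcreteCategory.bijective_of_isIso (res U)
  have htop : ∀ (U : X.affineOpens) (r : Fn 𝒴 η),
      res U (X.presheaf.map (homOfLE le_top).op r) = fnMap (β U) r := fun U r => by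
    change (X.presheaf.map (homOfLE le_top).op ≫ (StMod.bmap 𝒴 (β U)).appLE U.1 ⊤ (hle U)) r = _
    rw [Scheme.Hom.map_appLE]
    exact congr($(Scheme.Hom.appLE_eq_app (StMod.bmap 𝒴 (β U))) r)
  have key : ∀ (r r' : Fn 𝒴 η), StMod.unitSect π η r = StMod.unitSect π η r' → r = r' := by
    intro r r' e
    refine TopCat.Sheaf.eq_of_locally_eq' X.sheaf (fun U : X.affineOpens => U.1) ⊤
      (fun U => homOfLE le_top) (iSup_affineOpens_eq_top _).ge r r' fun U => (hres U).1 ?_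
    refine (htop U r).trans (Eq.trans ((h U).1 (StMod.Mod.RelSect.ext _ _ _ fun ξ α => ?_)) (htop U r').symm)
    rw [unitSect_fnMap, unitSect_fnMap, e]
  refine ⟨fun r r' e => key r r' e, fun n => ?_⟩
  let nU : ∀ U, StMod.Mod.RelSect π (StMod.O 𝒳) (ηU U) := fun U =>
    ⟨fun ξ α => n.1 ξ (α ≫ β U), fun ξ' ξ φ α => by
      change (StMod.O 𝒳).mapTop φ (n.1 ξ (α ≫ β U)) = n.1 ξ' ((π.map φ ≫ α) ≫ β U)
      rw [n.2 φ, Category.assoc]⟩
  choose b hb using fun U => (h U).2 (nU U)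
  choose s hs using fun U => (hres U).2 (b U)
  have hW : ∀ (U W : X.affineOpens) (hWU : W.1 ≤ U.1), X.presheaf.map (homOfLE hWU).op (s U) = s W := by
    intro U W hWU
    refine (hres W).1 ?_
    obtain ⟨j, hj⟩ := hfac U (ηU W) (β W) (fun x ⟨y, hy⟩ => hWU ((hr W).le ⟨y, hy⟩))
    rw [hs]
    have e1 : res W (X.presheaf.map (homOfLE hWU).op (s U)) = fnMap j (b U) := by
      rw [← hs U]
      change (X.presheaf.map (homOfLE hWU).op ≫ (StMod.bmap 𝒴 (β W)).appLE W.1 ⊤ (hle W)) (s U) =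
        ((StMod.bmap 𝒴 (β U)).appLE U.1 ⊤ (hle U) ≫ (StMod.bmap 𝒴 j).appTop) (s U)
      rw [Scheme.Hom.map_appLE, show (StMod.bmap 𝒴 j).appTop = (StMod.bmap 𝒴 j).appLE ⊤ ⊤ (le_of_eq rfl) from
        (Scheme.Hom.appLE_eq_app (StMod.bmap 𝒴 j)).symm, Scheme.Hom.appLE_comp_appLE]
      simp only [← StMod.bmap_comp, hj]
      rfl
    rw [e1]
    refine (h W).1 (StMod.Mod.RelSect.ext _ _ _ fun ξ α => ?_)
    rw [unitSect_fnMap, hb, hb]
    change n.1 ξ ((α ≫ j) ≫ β U) = n.1 ξ (α ≫ β W)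
    rw [Category.assoc, hj]
  obtain ⟨r, hr', -⟩ := TopCat.Sheaf.existsUnique_gluing' X.sheaf (fun U : X.affineOpens => U.1) ⊤
    (fun U => homOfLE le_top) (iSup_affineOpens_eq_top _).ge s (fun U V => by
      refine TopCat.Sheaf.eq_of_locally_eq' X.sheaf
        (fun W : {W : X.affineOpens // W.1 ≤ U.1 ⊓ V.1} => W.1.1) (U.1 ⊓ V.1) (fun W => homOfLE W.2)
        (fun x hx => ?_) _ _ fun W => ?_
      · obtain ⟨A, hA, hxA, hAle⟩ := Opens.isBasis_iff_nbhd.mp X.isBasis_affineOpens hx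
        exact Opens.mem_iSup.2 ⟨⟨⟨A, hA⟩, hAle⟩, hxA⟩
      · have pm : ∀ {A B C : X.Opens} (h₁ : B ≤ A) (h₂ : C ≤ B) (x : Γ(X, A)),
            X.presheaf.map (homOfLE h₂).op (X.presheaf.map (homOfLE h₁).op x) =
              X.presheaf.map (homOfLE (h₂.trans h₁)).op x := fun h₁ h₂ x => by
          rw [← ConcreteCategory.comp_apply, ← Functor.map_comp]
          rfl
        exact ((pm inf_le_left W.2 (s U)).trans (hW U W.1 _)).trans
          ((pm inf_le_right W.2 (s V)).trans (hW V W.1 _)).symm)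
  have hn : ∀ U, X.presheaf.map (homOfLE le_top).op r = s U := hr'
  refine ⟨r, StMod.Mod.RelSect.ext _ _ _ fun ξ α => ?_⟩
  let f : StMod.sch 𝒳 ξ ⟶ X := (StMod.baseOver π ξ α).left
  let N := (StMod.O 𝒳).obj ξ
  refine TopCat.Sheaf.eq_of_locally_eq' ⟨N.presheaf, N.isSheaf⟩
    (fun V : Σ U : X.affineOpens, {V : (StMod.sch 𝒳 ξ).affineOpens // V.1 ≤ f ⁻¹ᵁ U.1} => V.2.1.1) ⊤
    (fun V => homOfLE le_top) (fun x _ => ?_) _ _ fun V => ?_
  · obtain ⟨U, hU, hxU, -⟩ := Opens.isBasis_iff_nbhd.mp X.isBasis_affineOpens (Opens.mem_top (f x))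
    obtain ⟨A, hA, hxA, hAle⟩ := Opens.isBasis_iff_nbhd.mp (StMod.sch 𝒳 ξ).isBasis_affineOpens
      (show x ∈ f ⁻¹ᵁ U from hxU)
    exact Opens.mem_iSup.2 ⟨⟨⟨U, hU⟩, ⟨A, hA⟩, hAle⟩, hxA⟩
  · obtain ⟨U, V, hV⟩ := V
    obtain ⟨ζ, χ, hζ, hI, hR⟩ := exists_open_lift hp ξ V.1 V.2
    have hle' : ⊤ ≤ StMod.bmap 𝒳 χ ⁻¹ᵁ V.1 := fun y _ => hR.le ⟨y, rfl⟩
    refine (bijective_res_open χ hle' (StMod.OQ 𝒳) V.2 hR).1 ?_
    refine (res_map χ (F := StMod.O 𝒳) le_top le_top hle' _).trans ?_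
    refine Eq.trans ?_ (res_map χ (F := StMod.O 𝒳) le_top le_top hle' _).symm
    rw [res_top, res_top, (StMod.unitSect π η r).2 χ, n.2 χ]
    have hγ : StMod.bmap 𝒴 (π.map χ ≫ α) =
        eqToHom (StMod.sch_obj_eq π ζ) ≫ StMod.bmap 𝒳 χ ≫ f := by
      rw [StMod.bmap_comp_baseOver_left]
      simp [StMod.baseOver, StMod.bmap]
    obtain ⟨j, hj⟩ := hfac U _ (π.map χ ≫ α) (by
      rintro _ ⟨y, rfl⟩
      rw [hγ]
      exact hV (hR.le ⟨_, rfl⟩))
    rw [← hj, ← unitSect_fnMap, ← htop U, hn U, hs, hb]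

/-- The unit is an isomorphism as soon as it is bijective on the affine etale charts. -/
theorem unitIsIso_of_affine {M : AlgSp.Sp S} (π : 𝒳 ⥤ᵇ AlgSt.ofSp M) (hp : FibCat.IsFibGrpd 𝒳.p)
    (h : ∀ E : AlgSp.EtOver M, IsAffine E.obj.left.left → Function.Bijective (StMod.unitSect π (StMod.etaOf E))) :
    StMod.UnitIsIso π := by
  intro E
  let X := E.obj.left
  let ι' : ∀ U : X.left.affineOpens, H13AlgSp.openOver X U.1 ⟶ X := fun U => H13AlgSp.openIncl X U.1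
  let EU : X.left.affineOpens → AlgSp.EtOver M := fun U =>
    AlgSp.EtOver.mk ((AlgSp.yon S).map (ι' U) ≫ E.obj.hom)
      (H12AlgSp.repWith_comp ((AlgSp.repWith_yon_map_iff _ _).2 (inferInstanceAs (Etale U.1.ι))) E.property)
  let β : ∀ U, StMod.etaOf (EU U) ⟶ StMod.etaOf E := fun U => ⟨ι' U, by
    change M.obj.map (ι' U).op ((AlgSp.J S).uliftYonedaEquiv E.obj.hom) = _
    rw [GrothendieckTopology.uliftYonedaEquiv_naturality]
    rfl⟩
  refine bijective_unitSect_of_affineOpens π hp (fun U => StMod.etaOf (EU U)) β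
    (fun U => inferInstanceAs (IsOpenImmersion U.1.ι)) (fun U => U.1.opensRange_ι) (fun U y γ hγ => ?_)
    (fun U => h (EU U) U.2)
  let l : y.base.left ⟶ U.1.toScheme :=
    IsOpenImmersion.lift U.1.ι γ.hom.left (hγ.trans (by rw [Scheme.Opens.range_ι]))
  have hl : l ≫ U.1.ι = γ.hom.left := IsOpenImmersion.lift_fac _ _ _
  let m : y.base ⟶ H13AlgSp.openOver X U.1 := Over.homMk l (by
    change l ≫ U.1.ι ≫ X.hom = y.base.hom
    rw [← Category.assoc, hl]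
    exact Over.w γ.hom)
  have hm : m ≫ ι' U = γ.hom := Over.OverMorphism.ext hl
  refine ⟨⟨m, ?_⟩, Stk.EltObj.hom_ext hm⟩
  change M.obj.map m.op (StMod.etaOf (EU U)).sec = y.sec
  rw [← (β U).map_sec, ← γ.map_sec, ← hm, op_comp, Functor.map_comp_apply]
  rfl

end Groth.Agent.H14QCoh
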