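import Groth.Agent.H14Quot.Factor
import Groth.Agent.H14Fib.FpMap

/-!
# Functors to the category of the base are unique
-/

set_option autoImplicit false
set_option backward.isDefEq.respectTransparency false
set_option backward.isDefEq.respectTransparency.types false

universe u

open CategoryTheory CategoryTheory.Limits AlgebraicGeometry Opposite

namespace Groth.Agent.H14QCoh

variable {S : Scheme.{u}}

/-- There is only one functor over the base to the category of the base. -/
theorem toBase_unique {𝒳 : AlgSt.Cat S} (F F' : 𝒳 ⥤ᵇ AlgSt.ofSch (Over.mk (𝟙 S))) : F = F' := by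
  haveI : ∀ b : Over S, Subsingleton (b ⟶ Over.mk (𝟙 S)) := fun b =>
    ⟨fun f g => Over.OverMorphism.ext ((Category.comp_id _).symm.trans ((Over.w f).trans ((Over.w g).symm.trans (Category.comp_id _))))⟩
  have hobj : ∀ a, F.obj a = F'.obj a := by
    intro a
    have hb : (F.obj a).base = (F'.obj a).base := (F.w_obj a).trans (F'.w_obj a).symm
    generalize F.obj a = x at hb
    generalize F'.obj a = y at hb
    cases x with | mk b s =>
    cases y with | mk b' s' =>
    cases hb
    exact congrArg (Stk.EltObj.mk b) (congrArg ULift.up (Subsingleton.elim (α := b ⟶ Over.mk (𝟙 S)) s.down s'.down))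
  refine H14Quot.basedFunctor_ext (CategoryTheory.Functor.ext hobj fun a b m => ?_)
  apply Stk.EltObj.hom_ext
  refine Eq.trans ?_ (H14Quot.elt_hom_conj _ _ _).symm
  have h1 := Functor.congr_hom F.w m
  have h2 := Functor.congr_hom F'.w m
  refine (h1 : (F.map m).hom = _).trans ?_
  rw [show (F'.map m).hom = _ from h2]
  simp

end Groth.Agent.H14QCoh
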