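import Groth.Agent.H14QCoh.ExtendSheaf
import Groth.Agent.H11Tilde.QCohCrit
import Groth.Agent.H10Coh.FlatBC.Transpose

/-!
# Quasi-coherent modules from modules on the affine objects with base change maps
-/

set_option autoImplicit false
set_option linter.style.haveILetI false
set_option backward.isDefEq.respectTransparency false
set_option backward.isDefEq.respectTransparency.types false

universe w v u

open CategoryTheory CategoryTheory.Limits AlgebraicGeometry Opposite TopologicalSpace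
open scoped TensorProduct

noncomputable section

namespace Groth.Agent.H14QCoh

variable {S : Scheme.{u}} {𝒳 : BasedCategory.{v, w} (Over S)}

/-- Bijectivity of a base change map read off along isomorphisms of rings. -/
theorem bijective_liftBaseChange_of_transport {A B A' B' : Type u} [CommRing A] [CommRing B] [CommRing A'] [CommRing B']
    [Algebra A B] [Algebra A' B'] (σ : A →+* A') (hσ : Function.Bijective σ) (σ' : B →+* B')
    (hσ' : Function.Bijective σ') (hcomm : ∀ a, σ' (algebraMap A B a) = algebraMap A' B' (σ a))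
    {M M' N N' : Type u} [AddCommGroup M] [Module A M] [AddCommGroup M'] [Module A' M'] [AddCommGroup N] [Module B N]
    [Module A N] [IsScalarTower A B N] [AddCommGroup N'] [Module B' N'] [Module A' N'] [IsScalarTower A' B' N']
    (e : M' →+ M) (he : Function.Surjective e) (he' : ∀ a m, e (σ a • m) = a • e m)
    (eN : N →+ N') (heN : Function.Bijective eN) (heN' : ∀ b n, eN (b • n) = σ' b • eN n)
    (f : M →ₗ[A] N) (f' : M' →ₗ[A'] N') (hf : ∀ m, eN (f (e m)) = f' m) (hf' : IsBaseChange B' f') :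
    Function.Bijective (f.liftBaseChange B) := by
  let τ := RingEquiv.ofBijective σ' hσ'
  let ψ : B' ⊗[A'] M' →+ B ⊗[A] M := TensorProduct.liftAddHom
    { toFun := fun b => (AddMonoidHom.mk' (fun m => τ.symm b ⊗ₜ[A] e m) fun x y => by
        rw [map_add, TensorProduct.tmul_add])
      map_zero' := by ext m; simp
      map_add' := fun x y => by ext m; simp [TensorProduct.add_tmul] }
    (fun r b m => by
      obtain ⟨a, rfl⟩ := hσ.2 r
      change τ.symm (σ a • b) ⊗ₜ[A] e m = τ.symm b ⊗ₜ[A] e (σ a • m)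
      rw [he', ← TensorProduct.smul_tmul, Algebra.smul_def, Algebra.smul_def, ← hcomm, map_mul]
      congr 2
      exact τ.symm_apply_apply _)
  have hψ : Function.Surjective ψ := by
    intro t
    induction t using TensorProduct.induction_on with
    | zero => exact ⟨0, map_zero _⟩
    | add x y hx hy =>
      obtain ⟨x', rfl⟩ := hx
      obtain ⟨y', rfl⟩ := hy
      exact ⟨x' + y', map_add _ _ _⟩
    | tmul b m =>
      obtain ⟨m', rfl⟩ := he m
      exact ⟨σ' b ⊗ₜ m', congrArg (fun c => c ⊗ₜ[A] e m') (τ.symm_apply_apply b)⟩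
  have key : ∀ t, eN (f.liftBaseChange B (ψ t)) = hf'.equiv t := by
    intro t
    induction t using TensorProduct.induction_on with
    | zero => simp
    | add x y hx hy => rw [map_add, map_add, map_add, map_add, hx, hy]
    | tmul b m =>
      change eN (f.liftBaseChange B (τ.symm b ⊗ₜ[A] e m)) = _
      rw [LinearMap.liftBaseChange_tmul, heN', IsBaseChange.equiv_tmul, hf]
      exact congrArg (· • f' m) (τ.apply_symm_apply b)
  constructor
  · intro x y hxy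
    obtain ⟨x', rfl⟩ := hψ x
    obtain ⟨y', rfl⟩ := hψ y
    rw [hf'.equiv.injective ((key x').symm.trans ((congrArg eN hxy).trans (key y')))]
  · intro n
    obtain ⟨t, ht⟩ := hf'.equiv.surjective (eN n)
    exact ⟨ψ t, heN.1 ((key t).trans ht)⟩

namespace AffData

variable (D : AffData 𝒳) (hp : FibCat.IsFibGrpd 𝒳.p)

lemma bijective_resFn {ξ : 𝒳.obj} (N : (StMod.sch 𝒳 ξ).affineOpens) :
    Function.Bijective (resFn (li hp N) N.1 (li_le hp N)) := by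
  let c := StMod.bmap 𝒳 (li hp N)
  haveI : IsIso (c.app N.1) := c.isIso_app N.1 (range_li hp N).ge
  have e : c ⁻¹ᵁ N.1 = ⊤ := top_le_iff.1 (li_le hp N)
  haveI : IsIso ((StMod.sch 𝒳 (lo hp N).1).presheaf.map (homOfLE (li_le hp N)).op) := by
    rw [show (homOfLE (li_le hp N)) = eqToHom e.symm from Subsingleton.elim _ _]
    infer_instance
  haveI : IsIso (c.appLE N.1 ⊤ (li_le hp N)) := by rw [Scheme.Hom.appLE]; infer_instance
  exact ConcreteCategory.bijective_of_isIso (c.appLE N.1 ⊤ (li_le hp N))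

/-- A family over an affine open from its value. -/
def fam {ξ : 𝒳.obj} (N : (StMod.sch 𝒳 ξ).affineOpens) (m : D.P (lo hp N)) : D.Sect hp ξ N.1 :=
  ⟨fun M => D.r (fac hp (li hp M.1) (li_le' hp M.2)) m, fun M K h hK => (D.pre hp ξ).res_comp hK h m⟩

lemma fam_self {ξ : 𝒳.obj} (N : (StMod.sch 𝒳 ξ).affineOpens) (m : D.P (lo hp N)) :
    (D.fam hp N m).1 ⟨N, le_rfl⟩ = m :=
  (D.pre hp ξ).res_id N m

lemma sect_ext_self {ξ : 𝒳.obj} (N : (StMod.sch 𝒳 ξ).affineOpens) {s t : D.Sect hp ξ N.1}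
    (h : s.1 ⟨N, le_rfl⟩ = t.1 ⟨N, le_rfl⟩) : s = t := by
  refine Sect.ext fun M hM => ?_
  rw [← s.2 M N hM le_rfl, ← t.2 M N hM le_rfl, h]

lemma fam_smul {ξ : 𝒳.obj} (N : (StMod.sch 𝒳 ξ).affineOpens) (a : Γ(StMod.sch 𝒳 ξ, N.1)) (m : D.P (lo hp N)) :
    D.fam hp N (resFn (li hp N) N.1 (li_le hp N) a • m) = a • D.fam hp N m :=
  D.sect_ext_self hp N (by rw [fam_self, Sect.smul_val, fam_self])

lemma preimage_li_le {ξ' ξ : 𝒳.obj} (φ : ξ' ⟶ ξ) {g : StMod.sch 𝒳 ξ' ⟶ StMod.sch 𝒳 ξ} (hg : StMod.bmap 𝒳 φ = g)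
    {W : (StMod.sch 𝒳 ξ).Opens} {M : (StMod.sch 𝒳 ξ').affineOpens} (hM : M.1 ≤ g ⁻¹ᵁ W) :
    ⊤ ≤ StMod.bmap 𝒳 (li hp M ≫ φ) ⁻¹ᵁ W := by
  subst hg
  exact (preimage_comp_le φ (li hp M)).2 (li_le' hp hM)

/-- The comparison of families. -/
def pullFam {ξ' ξ : 𝒳.obj} (φ : ξ' ⟶ ξ) {g : StMod.sch 𝒳 ξ' ⟶ StMod.sch 𝒳 ξ} (hg : StMod.bmap 𝒳 φ = g)
    (W : (StMod.sch 𝒳 ξ).Opens) : D.Sect hp ξ W →+ D.Sect hp ξ' (g ⁻¹ᵁ W) :=
  AddMonoidHom.mk' (fun s => ⟨fun M => ev s (li hp M.1 ≫ φ) (preimage_li_le hp φ hg M.2), fun M N h hN => by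
    rw [r_ev]
    exact ev_congr s (by simp) _ _⟩) fun s t =>
    Sect.ext fun N hN => ev_add s t (li hp N ≫ φ) (preimage_li_le hp φ hg hN)

lemma pullFam_val {ξ' ξ : 𝒳.obj} (φ : ξ' ⟶ ξ) {g : StMod.sch 𝒳 ξ' ⟶ StMod.sch 𝒳 ξ} (hg : StMod.bmap 𝒳 φ = g)
    (W : (StMod.sch 𝒳 ξ).Opens) (s : D.Sect hp ξ W) (M) (hM : M.1 ≤ g ⁻¹ᵁ W) :
    (D.pullFam hp φ hg W s).1 ⟨M, hM⟩ = ev s (li hp M ≫ φ) (preimage_li_le hp φ hg hM) :=
  rfl

lemma ev_pullFam {ξ' ξ : 𝒳.obj} (φ : ξ' ⟶ ξ) {g : StMod.sch 𝒳 ξ' ⟶ StMod.sch 𝒳 ξ} (hg : StMod.bmap 𝒳 φ = g)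
    {W : (StMod.sch 𝒳 ξ).Opens} (s : D.Sect hp ξ W) {ζ : AObj 𝒳} (χ : ζ.1 ⟶ ξ')
    (h : ⊤ ≤ StMod.bmap 𝒳 χ ⁻¹ᵁ (g ⁻¹ᵁ W)) (h' : ⊤ ≤ StMod.bmap 𝒳 (χ ≫ φ) ⁻¹ᵁ W) :
    ev (D.pullFam hp φ hg W s) χ h = ev s (χ ≫ φ) h' := by
  refine (eq_ev (D.pullFam hp φ hg W s) h fun M N hN hM => ?_).symm
  rw [r_ev, pullFam_val, r_ev]
  exact ev_congr s (by simp) _ _

/-- The comparison map of the modules on two objects. -/
def objMap {ξ' ξ : 𝒳.obj} (φ : ξ' ⟶ ξ) {g : StMod.sch 𝒳 ξ' ⟶ StMod.sch 𝒳 ξ} (hg : StMod.bmap 𝒳 φ = g) :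
    D.objMod hp ξ ⟶ (Scheme.Modules.pushforward g).obj (D.objMod hp ξ') :=
  ⟨PresheafOfModules.homMk
    { app := fun W => AddCommGrpCat.ofHom (D.pullFam hp φ hg W.unop)
      naturality := fun W V i => by
        refine AddCommGrpCat.hom_ext (AddMonoidHom.ext fun (s : D.Sect hp ξ W.unop) => ?_)
        refine Sect.ext (D := D) fun M hM => ?_
        exact ev_restr s i.unop.le (li hp M ≫ φ) (preimage_li_le hp φ hg hM) }
    (fun W a (s : D.Sect hp ξ W.unop) => by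
      refine Sect.ext (D := D) fun M hM => ?_
      refine (ev_smul s a (li hp M ≫ φ) (preimage_li_le hp φ hg hM)).trans ?_
      exact congrArg (· • ev s (li hp M ≫ φ) (preimage_li_le hp φ hg hM))
        (resFn_comp_app (li hp M) φ hg (li_le' hp hM) (preimage_li_le hp φ hg hM) a).symm)⟩

/-- The module on the category. -/
def extMod : StMod.Mod 𝒳 where
  obj ξ := D.objMod hp ξ
  map φ _ hg := D.objMap hp φ hg
  map_id ξ := by
    refine Scheme.Modules.hom_ext _ _ fun U => ?_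
    rw [Scheme.Modules.Hom.comp_app, Scheme.Modules.pushforwardId_hom_app_app, Category.comp_id,
      Scheme.Modules.Hom.id_app]
    refine AddCommGrpCat.hom_ext (AddMonoidHom.ext fun (s : D.Sect hp ξ U) => Sect.ext (D := D) fun M hM => ?_)
    refine (ev_congr s (Category.comp_id _) (preimage_li_le hp (𝟙 ξ) (StMod.bmap_id ξ) hM) (li_le' hp hM)).trans ?_
    exact ev_li s M hM
  map_comp {ξ2 ξ1 ξ} ψ φ {h g} hh hg := by
    refine Scheme.Modules.hom_ext _ _ fun U => AddCommGrpCat.hom_ext (AddMonoidHom.ext fun (s : D.Sect hp ξ U) =>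
      Sect.ext (D := D) fun M hM => ?_)
    have H : StMod.bmap 𝒳 (ψ ≫ φ) = h ≫ g := by rw [StMod.bmap_comp, hh, hg]
    change ev s (li hp M ≫ ψ ≫ φ) (preimage_li_le hp (ψ ≫ φ) H hM) =
      ev (D.pullFam hp φ hg U s) (li hp M ≫ ψ) (preimage_li_le hp ψ hh hM)
    have k : ⊤ ≤ StMod.bmap 𝒳 ((li hp M ≫ ψ) ≫ φ) ⁻¹ᵁ U := by
      rw [Category.assoc]
      exact preimage_li_le hp (ψ ≫ φ) H hM
    rw [D.ev_pullFam hp φ hg s (li hp M ≫ ψ) _ k]
    exact ev_congr s (Category.assoc _ _ _).symm _ _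

theorem isLocQCoh_extMod : (D.extMod hp).IsLocQCoh := fun ξ => by
  refine H11Tilde.isQuasicoherent_of_basicOpen_localization _ (fun U : (StMod.sch 𝒳 ξ).affineOpens => U.1)
    (iSup_affineOpens_eq_top _) (fun U => U.2) (fun U f (s : D.Sect hp ξ U.1) hs => ?_)
    (fun U f (s' : D.Sect hp ξ ((StMod.sch 𝒳 ξ).basicOpen f)) => ?_)
  · obtain ⟨h1, -, -⟩ := D.localize_li (hp := hp) (V := (StMod.sch 𝒳 ξ).affineBasicOpen f)
      ((StMod.sch 𝒳 ξ).basicOpen_le f) f rfl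
    have h0 : D.r (fac hp (li hp ((StMod.sch 𝒳 ξ).affineBasicOpen f))
        (li_le' hp ((StMod.sch 𝒳 ξ).basicOpen_le f))) (s.1 ⟨U, le_rfl⟩) = 0 :=
      (s.2 _ U ((StMod.sch 𝒳 ξ).basicOpen_le f) le_rfl).trans
        (congrArg (fun t : D.Sect hp ξ ((StMod.sch 𝒳 ξ).basicOpen f) =>
          t.1 ⟨(StMod.sch 𝒳 ξ).affineBasicOpen f, le_rfl⟩) hs)
    obtain ⟨n, hn⟩ := h1 _ h0
    refine ⟨n, D.sect_ext_self hp U ?_⟩
    change resFn (li hp U) U.1 _ (f ^ n) • s.1 ⟨U, le_rfl⟩ = 0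
    rw [map_pow]
    exact hn
  · let V := (StMod.sch 𝒳 ξ).affineBasicOpen f
    have hVU : V.1 ≤ U.1 := (StMod.sch 𝒳 ξ).basicOpen_le f
    obtain ⟨-, h2, -⟩ := D.localize_li (hp := hp) hVU f rfl
    obtain ⟨n, m, hm⟩ := h2 (s'.1 ⟨V, le_rfl⟩)
    refine ⟨n, D.fam hp U m, D.sect_ext_self hp V ?_⟩
    change (D.fam hp U m).1 ⟨V, le_rfl.trans hVU⟩ =
      resFn (li hp V) V.1 _ ((StMod.sch 𝒳 ξ).presheaf.map (homOfLE hVU).op (f ^ n)) • s'.1 ⟨V, le_rfl⟩
    rw [resFn_res, map_pow]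
    exact hm

theorem isCartesian_extMod : (D.extMod hp).IsCartesian := by
  intro ξ' ξ φ h hh
  subst hh
  refine H10Coh.FBC.isIso_transpose (StMod.bmap 𝒳 φ) (D.isLocQCoh_extMod hp ξ) _ fun U V hU hV hle => ?_
  let U' : (StMod.sch 𝒳 ξ).affineOpens := ⟨U, hU⟩
  let V' : (StMod.sch 𝒳 ξ').affineOpens := ⟨V, hV⟩
  have hV' : ⊤ ≤ StMod.bmap 𝒳 (li hp V' ≫ φ) ⁻¹ᵁ U'.1 := preimage_li_le hp φ rfl hle
  let c : (lo hp V').1 ⟶ (lo hp U').1 := fac hp (li hp V' ≫ φ) hV'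
  let M := D.P (lo hp U')
  let M' := D.P (lo hp V')
  let A := Γ(StMod.sch 𝒳 ξ, U)
  let B := Γ(StMod.sch 𝒳 ξ', V)
  letI : Algebra A B := ((StMod.bmap 𝒳 φ).appLE U V hle).hom.toAlgebra
  letI := (fnMap c).toAlgebra
  letI : Module (Fn 𝒳 (lo hp U').1) M' := Module.compHom M' (fnMap c)
  haveI : IsScalarTower (Fn 𝒳 (lo hp U').1) (Fn 𝒳 (lo hp V').1) M' := .of_algebraMap_smul fun _ _ => rfl
  let L : M →ₗ[Fn 𝒳 (lo hp U').1] M' :=
    { toFun := D.r c, map_add' := map_add _, map_smul' := fun a m => D.r_smul c a m }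
  let N := D.Sect hp ξ' V
  letI : Module A Γ((D.extMod hp).obj ξ', V) := Module.compHom _ ((StMod.bmap 𝒳 φ).appLE U V hle).hom
  haveI : IsScalarTower A B Γ((D.extMod hp).obj ξ', V) := .of_algebraMap_smul fun _ _ => rfl
  refine bijective_liftBaseChange_of_transport (resFn (li hp U') U (li_le hp U')) (bijective_resFn hp U')
    (resFn (li hp V') V (li_le hp V')) (bijective_resFn hp V') (fun a => ?_)
    (M' := M) (N' := M') (N := Γ((D.extMod hp).obj ξ', V)) (AddMonoidHom.mk' (fun m => D.fam hp U' m) fun x y => ?_)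
    (fun s => ⟨(show D.Sect hp ξ U from s).1 ⟨U', le_rfl⟩,
      D.sect_ext_self hp U' (D.fam_self hp U' _)⟩)
    (fun a m => D.fam_smul hp U' a m)
    (AddMonoidHom.mk' (fun (s : D.Sect hp ξ' V) => s.1 ⟨V', le_rfl⟩) fun _ _ => rfl)
    ⟨fun s t e => D.sect_ext_self hp V' e, fun m => ⟨D.fam hp V' m, D.fam_self hp V' m⟩⟩
    (fun b n => rfl) _ L (fun m => ?_) (D.bc c L fun _ => rfl)
  · change resFn (li hp V') V _ (((StMod.bmap 𝒳 φ).appLE U V hle) a) = fnMap c _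
    rw [fnMap_resFn, resFn_congr (fac_li hp _ _) _ hV']
    rw [← resFn_comp_app (li hp V') φ rfl ((li_le hp V').trans ((StMod.bmap 𝒳 (li hp V')).preimage_mono hle)) hV' a,
      ← resFn_res (li hp V') hle (li_le hp V')]
    rfl
  · exact D.sect_ext_self hp U' (by rw [Sect.add_val, fam_self, fam_self, fam_self])
  · change (Sect.restr hle (D.pullFam hp φ rfl U (D.fam hp U' m))).1 ⟨V', le_rfl⟩ = D.r c m
    refine (ev_eq (D.fam hp U' m) (li hp V' ≫ φ) (preimage_li_le hp φ rfl hle) (N := U') le_rfl hV').trans ?_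
    rw [fam_self]

/-- The quasi-coherent module of data on the affine objects. -/
def ext : StMod.QCoh 𝒳 := ⟨D.extMod hp, D.isCartesian_extMod hp, D.isLocQCoh_extMod hp⟩

/-- The sections of the extension over an affine object. -/
def toP (ξ : AObj 𝒳) (s : Sec (D.ext hp) ξ.1) : D.P ξ :=
  ev (show D.Sect hp ξ.1 ⊤ from s) (𝟙 ξ.1) (fun _ _ => trivial)

lemma toP_add (ξ : AObj 𝒳) (s t : Sec (D.ext hp) ξ.1) : D.toP hp ξ (s + t) = D.toP hp ξ s + D.toP hp ξ t :=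
  ev_add (show D.Sect hp ξ.1 ⊤ from s) (show D.Sect hp ξ.1 ⊤ from t) _ _

lemma toP_smul (ξ : AObj 𝒳) (a : Fn 𝒳 ξ.1) (s : Sec (D.ext hp) ξ.1) :
    D.toP hp ξ (a • s) = a • D.toP hp ξ s := by
  refine (ev_smul (show D.Sect hp ξ.1 ⊤ from s) a _ _).trans (congrArg (· • _) ?_)
  have key : ∀ (g : StMod.sch 𝒳 ξ.1 ⟶ StMod.sch 𝒳 ξ.1) (_ : g = 𝟙 _) (h : ⊤ ≤ g ⁻¹ᵁ ⊤),
      g.appLE ⊤ ⊤ h a = a := by
    intro g hg h
    subst hg
    simp [Scheme.Hom.appLE]
  exact key _ (StMod.bmap_id ξ.1) _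

theorem bijective_toP (ξ : AObj 𝒳) : Function.Bijective (D.toP hp ξ) := by
  refine ⟨fun s t e => Sect.ext (D := D) fun N hN => ?_, fun m => ?_⟩
  · have key : ∀ s : D.Sect hp ξ.1 ⊤, s.1 ⟨N, hN⟩ = D.r (li hp N) (ev s (𝟙 ξ.1) (fun _ _ => trivial)) := fun s => by
      rw [r_ev]
      exact (ev_li s N hN).symm.trans (ev_congr s (Category.comp_id _).symm _ _)
    rw [key, key]
    exact congrArg _ e
  · refine ⟨(⟨fun N => D.r (li hp N.1) m, fun M N h hN => ?_⟩ : D.Sect hp ξ.1 ⊤), ?_⟩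
    · rw [← D.r_comp]
      exact D.r_congr (fac_li hp _ _) m
    · refine (eq_ev _ _ fun M N hN hM => ?_).symm
      change D.r (li hp M) m = D.r _ (D.r (li hp N) m)
      rw [← D.r_comp]
      exact D.r_congr (by simp) m

theorem toP_mapTop {ξ' ξ : AObj 𝒳} (φ : ξ'.1 ⟶ ξ.1) (s : Sec (D.ext hp) ξ.1) :
    D.toP hp ξ' ((D.ext hp).obj.mapTop φ s) = D.r φ (D.toP hp ξ s) := by
  refine (D.ev_pullFam hp φ rfl (show D.Sect hp ξ.1 ⊤ from s) (𝟙 ξ'.1) _ (fun _ _ => trivial)).trans ?_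
  refine Eq.trans ?_ (r_ev (show D.Sect hp ξ.1 ⊤ from s) φ (𝟙 ξ.1) _).symm
  exact ev_congr _ (by simp) _ _

end AffData

end Groth.Agent.H14QCoh
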