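import Groth.Agent.H14QCoh.HomPush

/-!
# Generating families from generating families relative to a functor
-/

set_option autoImplicit false
set_option linter.style.haveILetI false
set_option backward.isDefEq.respectTransparency false
set_option backward.isDefEq.respectTransparency.types false

universe t u

open CategoryTheory CategoryTheory.Limits AlgebraicGeometry Opposite TopologicalSpace

noncomputable section

namespace Groth.Agent.H14QCoh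

variable {S : Scheme.{u}} {𝒳 𝒴 : AlgSt.Cat S} {f : 𝒳 ⥤ᵇ 𝒴}

lemma baseFn_id (ξ : 𝒳.obj) (r : Fn 𝒴 (f.obj ξ)) : baseFn f ξ (𝟙 (f.obj ξ)) r = toFn f ξ r := by
  refine Eq.trans ?_ (castFn_eq _ r).symm
  change (StMod.baseOver f ξ (𝟙 (f.obj ξ))).left.appTop r = _
  congr 2
  simp [StMod.baseOver, Over.eqToHom_left]

/-- An independent natural family indexed by the arrows to an object covering the target comes from a morphism. -/
theorem exists_hom_of_fam (hp : FibCat.IsFibGrpd 𝒳.p) (hq : FibCat.IsFibGrpd 𝒴.p) (𝔸 : Atlas 𝒴)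
    {E F : StMod.QCoh 𝒳}
    (K : ∀ (z : AObj 𝒳), (f.obj z.1 ⟶ 𝔸.x) → (Sec E z.1 →ₗ[Fn 𝒳 z.1] Sec F z.1))
    (hnat : ∀ {z' z : AObj 𝒳} (φ : z'.1 ⟶ z.1) (β : f.obj z.1 ⟶ 𝔸.x) (e : Sec E z.1),
      K z' (f.map φ ≫ β) (E.obj.mapTop φ e) = F.obj.mapTop φ (K z β e))
    (hind : ∀ (z : AObj 𝒳) (β β' : f.obj z.1 ⟶ 𝔸.x) (e : Sec E z.1), K z β e = K z β' e) :
    ∃ ψ : E.obj ⟶ F.obj, ∀ (z : AObj 𝒳) (_ : f.obj z.1 ⟶ 𝔸.x) (β : f.obj z.1 ⟶ 𝔸.x) (e : Sec E z.1),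
      (ψ.app z.1).app ⊤ e = K z β e := by
  classical
  let P : ∀ ξ : 𝒳.obj, Sec E ξ → Sec F ξ → Prop := fun ξ e t => ∀ (ζ : AObj 𝒳) (χ : ζ.1 ⟶ ξ)
    (β : f.obj ζ.1 ⟶ 𝔸.x), K ζ β (E.obj.mapTop χ e) = F.obj.mapTop χ t
  have ex : ∀ ξ, IsAffine (StMod.sch 𝒳 ξ) → ∀ e, ∃ t, P ξ e t ∧ ∀ t', P ξ e t' → t' = t := by
    intro ξ hξ e
    obtain ⟨ω, b, hb, ⟨γ⟩⟩ := 𝔸.cov (f.obj ξ) ((isAffine_obj_iff f ξ).2 hξ)
    obtain ⟨z', φ, c, hφ, -⟩ := exists_lift_cov hp hq ⟨ξ, hξ⟩ hb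
    haveI := hξ
    obtain ⟨t, ht⟩ := exists_of_equalizer (F := F) hp hφ (K z' (c ≫ γ) (E.obj.mapTop φ e)) (by
      intro ζ a b' hζ hab
      rw [← hnat (z' := ⟨ζ, hζ⟩) a (c ≫ γ), ← hnat (z' := ⟨ζ, hζ⟩) b' (c ≫ γ), ← E.obj.mapTop_comp,
        ← E.obj.mapTop_comp, hab]
      exact hind ⟨ζ, hζ⟩ _ _ _)
    refine ⟨t, fun ζ χ β => ?_, fun t' ht' => injective_mapTop_cov (F := F) hφ
      ((ht' z' φ (c ≫ γ)).symm.trans ht.symm)⟩
    haveI := ζ.2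
    obtain ⟨ζ', φ', χ', hφ', hw⟩ := exists_pullback_cov hp hφ χ
    refine injective_mapTop_cov (F := F) hφ' ?_
    rw [← hnat (z' := ⟨ζ', hφ'.1⟩) φ' β, ← E.obj.mapTop_comp, ← F.obj.mapTop_comp, hw, E.obj.mapTop_comp,
      hind ⟨ζ', hφ'.1⟩ _ (f.map χ' ≫ c ≫ γ), hnat (z' := ⟨ζ', hφ'.1⟩) (z := z') χ' (c ≫ γ),
      F.obj.mapTop_comp, ht]
  choose T hT hT' using ex
  let A : AffFam E F := fun ξ hξ =>
    { toFun := T ξ hξ
      map_add' := fun p q => (hT' ξ hξ _ _ fun ζ χ β => by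
        rw [E.obj.mapTop_add, map_add, F.obj.mapTop_add, hT ξ hξ p ζ χ β, hT ξ hξ q ζ χ β]).symm
      map_smul' := fun r p => (hT' ξ hξ _ _ fun ζ χ β => by
        rw [RingHom.id_apply, E.obj.mapTop_smul, map_smul, F.obj.mapTop_smul, hT ξ hξ p ζ χ β]).symm }
  obtain ⟨ψ, hψ⟩ := exists_hom hp A (fun ξ' ξ φ hξ' hξ e => (hT' ξ' hξ' _ _ fun ζ χ β => by
    rw [← E.obj.mapTop_comp, ← F.obj.mapTop_comp]
    exact hT ξ hξ e ζ (χ ≫ φ) β).symm)
  refine ⟨ψ, fun z _ β e => (hψ z.1 z.2 e).trans ?_⟩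
  have := hT z.1 z.2 e z (𝟙 _) β
  rw [E.obj.mapTop_id, F.obj.mapTop_id] at this
  exact this.symm

/-- A morphism vanishing at an atlas vanishes. -/
theorem hom_eq_zero_of_atlas (hq : FibCat.IsFibGrpd 𝒴.p) (𝔸 : Atlas 𝒴) {F G : StMod.QCoh 𝒴} (u : F.obj ⟶ G.obj)
    (h : ∀ m, (u.app 𝔸.x).app ⊤ m = 0) : u = 0 := by
  refine hom_ext_affine hq fun ξ hξ s => ?_
  obtain ⟨ξ', φ, hφ, ⟨α⟩⟩ := 𝔸.cov ξ hξ
  haveI := hξ
  rw [StMod.Mod.zero_app]
  change (u.app ξ).app ⊤ s = 0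
  refine injective_mapTop_cov (F := G) hφ ?_
  rw [StMod.Mod.mapTop_app, G.obj.mapTop_zero]
  refine sec_induction (φ := α) hφ.1 𝔸.affx (P := fun s => (u.app ξ').app ⊤ s = 0) _ (map_zero _)
    (fun a b ha hb => by rw [map_add, ha, hb, add_zero]) fun r m => ?_
  rw [Scheme.Modules.Hom.app_smul, ← StMod.Mod.mapTop_app, h, G.obj.mapTop_zero, smul_zero]

variable {E F : StMod.QCoh 𝒳} {η : 𝒴.obj}

/-- A morphism on the category over an object as a family. -/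
def AHom.ofHom (ψ : (fibMod f η E).obj ⟶ (fibMod f η F).obj) : AHom f E F η :=
  ⟨fun ξ α =>
    { toFun := fun e => (ψ.app (CostructuredArrow.mk α)).app ⊤ e
      map_add' := map_add _
      map_smul' := fun c e => Scheme.Modules.Hom.app_smul (ψ.app (CostructuredArrow.mk α)) c e },
    fun ξ' ξ φ α e => by
      let k : CostructuredArrow.mk (f.map φ ≫ α) ⟶ CostructuredArrow.mk (S := f.toFunctor) α :=
        CostructuredArrow.homMk φ rfl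
      have := (StMod.Mod.mapTop_app ψ (ξ' := CostructuredArrow.mk (f.map φ ≫ α)) k e).symm
      rw [fib_mapTop, fib_mapTop] at this
      exact this⟩

/-- A morphism killing all families from a family generating over the object of the atlas vanishes. -/
theorem hom_eq_zero_of_fib (hp : FibCat.IsFibGrpd 𝒳.p) (hq : FibCat.IsFibGrpd 𝒴.p) (𝔸 : Atlas 𝒴) {ι : Type t}
    {E : ι → StMod.QCoh 𝒳} (hE : StMod.IsGenFam fun i => fibMod f 𝔸.x (E i)) {M N : StMod.QCoh 𝒳}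
    (u : M.obj ⟶ N.obj) (h : ∀ (i : ι) (a : AHom f (E i) M 𝔸.x), AHom.comp u a = 0) : u = 0 := by
  rw [StMod.isGenFam_iff] at hE
  have hfib := fibCat_fibGrpd f 𝔸.x hp
  have h0 := hE (M := fibMod f 𝔸.x M) (N := fibMod f 𝔸.x N)
    (ObjectProperty.homMk (StMod.Mod.comapMap (StMod.fibFst f 𝔸.x) u)) fun i ψ =>
      hom_ext_affine (F := fibMod f 𝔸.x (E i)) (G := fibMod f 𝔸.x N) hfib fun z hz e => by
        have := congrArg (fun a : AHom f (E i) N 𝔸.x => a.1 (fibA z hz) z.hom e) (h i (AHom.ofHom ψ))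
        exact this
  refine hom_ext_affine hp fun ξ hξ s => ?_
  rw [StMod.Mod.zero_app]
  change (u.app ξ).app ⊤ s = 0
  obtain ⟨ω, b, hb, ⟨γ⟩⟩ := 𝔸.cov (f.obj ξ) ((isAffine_obj_iff f ξ).2 hξ)
  obtain ⟨z', φ, c, hφ, -⟩ := exists_lift_cov hp hq ⟨ξ, hξ⟩ hb
  haveI := hξ
  refine injective_mapTop_cov (F := N) hφ ?_
  rw [StMod.Mod.mapTop_app, N.obj.mapTop_zero]
  exact (congrArg (fun k : fibMod f 𝔸.x M ⟶ fibMod f 𝔸.x N =>
    (k.hom.app (CostructuredArrow.mk (c ≫ γ))).app ⊤ (M.obj.mapTop φ s)) h0 :)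

theorem finitePresentation_fib_O (η : 𝒴.obj) (z : (StMod.fibCat f η).obj) :
    Module.FinitePresentation (Fn (StMod.fibCat f η) z) (Sec (fibMod f η (StMod.OQ 𝒳)) z) :=
  inferInstanceAs (Module.FinitePresentation (Fn (StMod.fibCat f η) z) (Fn (StMod.fibCat f η) z))

variable (hp : FibCat.IsFibGrpd 𝒳.p) (hq : FibCat.IsFibGrpd 𝒴.p) (𝔸 : AtlasF 𝒴)
  (𝔹 : Atlas (StMod.fibCat f 𝔸.x)) {ι : Type t}

include hp hq 𝔹 in
/-- Inverse images of a generating family along a functor relative to which the structure sheaf generates. -/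
theorem isGenFam_comapQ_of_fib (hO : StMod.IsGenFam fun _ : PUnit.{u + 1} => fibMod f 𝔸.x (StMod.OQ 𝒳))
    (F : ι → StMod.QCoh 𝒴) (hF : StMod.IsGenFam F) : StMod.IsGenFam fun i => (StMod.comapQ f).obj (F i) := by
  obtain ⟨P⟩ := exists_presn_of 𝔹 (finitePresentation_fib_O (f := f) 𝔸.x 𝔹.x)
  rw [StMod.isGenFam_iff] at hF ⊢
  intro M N u hu
  obtain ⟨v, hv⟩ := exists_pushHom (hp := hp) (hq := hq) (𝔸 := 𝔸) (P' := P) u.hom
  have hid : Flat (StMod.bmap 𝒴 (𝟙 𝔸.x)) := by rw [StMod.bmap_id]; infer_instance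
  let Q := pushQ M hp hq 𝔸 P
  let vl := fun (D : AObj 𝒴) (β : D.1 ⟶ 𝔸.x) => val M hp hq 𝔸 P D β
  let one : ∀ ξ : AObj 𝒳, Sec (StMod.OQ 𝒳) ξ.1 := fun ξ => (1 : Fn 𝒳 ξ.1)
  have hv0 : ObjectProperty.homMk v = (0 : Q ⟶ pushQ N hp hq 𝔸 P) := by
    refine hF _ fun i φ => hom_eq_zero_of_atlas hq 𝔸.toAtlas (F := F i) (G := pushQ N hp hq 𝔸 P) _ fun m => ?_
    let K : ∀ (z : AObj 𝒳), (f.obj z.1 ⟶ 𝔸.x) →
        (Sec ((StMod.comapQ f).obj (F i)) z.1 →ₗ[Fn 𝒳 z.1] Sec M z.1) := fun z β =>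
      { toFun := fun s => (vl (imA f z) β ((φ.app (f.obj z.1)).app ⊤ ((toSec f (F i) z.1).symm s))).1 z (𝟙 _) (one z)
        map_add' := fun a b => by simp only [map_add, AHom.add_val, LinearMap.add_apply]
        map_smul' := fun r a => by
          obtain ⟨r, rfl⟩ := (toFn f z.1).surjective r
          obtain ⟨a, rfl⟩ := (toSec f (F i) z.1).surjective a
          rw [← toSec_smul, AddEquiv.symm_apply_apply, AddEquiv.symm_apply_apply, Scheme.Modules.Hom.app_smul,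
            RingHom.id_apply, map_smul, AHom.smul_val, LinearMap.smul_apply, baseFn_id] }
    have hKnat : ∀ {z' z : AObj 𝒳} (k : z'.1 ⟶ z.1) (β : f.obj z.1 ⟶ 𝔸.x) (e : _),
        K z' (f.map k ≫ β) (((StMod.comapQ f).obj (F i)).obj.mapTop k e) = M.obj.mapTop k (K z β e) := by
      intro z' z k β e
      obtain ⟨e, rfl⟩ := (toSec f (F i) z.1).surjective e
      rw [comap_mapTop]
      simp only [K, LinearMap.coe_mk, AddHom.coe_mk, AddEquiv.symm_apply_apply]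
      rw [← StMod.Mod.mapTop_app]
      refine (congrArg (fun a : AHom f (StMod.OQ 𝒳) M _ => a.1 z' (𝟙 _) (one z'))
        (val_mapTop (D' := imA f z') (D := imA f z) (f.map k) rfl _)).trans ?_
      refine Eq.trans ?_ ((vl (imA f z) β _).2 k (𝟙 _) (one z))
      rw [AHom.restr_val, Category.id_comp, Category.comp_id]
      exact congrArg (fun r => (vl (imA f z) β ((φ.app (f.obj z.1)).app ⊤ e)).1 z' (f.map k) r)
        (map_one (fnMap k)).symm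
    obtain ⟨ψ, hψ⟩ := exists_hom_of_fam hp hq 𝔸.toAtlas K hKnat fun z β β' e =>
      congrArg (fun a : AHom f (StMod.OQ 𝒳) M _ => a.1 z (𝟙 _) (one z)) (val_indep _ _ _ _)
    have hψ0 := hu i ψ
    refine (bijective_val 𝔸.X (𝟙 _) hid).1 ((hv 𝔸.X (𝟙 _) ((φ.app 𝔸.x).app ⊤ m)).trans ?_)
    rw [map_zero]
    refine AHom.ext fun ξ α r => ?_
    change (u.hom.app ξ.1).app ⊤ ((vl 𝔸.X (𝟙 _) ((φ.app 𝔸.x).app ⊤ m)).1 ξ α r) = 0
    have hr : r = (show Fn 𝒳 ξ.1 from r) • one ξ := (mul_one (show Fn 𝒳 ξ.1 from r)).symm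
    rw [hr, map_smul, Scheme.Modules.Hom.app_smul]
    have h1 : (vl 𝔸.X (𝟙 _) ((φ.app 𝔸.x).app ⊤ m)).1 ξ α (one ξ) =
        (ψ.app ξ.1).app ⊤ (toSec f (F i) ξ.1 ((F i).obj.mapTop α m)) := by
      rw [hψ ξ α α]
      simp only [K, LinearMap.coe_mk, AddHom.coe_mk, AddEquiv.symm_apply_apply]
      rw [← StMod.Mod.mapTop_app]
      refine Eq.trans ?_ (congrArg (fun a : AHom f (StMod.OQ 𝒳) M _ => a.1 ξ (𝟙 _) (one ξ))
        (val_mapTop (D' := imA f ξ) (D := 𝔸.X) α (Category.comp_id α) _).symm)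
      rw [AHom.restr_val, Category.id_comp]
    rw [h1]
    refine (congrArg (_ • ·) ?_).trans (smul_zero _)
    exact congrArg (fun k => (StMod.Mod.Hom.app k ξ.1).app ⊤ (toSec f (F i) ξ.1 ((F i).obj.mapTop α m))) hψ0
  refine InducedCategory.hom_ext (hom_eq_zero_of_fib hp hq 𝔸.toAtlas hO u.hom fun _ a => ?_)
  obtain ⟨s, rfl⟩ := (bijective_val (F := M) (hp := hp) (hq := hq) (P' := P) 𝔸.X (𝟙 _) hid).2 a
  refine (hv 𝔸.X (𝟙 _) s).symm.trans ?_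
  rw [show v = 0 from congrArg InducedCategory.Hom.hom hv0]
  exact map_zero (val N hp hq 𝔸 P 𝔸.X (𝟙 _))

include hp hq 𝔹 in
/-- A family generating relative to a functor is generating when the structure sheaf of the target is. -/
theorem isGenFam_of_fib (E : ι → StMod.QCoh 𝒳) (hEfp : ∀ i, (E i).obj.IsFinPres)
    (hE : StMod.IsGenFam fun i => fibMod f 𝔸.x (E i))
    (hO : StMod.IsGenFam fun _ : PUnit.{u + 1} => StMod.OQ 𝒴) : StMod.IsGenFam E := by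
  rw [StMod.isGenFam_iff] at hO ⊢
  intro M N u hu
  have hid : Flat (StMod.bmap 𝒴 (𝟙 𝔸.x)) := by rw [StMod.bmap_id]; infer_instance
  refine InducedCategory.hom_ext (hom_eq_zero_of_fib hp hq 𝔸.toAtlas hE u.hom fun i a => ?_)
  obtain ⟨P⟩ := exists_presn_of 𝔹 (E := fibMod f 𝔸.x (E i))
    (finitePresentation_sec (hEfp i) 𝔹.x.left 𝔹.affx)
  obtain ⟨v, hv⟩ := exists_pushHom (hp := hp) (hq := hq) (𝔸 := 𝔸) (P' := P) u.hom
  let Q := pushQ M hp hq 𝔸 P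
  let vl := fun (D : AObj 𝒴) (β : D.1 ⟶ 𝔸.x) => val M hp hq 𝔸 P D β
  have hv0 : ObjectProperty.homMk v = (0 : Q ⟶ pushQ N hp hq 𝔸 P) := by
    refine hO _ fun _ φ => hom_eq_zero_of_atlas hq 𝔸.toAtlas (F := StMod.OQ 𝒴) (G := pushQ N hp hq 𝔸 P) _ fun m => ?_
    let w : ∀ D : AObj 𝒴, Sec Q D.1 := fun D => (φ.app D.1).app ⊤ (1 : Fn 𝒴 D.1)
    have hw : ∀ {D' D : AObj 𝒴} (d : D'.1 ⟶ D.1), Q.obj.mapTop d (w D) = w D' := fun d => by
      refine (StMod.Mod.mapTop_app φ d _).trans ?_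
      exact congrArg _ (map_one (fnMap d))
    let K : ∀ (z : AObj 𝒳), (f.obj z.1 ⟶ 𝔸.x) → (Sec (E i) z.1 →ₗ[Fn 𝒳 z.1] Sec M z.1) := fun z β =>
      (vl (imA f z) β (w (imA f z))).1 z (𝟙 _)
    have hKnat : ∀ {z' z : AObj 𝒳} (k : z'.1 ⟶ z.1) (β : f.obj z.1 ⟶ 𝔸.x) (e : _),
        K z' (f.map k ≫ β) ((E i).obj.mapTop k e) = M.obj.mapTop k (K z β e) := by
      intro z' z k β e
      refine Eq.trans ?_ ((vl (imA f z) β (w (imA f z))).2 k (𝟙 _) e)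
      simp only [K]
      rw [← hw (D' := imA f z') (D := imA f z) (f.map k)]
      refine (congrArg (fun a : AHom f (E i) M _ => a.1 z' (𝟙 _) ((E i).obj.mapTop k e))
        (val_mapTop (D' := imA f z') (D := imA f z) (f.map k) rfl _)).trans ?_
      rw [AHom.restr_val, Category.id_comp, Category.comp_id]
    obtain ⟨ψ, hψ⟩ := exists_hom_of_fam hp hq 𝔸.toAtlas K hKnat fun z β β' e =>
      congrArg (fun a : AHom f (E i) M _ => a.1 z (𝟙 _) e) (val_indep _ _ _ _)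
    have hψ0 := hu i ψ
    have hm : m = (show Fn 𝒴 𝔸.x from m) • (show Sec (StMod.OQ 𝒴) 𝔸.x from (1 : Fn 𝒴 𝔸.x)) :=
      (mul_one (show Fn 𝒴 𝔸.x from m)).symm
    rw [hm, Scheme.Modules.Hom.app_smul]
    refine (congrArg (_ • ·) ?_).trans (smul_zero _)
    refine (bijective_val 𝔸.X (𝟙 _) hid).1 ((hv 𝔸.X (𝟙 _) (w 𝔸.X)).trans ?_)
    rw [map_zero]
    refine AHom.ext fun ξ α e => ?_
    change (u.hom.app ξ.1).app ⊤ ((vl 𝔸.X (𝟙 _) (w 𝔸.X)).1 ξ α e) = 0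
    have h1 : (vl 𝔸.X (𝟙 _) (w 𝔸.X)).1 ξ α e = (ψ.app ξ.1).app ⊤ e := by
      rw [hψ ξ α α]
      simp only [K]
      rw [← hw (D' := imA f ξ) (D := 𝔸.X) α]
      refine Eq.trans ?_ (congrArg (fun a : AHom f (E i) M _ => a.1 ξ (𝟙 _) e)
        (val_mapTop (D' := imA f ξ) (D := 𝔸.X) α (Category.comp_id α) _).symm)
      rw [AHom.restr_val, Category.id_comp]
    rw [h1]
    exact congrArg (fun k => (StMod.Mod.Hom.app k ξ.1).app ⊤ e) hψ0
  obtain ⟨s, rfl⟩ := (bijective_val (F := M) (hp := hp) (hq := hq) (P' := P) 𝔸.X (𝟙 _) hid).2 a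
  refine (hv 𝔸.X (𝟙 _) s).symm.trans ?_
  rw [show v = 0 from congrArg InducedCategory.Hom.hom hv0]
  exact map_zero (val N hp hq 𝔸 P 𝔸.X (𝟙 _))

end Groth.Agent.H14QCoh
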