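import Groth.Agent.H14QCoh.AHomBC
import Groth.Agent.H14QCoh.Kern
import Groth.Agent.H14QCoh.Cast

/-!
# The direct image of the families of linear maps, descended from an atlas
-/

set_option autoImplicit false
set_option linter.style.haveILetI false
set_option backward.isDefEq.respectTransparency false
set_option backward.isDefEq.respectTransparency.types false

universe u

open CategoryTheory CategoryTheory.Limits AlgebraicGeometry Opposite TopologicalSpace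
open scoped TensorProduct

noncomputable section

namespace Groth.Agent.H14QCoh

variable {S : Scheme.{u}} {𝒳 𝒴 : AlgSt.Cat S} {f : 𝒳 ⥤ᵇ 𝒴}

variable (f) in
/-- The image of an affine object. -/
abbrev imA (z : AObj 𝒳) : AObj 𝒴 := ⟨f.obj z.1, (isAffine_obj_iff f z.1).2 z.2⟩

/-- A cover of the image of an object lifts to a cover of the object. -/
theorem exists_lift_cov (hp : FibCat.IsFibGrpd 𝒳.p) (hq : FibCat.IsFibGrpd 𝒴.p) (z : AObj 𝒳) {ω : 𝒴.obj}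
    {b : ω ⟶ f.obj z.1} (hb : IsCov b) :
    ∃ (z' : AObj 𝒳) (φ : z'.1 ⟶ z.1) (c : f.obj z'.1 ⟶ ω), IsCov φ ∧ c ≫ b = f.map φ := by
  obtain ⟨ha, hf, hs⟩ := hb
  obtain ⟨z', φ, e, hφ⟩ := exists_lift hp z.1 (StMod.bmap 𝒴 b ≫ eqToHom (StMod.sch_obj_eq f z.1))
  haveI : IsAffine (StMod.sch 𝒳 z') := IsAffine.of_isIso e.hom
  have hcov : IsCov φ := by
    refine ⟨inferInstance, ?_, ?_⟩ <;> rw [hφ] <;> infer_instance
  obtain ⟨c, hc, -⟩ := exists_factor hq b (f.map φ) (eqToHom (StMod.sch_obj_eq f z') ≫ e.hom) (by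
    rw [← cancel_mono (eqToHom (StMod.sch_obj_eq f z.1)), Category.assoc, Category.assoc, ← hφ,
      StMod.bmap_map_comm f φ rfl])
  exact ⟨⟨z', inferInstance⟩, φ, c, hcov, hc⟩

/-- A cover of the base lifts along an arrow to a cover of the object. -/
theorem exists_lift_cov_over (hp : FibCat.IsFibGrpd 𝒳.p) (hq : FibCat.IsFibGrpd 𝒴.p) (z : AObj 𝒳)
    {D' D : 𝒴.obj} [IsAffine (StMod.sch 𝒴 D)] {φ : D' ⟶ D} (hφ : IsCov φ) (α : f.obj z.1 ⟶ D) :
    ∃ (z' : AObj 𝒳) (φz : z'.1 ⟶ z.1) (α' : f.obj z'.1 ⟶ D'), IsCov φz ∧ α' ≫ φ = f.map φz ≫ α := by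
  haveI : IsAffine (StMod.sch 𝒴 (f.obj z.1)) := (imA f z).2
  obtain ⟨ω, b, a, hb, hw⟩ := exists_pullback_cov hq hφ α
  obtain ⟨z', φz, c, hcov, hc⟩ := exists_lift_cov hp hq z hb
  exact ⟨z', φz, c ≫ a, hcov, by rw [Category.assoc, ← hw, reassoc_of% hc]⟩

variable {E F G : StMod.QCoh 𝒳}

/-- Restriction of families along covers is injective. -/
theorem AHom.restr_injective (hp : FibCat.IsFibGrpd 𝒳.p) (hq : FibCat.IsFibGrpd 𝒴.p) {D' D : AObj 𝒴}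
    {φ : D'.1 ⟶ D.1} (hφ : IsCov φ) : Function.Injective (AHom.restr (f := f) (E := E) (F := F) φ) := by
  refine (injective_iff_map_eq_zero _).2 fun h h0 => AHom.ext fun ξ α m => ?_
  haveI := D.2
  haveI := ξ.2
  obtain ⟨z', φz, α', hcov, hw⟩ := exists_lift_cov_over hp hq ξ hφ α
  refine injective_mapTop_cov (F := F) hcov ?_
  rw [← h.2 (ξ' := z') φz α m, ← hw]
  exact (congrArg (fun g : AHom f E F D'.1 => g.1 z' α' (E.obj.mapTop φz m)) h0).trans (F.obj.mapTop_zero φz).symm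

/-- Composition of a family with a morphism. -/
def AHom.comp {η : 𝒴.obj} (u : F.obj ⟶ G.obj) : AHom f E F η →ₗ[Fn 𝒴 η] AHom f E G η where
  toFun h := ⟨fun ξ α =>
    { toFun := fun e => (u.app ξ.1).app ⊤ (h.1 ξ α e)
      map_add' := fun a b => by rw [map_add, map_add]
      map_smul' := fun c a => by
        rw [map_smul, RingHom.id_apply]
        exact Scheme.Modules.Hom.app_smul (u.app ξ.1) c _ }, fun ξ' ξ φ α e => by
    change (u.app ξ'.1).app ⊤ (h.1 ξ' (f.map φ ≫ α) (E.obj.mapTop φ e)) =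
      G.obj.mapTop φ ((u.app ξ.1).app ⊤ (h.1 ξ α e))
    rw [h.2 φ α e, StMod.Mod.mapTop_app]⟩
  map_add' h h' := AHom.ext fun ξ α m => by
    change (u.app ξ.1).app ⊤ (h.1 ξ α m + h'.1 ξ α m) = _
    rw [map_add]
    rfl
  map_smul' c h := AHom.ext fun ξ α m => Scheme.Modules.Hom.app_smul (u.app ξ.1) _ _

@[simp] lemma AHom.comp_val {η : 𝒴.obj} (u : F.obj ⟶ G.obj) (h : AHom f E F η) (ξ : AObj 𝒳)
    (α : f.obj ξ.1 ⟶ η) (e : Sec E ξ.1) : (AHom.comp u h).1 ξ α e = (u.app ξ.1).app ⊤ (h.1 ξ α e) := rfl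

lemma AHom.restr_comp {η' η : 𝒴.obj} (β : η' ⟶ η) (u : F.obj ⟶ G.obj) (h : AHom f E F η) :
    AHom.restr β (AHom.comp u h) = AHom.comp u (AHom.restr β h) := rfl

variable {η : 𝒴.obj} {𝔹 : Atlas (StMod.fibCat f η)} (P : Presn 𝔹 (fibMod f η E))
  (hp : FibCat.IsFibGrpd 𝒳.p) (F)

/-- The families from the extension of scalars of the small model. -/
def thA (D : 𝒴.obj) (γ : D ⟶ η) : BC (Sol P F) γ →+ AHom f E F D :=
  letI := (fnMap γ).toAlgebra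
  TensorProduct.liftAddHom
    (AddMonoidHom.mk' (fun c => AddMonoidHom.mk' (fun q => c • AHom.restr γ (solEquiv P F hp q))
      fun a b => by rw [map_add, map_add, smul_add])
      fun a b => AddMonoidHom.ext fun q => add_smul a b (AHom.restr γ (solEquiv P F hp q)))
    fun r c q => by
      change (fnMap γ r * c) • AHom.restr γ (solEquiv P F hp q) = c • AHom.restr γ (solEquiv P F hp (r • q))
      rw [map_smul, AHom.restr_smul, smul_smul, mul_comm]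

lemma thA_gen (D : 𝒴.obj) (γ : D ⟶ η) (q : Sol P F) :
    thA F P hp D γ (gen (Sol P F) γ q) = AHom.restr γ (solEquiv P F hp q) :=
  one_smul (Fn 𝒴 D) (AHom.restr γ (solEquiv P F hp q))

lemma thA_smul (D : 𝒴.obj) (γ : D ⟶ η) (c : Fn 𝒴 D) (u : BC (Sol P F) γ) :
    thA F P hp D γ (c • u) = c • thA F P hp D γ u := by
  letI := (fnMap γ).toAlgebra
  induction u using TensorProduct.induction_on with
  | zero =>
    refine (congrArg (thA F P hp D γ) (smul_zero (A := BC (Sol P F) γ) c)).trans ((map_zero _).trans ?_)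
    exact ((congrArg (c • ·) (map_zero (thA F P hp D γ))).trans (smul_zero (A := AHom f E F D) c)).symm
  | add a b ha hb =>
    refine (congrArg (thA F P hp D γ) (smul_add c (show BC (Sol P F) γ from a) b)).trans ?_
    refine (map_add _ _ _).trans ((congrArg₂ (· + ·) ha hb).trans ((smul_add c _ _).symm.trans ?_))
    exact congrArg (c • ·) (map_add (thA F P hp D γ) (show BC (Sol P F) γ from a) b).symm
  | tmul b q => exact (mul_smul c b (AHom.restr γ (solEquiv P F hp q)))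

lemma thA_nat {D' D : 𝒴.obj} (d : D' ⟶ D) (γ : D ⟶ η) (γ' : D' ⟶ η) (e : d ≫ γ = γ') (u : BC (Sol P F) γ) :
    AHom.restr d (thA F P hp D γ u) = thA F P hp D' γ' (push d e u) :=
  congr($((isBC_gen (Sol P F) γ).hom_ext (a := (AHom.restr d).comp (thA F P hp D γ))
    (b := (thA F P hp D' γ').comp (push d e)) (fnMap d)
    (fun r n => by simp [thA_smul, AHom.restr_smul]) (fun r n => by simp [thA_smul, push_smul])
    fun m => by simp [thA_gen, AHom.restr_restr, e]) u)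

variable (hq : FibCat.IsFibGrpd 𝒴.p) (𝔸 : AtlasF 𝒴) {𝔹' : Atlas (StMod.fibCat f 𝔸.x)}
  (P' : Presn 𝔹' (fibMod f 𝔸.x E))

/-- The system of the families. -/
def hps : FlatSys.{u + 1} 𝔸 (Sol P' F) where
  Hd D := AHom f E F D.1
  hr d := AHom.restr d
  θ D γ := thA F P' hp D.1 γ
  θ_smul D γ := thA_smul F P' hp D.1 γ
  θ_bij D γ hfl := bijective_restr_lift (P := P') (F := F) hp hq D.2 𝔸.affx γ hfl (thA F P' hp D.1 γ) fun _ _ => rfl
  θ_nat d γ γ' e := thA_nat F P' hp d γ γ' e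

/-- The direct image of the families. -/
def pushQ : StMod.QCoh 𝒴 := (hps F hp hq 𝔸 P').Q hq

/-- Sections of the direct image as families. -/
def val (D : AObj 𝒴) (β : D.1 ⟶ 𝔸.x) : Sec (pushQ F hp hq 𝔸 P') D.1 →ₗ[Fn 𝒴 D.1] AHom f E F D.1 :=
  ((hps F hp hq 𝔸 P').θl D β).comp ((hps F hp hq 𝔸 P').sval hq D β)

variable {F hp hq 𝔸 P'}

theorem bijective_val (D : AObj 𝒴) (β : D.1 ⟶ 𝔸.x) (hβ : Flat (StMod.bmap 𝒴 β)) :
    Function.Bijective (val F hp hq 𝔸 P' D β) :=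
  ((hps F hp hq 𝔸 P').θ_bij D β hβ).comp ((hps F hp hq 𝔸 P').bijective_sval hq D β)

lemma val_mapTop {D' D : AObj 𝒴} (d : D'.1 ⟶ D.1) {β : D.1 ⟶ 𝔸.x} {β' : D'.1 ⟶ 𝔸.x} (e : d ≫ β = β')
    (s : Sec (pushQ F hp hq 𝔸 P') D.1) :
    val F hp hq 𝔸 P' D' β' ((pushQ F hp hq 𝔸 P').obj.mapTop d s) = AHom.restr d (val F hp hq 𝔸 P' D β s) :=
  (congrArg ((hps F hp hq 𝔸 P').θ D' β') ((hps F hp hq 𝔸 P').sval_mapTop hq d e s)).trans
    ((hps F hp hq 𝔸 P').θ_nat d β β' e _).symm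

theorem θ_Φ (D : AObj 𝒴) (α β : D.1 ⟶ 𝔸.x) (u : BC (Sol P' F) α) :
    (hps F hp hq 𝔸 P').θ D β ((hps F hp hq 𝔸 P').Φ hq α β u) = (hps F hp hq 𝔸 P').θ D α u := by
  obtain ⟨D', φ, c, hφ, ha, hb⟩ := 𝔸.cov₂ D.1 α β D.2
  let σ := hps F hp hq 𝔸 P'
  let Z : AObj 𝒴 := ⟨D', hφ.1⟩
  refine AHom.restr_injective hp hq (D' := Z) hφ ?_
  refine (σ.θ_nat (D' := Z) φ β (φ ≫ β) rfl _).trans (Eq.trans ?_ (σ.θ_nat (D' := Z) φ α (φ ≫ α) rfl u).symm)
  rw [σ.isTrans_Φ hq α β u Z φ c ha.symm hb.symm, σ.θ_tr]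

lemma val_indep (D : AObj 𝒴) (α β : D.1 ⟶ 𝔸.x) (s : Sec (pushQ F hp hq 𝔸 P') D.1) :
    val F hp hq 𝔸 P' D α s = val F hp hq 𝔸 P' D β s :=
  (θ_Φ D α β _).symm.trans (congrArg ((hps F hp hq 𝔸 P').θ D β) ((hps F hp hq 𝔸 P').Φ_sval hq D α β s))

/-- The direct image of a morphism. -/
theorem exists_pushHom (u : F.obj ⟶ G.obj) :
    ∃ v : (pushQ F hp hq 𝔸 P').obj ⟶ (pushQ G hp hq 𝔸 P').obj, ∀ (D : AObj 𝒴) (β : D.1 ⟶ 𝔸.x)
      (s : Sec (pushQ F hp hq 𝔸 P') D.1),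
      val G hp hq 𝔸 P' D β ((v.app D.1).app ⊤ s) = AHom.comp u (val F hp hq 𝔸 P' D β s) := by
  have hid : Flat (StMod.bmap 𝒴 (𝟙 𝔸.x)) := by rw [StMod.bmap_id]; infer_instance
  let eG := LinearEquiv.ofBijective _ (bijective_val (F := G) (hp := hp) (hq := hq) (P' := P') 𝔸.X (𝟙 𝔸.x) hid)
  let h : Sec (pushQ F hp hq 𝔸 P') 𝔸.x →ₗ[Fn 𝒴 𝔸.x] Sec (pushQ G hp hq 𝔸 P') 𝔸.x :=
    eG.symm.toLinearMap.comp ((AHom.comp u).comp (val F hp hq 𝔸 P' 𝔸.X (𝟙 𝔸.x)))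
  have hh : ∀ s, val G hp hq 𝔸 P' 𝔸.X (𝟙 𝔸.x) (h s) = AHom.comp u (val F hp hq 𝔸 P' 𝔸.X (𝟙 𝔸.x) s) := fun s =>
    eG.apply_symm_apply _
  have key : ∀ (D : AObj 𝒴) (β : D.1 ⟶ 𝔸.x) (t : Sec (pushQ F hp hq 𝔸 P') D.1),
      val G hp hq 𝔸 P' D β (pl 𝔸.affx h D.2 β t) = AHom.comp u (val F hp hq 𝔸 P' D β t) := by
    intro D β t
    refine sec_induction (φ := β) D.2 𝔸.affx (P := fun t =>
      val G hp hq 𝔸 P' D β (pl 𝔸.affx h D.2 β t) = AHom.comp u (val F hp hq 𝔸 P' D β t)) t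
      (by simp only [map_zero]) (fun a b ha hb => by simp only [map_add, ha, hb]) fun r m => ?_
    simp only [map_smul, pl_mapTop]
    rw [val_mapTop (D := 𝔸.X) β (Category.comp_id β), hh, AHom.restr_comp,
      ← val_mapTop (D := 𝔸.X) β (Category.comp_id β)]
  obtain ⟨v, hv⟩ := exists_hom_of_atlas hq 𝔸.toAtlas h (LinearMap.ext fun t =>
    (bijective_val 𝔸.Y 𝔸.b 𝔸.flatb).1 (by
      rw [← val_indep 𝔸.Y 𝔸.a, key 𝔸.Y, key 𝔸.Y, val_indep 𝔸.Y 𝔸.a 𝔸.b]))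
  refine ⟨v, fun D β s => ?_⟩
  refine sec_induction (φ := β) D.2 𝔸.affx (P := fun s =>
      val G hp hq 𝔸 P' D β ((v.app D.1).app ⊤ s) = AHom.comp u (val F hp hq 𝔸 P' D β s)) s
      (by simp only [map_zero]) (fun a b ha hb => by simp only [map_add, ha, hb]) fun r m => ?_
  rw [Scheme.Modules.Hom.app_smul, map_smul, map_smul, map_smul, ← StMod.Mod.mapTop_app]
  refine congrArg (r • ·) ?_
  rw [hv, val_mapTop (D := 𝔸.X) β (Category.comp_id β), hh, AHom.restr_comp,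
    ← val_mapTop (D := 𝔸.X) β (Category.comp_id β)]

end Groth.Agent.H14QCoh
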