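import Groth.Agent.H14QCoh.Aff

/-!
# Restriction of sections over an open to an affine object, and morphisms from data on affine objects
-/

set_option autoImplicit false
set_option linter.style.haveILetI false
set_option backward.isDefEq.respectTransparency false
set_option backward.isDefEq.respectTransparency.types false

universe w v u

open CategoryTheory CategoryTheory.Limits AlgebraicGeometry Opposite TopologicalSpace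

noncomputable section

namespace Groth.Agent.H14QCoh

variable {S : Scheme.{u}} {𝒳 : BasedCategory.{v, w} (Over S)}

/-- Restriction of a section over an open to an object mapping into it. -/
def res (F : StMod.Mod 𝒳) {ζ ξ : 𝒳.obj} (χ : ζ ⟶ ξ) (U : (StMod.sch 𝒳 ξ).Opens)
    (h : ⊤ ≤ StMod.bmap 𝒳 χ ⁻¹ᵁ U) (m : Γ(F.obj ξ, U)) : Γ(F.obj ζ, ⊤) :=
  (F.obj ζ).presheaf.map (homOfLE h).op ((F.map χ rfl).app U m)

/-- Restriction of functions over an open to an object mapping into it. -/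
def resFn {ζ ξ : 𝒳.obj} (χ : ζ ⟶ ξ) (U : (StMod.sch 𝒳 ξ).Opens) (h : ⊤ ≤ StMod.bmap 𝒳 χ ⁻¹ᵁ U) :
    Γ(StMod.sch 𝒳 ξ, U) →+* Fn 𝒳 ζ :=
  ((StMod.bmap 𝒳 χ).appLE U ⊤ h).hom

variable {F G : StMod.Mod 𝒳} {ζ ξ : 𝒳.obj} (χ : ζ ⟶ ξ) {U : (StMod.sch 𝒳 ξ).Opens}
  (h : ⊤ ≤ StMod.bmap 𝒳 χ ⁻¹ᵁ U)

lemma res_add (a b : Γ(F.obj ξ, U)) : res F χ U h (a + b) = res F χ U h a + res F χ U h b := by
  rw [res, map_add, map_add]
  rfl

lemma res_zero : res F χ U h (0 : Γ(F.obj ξ, U)) = 0 := by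
  rw [res, map_zero, map_zero]

lemma res_smul (r : Γ(StMod.sch 𝒳 ξ, U)) (m : Γ(F.obj ξ, U)) :
    res F χ U h (r • m) = resFn χ U h r • res F χ U h m := by
  rw [res, Scheme.Modules.Hom.app_smul (F.map χ rfl) r m]
  exact Scheme.Modules.map_smul _ _ _ _

lemma res_map {W : (StMod.sch 𝒳 ξ).Opens} (hW : W ≤ U) (h' : ⊤ ≤ StMod.bmap 𝒳 χ ⁻¹ᵁ W) (m : Γ(F.obj ξ, U)) :
    res F χ W h' ((F.obj ξ).presheaf.map (homOfLE hW).op m) = res F χ U h m := by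
  rw [res, res]
  have e := congr($((Scheme.Modules.Hom.mapPresheaf (F.map χ rfl)).naturality (homOfLE hW).op) m)
  refine (congrArg _ e).trans ?_
  erw [ConcreteCategory.comp_apply]
  change (F.obj ζ).presheaf.map (homOfLE h').op
    ((F.obj ζ).presheaf.map (homOfLE ((StMod.bmap 𝒳 χ).preimage_mono hW)).op _) = _
  rw [← ConcreteCategory.comp_apply, ← Functor.map_comp]
  rfl

lemma res_app (u : F ⟶ G) (m : Γ(F.obj ξ, U)) :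
    res G χ U h ((u.app ξ).app U m) = (u.app ζ).app ⊤ (res F χ U h m) := by
  rw [res, res]
  have e := congrArg (fun f => Scheme.Modules.Hom.app f U m) (u.comm χ rfl)
  simp only [Scheme.Modules.Hom.comp_app, Scheme.Modules.pushforward_map_app] at e
  refine (congrArg _ e.symm).trans ?_
  exact (congr($((Scheme.Modules.Hom.mapPresheaf (u.app ζ)).naturality (homOfLE h).op) _)).symm

lemma res_top (m : Γ(F.obj ξ, ⊤)) : res F χ ⊤ le_top m = F.mapTop χ m := by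
  rw [res, show (homOfLE (le_top : (⊤ : (StMod.sch 𝒳 ζ).Opens) ≤ StMod.bmap 𝒳 χ ⁻¹ᵁ ⊤)).op = 𝟙 _ from rfl]
  erw [CategoryTheory.Functor.map_id]
  rfl

lemma preimage_comp_le {ζ' : 𝒳.obj} (ψ : ζ' ⟶ ζ) : ⊤ ≤ StMod.bmap 𝒳 (ψ ≫ χ) ⁻¹ᵁ U ↔
    ⊤ ≤ StMod.bmap 𝒳 ψ ⁻¹ᵁ (StMod.bmap 𝒳 χ ⁻¹ᵁ U) := by
  rw [StMod.bmap_comp, Scheme.Hom.comp_preimage]

lemma top_le_comp {ζ' : 𝒳.obj} (ψ : ζ' ⟶ ζ) (h : ⊤ ≤ StMod.bmap 𝒳 χ ⁻¹ᵁ U) :
    ⊤ ≤ StMod.bmap 𝒳 (ψ ≫ χ) ⁻¹ᵁ U :=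
  (preimage_comp_le χ ψ).2 fun x _ => h (Set.mem_univ _)

lemma mapTop_res {ζ' : 𝒳.obj} (ψ : ζ' ⟶ ζ) (m : Γ(F.obj ξ, U)) :
    F.mapTop ψ (res F χ U h m) = res F (ψ ≫ χ) U (top_le_comp χ ψ h) m := by
  have key : ∀ {g : StMod.sch 𝒳 ζ' ⟶ StMod.sch 𝒳 ξ} (hg : StMod.bmap 𝒳 (ψ ≫ χ) = g) (h' : ⊤ ≤ g ⁻¹ᵁ U),
      res F (ψ ≫ χ) U (top_le_comp χ ψ h) m =
        (F.obj ζ').presheaf.map (homOfLE h').op ((F.map (ψ ≫ χ) hg).app U m) := by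
    intro g hg h'
    subst hg
    rfl
  rw [key (g := StMod.bmap 𝒳 ψ ≫ StMod.bmap 𝒳 χ) (StMod.bmap_comp ψ χ)
    ((preimage_comp_le χ ψ).1 (top_le_comp χ ψ h)), StMod.Mod.map_comp_app F ψ χ rfl rfl]
  rw [res]
  exact congr($((Scheme.Modules.Hom.mapPresheaf (F.map ψ rfl)).naturality (homOfLE h).op) _)

lemma exists_open_lift (hp : FibCat.IsFibGrpd 𝒳.p) (ξ : 𝒳.obj) (U : (StMod.sch 𝒳 ξ).Opens)
    (hU : IsAffineOpen U) :
    ∃ (ξU : 𝒳.obj) (φ : ξU ⟶ ξ) (_ : IsAffine (StMod.sch 𝒳 ξU)),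
      ∃ _ : IsOpenImmersion (StMod.bmap 𝒳 φ), (StMod.bmap 𝒳 φ).opensRange = U := by
  obtain ⟨ξU, φ, e, he⟩ := exists_lift hp ξ U.ι
  haveI : IsAffine U.toScheme := hU
  have hI : IsOpenImmersion (StMod.bmap 𝒳 φ) := by rw [he]; infer_instance
  refine ⟨ξU, φ, IsAffine.of_isIso e.hom, hI, ?_⟩
  · apply Opens.ext
    rw [Scheme.Hom.coe_opensRange, he, Scheme.Hom.comp_base, TopCat.coe_comp, Set.range_comp,
      Set.range_eq_univ.2 e.hom.surjective, Set.image_univ]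
    exact U.range_ι

lemma bijective_res_open (F : StMod.QCoh 𝒳) [IsOpenImmersion (StMod.bmap 𝒳 χ)]
    [IsAffine (StMod.sch 𝒳 ζ)] (hU : IsAffineOpen U) (he : (StMod.bmap 𝒳 χ).opensRange = U) :
    Function.Bijective (res F.obj χ U h) := by
  refine bijective_resLin F χ h hU (isAffineOpen_top _) ?_
  haveI : IsIso ((StMod.bmap 𝒳 χ).app U) := (StMod.bmap 𝒳 χ).isIso_app U he.ge
  have e : StMod.bmap 𝒳 χ ⁻¹ᵁ U = ⊤ := top_le_iff.1 h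
  haveI : IsIso ((StMod.sch 𝒳 ζ).presheaf.map (homOfLE h).op) := by
    rw [show (homOfLE h) = eqToHom e.symm from Subsingleton.elim _ _]
    infer_instance
  haveI : IsIso ((StMod.bmap 𝒳 χ).appLE U ⊤ h) := by rw [Scheme.Hom.appLE]; infer_instance
  exact ConcreteCategory.bijective_of_isIso ((StMod.bmap 𝒳 χ).appLE U ⊤ h)

/-- A family of linear maps on the affine objects. -/
abbrev AffFam (F G : StMod.QCoh 𝒳) : Type _ :=
  ∀ ξ : 𝒳.obj, IsAffine (StMod.sch 𝒳 ξ) → (Sec F ξ →ₗ[Fn 𝒳 ξ] Sec G ξ)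

/-- Compatibility with the comparison maps. -/
def AffFam.Nat {F G : StMod.QCoh 𝒳} (f : AffFam F G) : Prop :=
  ∀ ⦃ξ' ξ : 𝒳.obj⦄ (φ : ξ' ⟶ ξ) (hξ' : IsAffine (StMod.sch 𝒳 ξ')) (hξ : IsAffine (StMod.sch 𝒳 ξ)) (x : Sec F ξ),
    f ξ' hξ' (F.obj.mapTop φ x) = G.obj.mapTop φ (f ξ hξ x)

/-- Morphisms of quasi-coherent modules are determined on the affine objects. -/
theorem hom_ext_affine (hp : FibCat.IsFibGrpd 𝒳.p) {F G : StMod.QCoh 𝒳} {u v : F.obj ⟶ G.obj}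
    (h : ∀ ξ : 𝒳.obj, IsAffine (StMod.sch 𝒳 ξ) → ∀ x : Sec F ξ, (u.app ξ).app ⊤ x = (v.app ξ).app ⊤ x) : u = v := by
  refine StMod.Mod.hom_ext fun ξ => H17.AffHom.hom_ext fun U x => ?_
  obtain ⟨ξU, φ, hA, hI, hR⟩ := exists_open_lift hp ξ U.1 U.2
  have hle : ⊤ ≤ StMod.bmap 𝒳 φ ⁻¹ᵁ U.1 := fun y _ => hR.le ⟨y, rfl⟩
  refine (bijective_res_open φ hle G U.2 hR).1 ?_
  rw [res_app, res_app, h ξU hA]

/-- A natural family on the affine objects comes from a morphism. -/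
theorem exists_hom (hp : FibCat.IsFibGrpd 𝒳.p) {F G : StMod.QCoh 𝒳} (f : AffFam F G) (hf : f.Nat) :
    ∃ u : F.obj ⟶ G.obj, ∀ ξ (hξ : IsAffine (StMod.sch 𝒳 ξ)) (x : Sec F ξ), (u.app ξ).app ⊤ x = f ξ hξ x := by
  classical
  let P : ∀ (ξ : 𝒳.obj) (U : (StMod.sch 𝒳 ξ).affineOpens), Γ(F.obj.obj ξ, U.1) → Γ(G.obj.obj ξ, U.1) → Prop :=
    fun ξ U m n => ∀ (ζ : 𝒳.obj) (χ : ζ ⟶ ξ) (hζ : IsAffine (StMod.sch 𝒳 ζ)) (h : ⊤ ≤ StMod.bmap 𝒳 χ ⁻¹ᵁ U.1),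
      f ζ hζ (res F.obj χ U.1 h m) = res G.obj χ U.1 h n
  have ex : ∀ ξ U m, ∃ n, P ξ U m n ∧ ∀ n', P ξ U m n' → n' = n := by
    intro ξ U m
    obtain ⟨ξU, φ, hA, hI, hR⟩ := exists_open_lift hp ξ U.1 U.2
    have hle : ⊤ ≤ StMod.bmap 𝒳 φ ⁻¹ᵁ U.1 := fun y _ => hR.le ⟨y, rfl⟩
    obtain ⟨hinj, hsurj⟩ := bijective_res_open φ hle G U.2 hR
    obtain ⟨n, hn⟩ := hsurj (f ξU hA (res F.obj φ U.1 hle m))
    refine ⟨n, fun ζ χ hζ h => ?_, fun n' hn' => hinj ((hn' ξU φ hA hle).symm.trans hn.symm)⟩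
    have hr : Set.range (StMod.bmap 𝒳 χ) ⊆ Set.range (StMod.bmap 𝒳 φ) := by
      rintro _ ⟨y, rfl⟩
      exact hR.ge (h (Set.mem_univ y))
    obtain ⟨c, hc, -⟩ := exists_factor hp φ χ (IsOpenImmersion.lift _ _ hr) (IsOpenImmersion.lift_fac _ _ _)
    subst hc
    rw [← mapTop_res φ hle c m, hf c hζ hA, ← hn]
    exact mapTop_res φ hle c n
  choose T hT hT' using ex
  let lin : ∀ (ξ : 𝒳.obj) (U : (StMod.sch 𝒳 ξ).affineOpens),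
      Γ(F.obj.obj ξ, U.1) →ₗ[Γ(StMod.sch 𝒳 ξ, U.1)] Γ(G.obj.obj ξ, U.1) := fun ξ U =>
    { toFun := T ξ U
      map_add' := fun a b => (hT' ξ U _ _ fun ζ χ hζ h => by
        rw [res_add, res_add, map_add, hT ξ U a ζ χ hζ h, hT ξ U b ζ χ hζ h]).symm
      map_smul' := fun r a => (hT' ξ U _ _ fun ζ χ hζ h => by
        rw [RingHom.id_apply, res_smul, res_smul, map_smul, hT ξ U a ζ χ hζ h]).symm }
  have hnat : ∀ (ξ : 𝒳.obj) (U V : (StMod.sch 𝒳 ξ).affineOpens) (h : V.1 ≤ U.1) x,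
      lin ξ V ((F.obj.obj ξ).presheaf.map (homOfLE h).op x) =
        (G.obj.obj ξ).presheaf.map (homOfLE h).op (lin ξ U x) := fun ξ U V h x =>
    (hT' ξ V _ _ fun ζ χ hζ h' => by
      have h'' : ⊤ ≤ StMod.bmap 𝒳 χ ⁻¹ᵁ U.1 := h'.trans ((StMod.bmap 𝒳 χ).preimage_mono h)
      rw [res_map χ h'' h h', res_map χ h'' h h']
      exact hT ξ U x ζ χ hζ h'').symm
  choose app happ using fun ξ => H17.AffHom.exists_hom (lin ξ) (hnat ξ)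
  refine ⟨{ app := app, comm := ?_ }, fun ξ hξ x => ?_⟩
  · intro ξ' ξ φ g hg
    subst hg
    refine H17.AffHom.hom_ext fun U m => ?_
    rw [Scheme.Modules.Hom.comp_app, Scheme.Modules.Hom.comp_app, ConcreteCategory.comp_apply,
      ConcreteCategory.comp_apply, Scheme.Modules.pushforward_map_app, happ]
    refine H17.AffHom.eq_of_affine (StMod.bmap 𝒳 φ ⁻¹ᵁ U.1) fun V hV => ?_
    refine (congr($((Scheme.Modules.Hom.mapPresheaf (app ξ')).naturality (homOfLE hV).op) _)).symm.trans ?_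
    refine (happ ξ' V _).trans (hT' ξ' V _ _ fun ζ χ hζ h => ?_).symm
    have hd : ⊤ ≤ StMod.bmap 𝒳 (χ ≫ φ) ⁻¹ᵁ U.1 :=
      (preimage_comp_le φ χ).2 (h.trans ((StMod.bmap 𝒳 χ).preimage_mono hV))
    have key : ∀ (H : StMod.Mod 𝒳) (z : Γ(H.obj ξ, U.1)),
        res H χ V.1 h ((H.obj ξ').presheaf.map (homOfLE hV).op ((H.map φ rfl).app U.1 z)) =
          res H (χ ≫ φ) U.1 hd z := by
      intro H z
      have h₀ : ⊤ ≤ StMod.bmap 𝒳 χ ⁻¹ᵁ (StMod.bmap 𝒳 φ ⁻¹ᵁ U.1) := h.trans ((StMod.bmap 𝒳 χ).preimage_mono hV)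
      rw [res_map χ h₀ hV h]
      have k : ∀ {g : StMod.sch 𝒳 ζ ⟶ StMod.sch 𝒳 ξ} (hg : StMod.bmap 𝒳 (χ ≫ φ) = g) (h' : ⊤ ≤ g ⁻¹ᵁ U.1),
          res H (χ ≫ φ) U.1 hd z = (H.obj ζ).presheaf.map (homOfLE h').op ((H.map (χ ≫ φ) hg).app U.1 z) := by
        intro g hg h'
        subst hg
        rfl
      rw [k (g := StMod.bmap 𝒳 χ ≫ StMod.bmap 𝒳 φ) (StMod.bmap_comp χ φ) h₀, StMod.Mod.map_comp_app H χ φ rfl rfl]
      rfl
    rw [key]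
    refine (congrArg (f ζ hζ) (key F.obj m)).trans ?_
    exact hT ξ U m ζ (χ ≫ φ) hζ hd
  · have e := hT ξ ⟨⊤, isAffineOpen_top _⟩ x ξ (𝟙 ξ) hξ le_top
    rw [res_top, res_top, StMod.Mod.mapTop_id, StMod.Mod.mapTop_id] at e
    exact (happ ξ ⟨⊤, isAffineOpen_top _⟩ x).trans e.symm

end Groth.Agent.H14QCoh
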