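import Groth.Agent.H14QCoh.Atlas
import Groth.Agent.H14QCoh.Flat
import Groth.Agent.H14QCoh.Cast
import Groth.Agent.H17.KoszSh.AffHom

/-!
# Global sections on an atlas, and descent of surjectivity along faithfully flat base changes
-/

set_option autoImplicit false
set_option linter.style.haveILetI false
set_option backward.isDefEq.respectTransparency false
set_option backward.isDefEq.respectTransparency.types false

universe w' v' w v u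

open CategoryTheory CategoryTheory.Limits AlgebraicGeometry Opposite TopologicalSpace
open scoped TensorProduct

noncomputable section

namespace Groth.Agent.H14QCoh

variable {S : Scheme.{u}} {𝒳 : BasedCategory.{v, w} (Over S)} {𝒵 : BasedCategory.{v', w'} (Over S)}

/-- Sections are determined on the affine objects. -/
theorem sec_ext_affine (hp : FibCat.IsFibGrpd 𝒳.p) {F : StMod.QCoh 𝒳} {ξ : 𝒳.obj} {s t : Γ(F.obj.obj ξ, ⊤)}
    (h : ∀ (ζ : 𝒳.obj) (χ : ζ ⟶ ξ), IsAffine (StMod.sch 𝒳 ζ) → F.obj.mapTop χ s = F.obj.mapTop χ t) :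
    s = t := by
  let M := F.obj.obj ξ
  refine TopCat.Sheaf.eq_of_locally_eq' ⟨M.presheaf, M.isSheaf⟩ (fun U : (StMod.sch 𝒳 ξ).affineOpens => U.1) ⊤
    (fun U => homOfLE le_top) (iSup_affineOpens_eq_top _).ge s t fun U => ?_
  obtain ⟨ζ, χ, hA, hI, hR⟩ := exists_open_lift hp ξ U.1 U.2
  have hle : ⊤ ≤ StMod.bmap 𝒳 χ ⁻¹ᵁ U.1 := fun y _ => hR.le ⟨y, rfl⟩
  refine (bijective_res_open χ hle F U.2 hR).1 ?_
  refine (res_map χ (F := F.obj) le_top le_top hle s).trans ?_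
  refine Eq.trans ?_ (res_map χ (F := F.obj) le_top le_top hle t).symm
  rw [res_top, res_top]
  exact h ζ χ hA

/-- Global sections are determined at the atlas. -/
theorem globSect_ext (hp : FibCat.IsFibGrpd 𝒳.p) (𝔸 : Atlas 𝒳) {F : StMod.QCoh 𝒳} (s t : F.obj.GlobSect)
    (h : s.1 𝔸.x = t.1 𝔸.x) : s = t := by
  refine StMod.Mod.GlobSect.ext fun ξ => sec_ext_affine hp fun ζ χ hζ => ?_
  rw [s.2 χ, t.2 χ]
  obtain ⟨ζ', φ, hφ, ⟨α⟩⟩ := 𝔸.cov ζ hζ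
  haveI := hζ
  refine injective_mapTop_cov (F := F) hφ ?_
  rw [s.2 φ, t.2 φ, ← s.2 α, ← t.2 α, h]

/-- A section on the atlas with equal inverse images is a global section. -/
theorem exists_globSect (hp : FibCat.IsFibGrpd 𝒳.p) (𝔸 : Atlas 𝒳) (F : StMod.QCoh 𝒳) (s : Sec F 𝔸.x)
    (hs : F.obj.mapTop 𝔸.a s = F.obj.mapTop 𝔸.b s) : ∃ t : F.obj.GlobSect, t.1 𝔸.x = s := by
  let h : Sec (StMod.OQ 𝒳) 𝔸.x →ₗ[Fn 𝒳 𝔸.x] Sec F 𝔸.x :=
    LinearMap.toSpanSingleton (Fn 𝒳 𝔸.x) (Sec F 𝔸.x) s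
  have hone : ∀ {ζ ξ : 𝒳.obj} (φ : ζ ⟶ ξ),
      (StMod.OQ 𝒳).obj.mapTop φ (1 : Fn 𝒳 ξ) = (1 : Fn 𝒳 ζ) := fun φ => map_one (fnMap φ)
  obtain ⟨u, hu⟩ := exists_hom_of_atlas hp 𝔸 h (lin_ext (φ := 𝔸.a) 𝔸.affy 𝔸.affx fun e => by
    rw [pl_mapTop]
    let one : Sec (StMod.OQ 𝒳) 𝔸.x := (1 : Fn 𝒳 𝔸.x)
    let r : Fn 𝒳 𝔸.x := e
    have h1 : (StMod.OQ 𝒳).obj.mapTop 𝔸.a one = (StMod.OQ 𝒳).obj.mapTop 𝔸.b one :=
      (hone 𝔸.a).trans (hone 𝔸.b).symm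
    have hr : e = r • one := (mul_one r).symm
    rw [hr, map_smul, F.obj.mapTop_smul, (StMod.OQ 𝒳).obj.mapTop_smul, map_smul]
    congr 1
    rw [h1, pl_mapTop]
    change F.obj.mapTop 𝔸.a ((1 : Fn 𝒳 𝔸.x) • s) = F.obj.mapTop 𝔸.b ((1 : Fn 𝒳 𝔸.x) • s)
    rw [one_smul, hs])
  refine ⟨⟨fun ξ => (u.app ξ).app ⊤ (1 : Fn 𝒳 ξ), fun ξ' ξ φ => ?_⟩, ?_⟩
  · rw [StMod.Mod.mapTop_app]
    exact congrArg _ (hone φ)
  · exact (hu _).trans (one_smul _ s)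

variable {q : 𝒵 ⥤ᵇ 𝒳} (Φ : FlatBC q)

/-- Comparison maps commute with the transition maps of the atlas. -/
theorem sqLift_trans {F : StMod.QCoh 𝒳} {ξ' ξ : 𝒳.obj} (hξ' : IsAffine (StMod.sch 𝒳 ξ'))
    (hξ : IsAffine (StMod.sch 𝒳 ξ)) (α : ξ' ⟶ ξ) (c : Φ.z ξ' hξ' ⟶ Φ.z ξ hξ)
    (hc : q.map c ≫ Φ.e ξ hξ = Φ.e ξ' hξ' ≫ α) :
    letI := Φ.β.toAlgebra
    letI := baseModule F (Φ.ρ ξ)
    letI := baseModule F (Φ.ρ ξ')
    ∀ (L : Sec F ξ →ₗ[Φ.A] Sec F ξ'), (∀ m, L m = F.obj.mapTop α m) → ∀ v : Φ.B ⊗[Φ.A] Sec F ξ,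
      letI := baseModule F (Φ.σ (Φ.z ξ hξ))
      letI := baseModule F (Φ.σ (Φ.z ξ' hξ'))
      sqLift Φ.β F (Φ.e ξ' hξ') (Φ.ρ ξ') (Φ.σ (Φ.z ξ' hξ')) (Φ.w ξ' hξ') (L.lTensor Φ.B v) =
        F.obj.mapTop (q.map c) (sqLift Φ.β F (Φ.e ξ hξ) (Φ.ρ ξ) (Φ.σ (Φ.z ξ hξ)) (Φ.w ξ hξ) v) := by
  intro L hL v
  letI := Φ.β.toAlgebra
  letI := baseModule F (Φ.ρ ξ)
  letI := baseModule F (Φ.ρ ξ')
  letI := baseModule F (Φ.σ (Φ.z ξ hξ))
  letI := baseModule F (Φ.σ (Φ.z ξ' hξ'))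
  induction v using TensorProduct.induction_on with
  | zero => simp [StMod.Mod.mapTop_zero]
  | add a b ha hb => rw [map_add, map_add, map_add, F.obj.mapTop_add, ha, hb]
  | tmul r m =>
    rw [LinearMap.lTensor_tmul, sqLift_tmul, sqLift_tmul, F.obj.mapTop_smul, hL, ← F.obj.mapTop_comp,
      ← F.obj.mapTop_comp, hc]
    exact congrArg (fun k : Fn 𝒳 (q.obj (Φ.z ξ' hξ')) => k • F.obj.mapTop (Φ.e ξ' hξ' ≫ α) m) (Φ.σ_nat c r).symm

/-- An element killed by a flat extension is killed by an ideal generating the unit ideal upstairs. -/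
theorem map_eq_top_of_tmul_eq_zero {A B Q : Type u} [CommRing A] [CommRing B] [Algebra A B] [Module.Flat A B]
    [AddCommGroup Q] [Module A Q] (q : Q) (h : (1 : B) ⊗ₜ[A] q = 0) (J : Ideal A)
    (hJ : ∀ r : A, r • q = 0 → r ∈ J) : J.map (algebraMap A B) = ⊤ := by
  let L := LinearMap.toSpanSingleton A Q q
  let K := LinearMap.ker L
  let j : (A ⧸ K) →ₗ[A] Q := K.liftQ L le_rfl
  have hj : Function.Injective j := LinearMap.ker_eq_bot.1 (Submodule.ker_liftQ_eq_bot _ _ _ le_rfl)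
  have h0 : (1 : B) ⊗ₜ[A] (Submodule.Quotient.mk (p := K) (1 : A)) = 0 := by
    refine Module.Flat.lTensor_preserves_injective_linearMap (M := B) j hj ?_
    rw [LinearMap.lTensor_tmul, map_zero]
    change (1 : B) ⊗ₜ[A] L 1 = 0
    rw [LinearMap.toSpanSingleton_apply, one_smul, h]
  have h1 := (congrArg (fun t => TensorProduct.quotTensorEquivQuotSMul B K (TensorProduct.comm A B _ t)) h0)
  simp only [TensorProduct.comm_tmul, map_zero] at h1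
  erw [TensorProduct.quotTensorEquivQuotSMul_mk_tmul, one_smul, Submodule.Quotient.mk_eq_zero] at h1
  refine (Ideal.eq_top_iff_one _).2 (Submodule.smul_le (P := (J.map (algebraMap A B)).restrictScalars A) |>.2
    (fun r hr c _ => ?_) h1)
  rw [Submodule.restrictScalars_mem, Algebra.smul_def]
  exact Ideal.mul_mem_right _ _ (Ideal.mem_map_of_mem _ (hJ r ((LinearMap.toSpanSingleton_apply A Q q r).symm.trans hr)))

/-- The functions whose multiple of a global section lifts generate the unit ideal after a flat base change over which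
the section lifts. -/
theorem map_liftable_eq_top (hp : FibCat.IsFibGrpd 𝒳.p) (𝔸 : Atlas 𝒳)
    {F G : StMod.QCoh 𝒳} (u : F.obj ⟶ G.obj) (n : G.obj.GlobSect) (s' : ∀ ζ : 𝒵.obj, Sec F (q.obj ζ))
    (hs' : ∀ {ζ' ζ : 𝒵.obj} (c : ζ' ⟶ ζ), F.obj.mapTop (q.map c) (s' ζ) = s' ζ')
    (hu : ∀ ζ, (u.app (q.obj ζ)).app ⊤ (s' ζ) = n.1 (q.obj ζ)) (J : Ideal Φ.A)
    (hJ : ∀ (r : Φ.A) (m : F.obj.GlobSect), (∀ ξ, (u.app ξ).app ⊤ (m.1 ξ) = Φ.ρ ξ r • n.1 ξ) → r ∈ J) :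
    J.map Φ.β = ⊤ := by
  let x := 𝔸.x
  let y := 𝔸.y
  let zx := Φ.z x 𝔸.affx
  let zy := Φ.z y 𝔸.affy
  obtain ⟨ca, hca⟩ := Φ.fac x 𝔸.affx zy (Φ.e y 𝔸.affy ≫ 𝔸.a)
  obtain ⟨cb, hcb⟩ := Φ.fac x 𝔸.affx zy (Φ.e y 𝔸.affy ≫ 𝔸.b)
  letI := Φ.β.toAlgebra
  haveI : Module.Flat Φ.A Φ.B := Φ.flat
  letI := baseModule F (Φ.ρ x)
  letI := baseModule F (Φ.ρ y)
  letI := baseModule G (Φ.ρ x)
  letI := baseModule F (Φ.σ zx)
  letI := baseModule F (Φ.σ zy)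
  letI := baseModule G (Φ.σ zx)
  let lin : ∀ α : y ⟶ x, Sec F x →ₗ[Φ.A] Sec F y := fun α =>
    { toFun := F.obj.mapTop α
      map_add' := F.obj.mapTop_add α
      map_smul' := fun r m => by
        change F.obj.mapTop α (Φ.ρ x r • m) = Φ.ρ y r • F.obj.mapTop α m
        rw [F.obj.mapTop_smul]
        exact congrArg (fun k : Fn 𝒳 y => k • F.obj.mapTop α m) (Φ.ρ_nat α r) }
  let Lu : Sec F x →ₗ[Φ.A] Sec G x :=
    { toFun := fun m => (u.app x).app ⊤ m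
      map_add' := map_add _
      map_smul' := fun r m => Scheme.Modules.Hom.app_smul (u.app x) (Φ.ρ x r) m }
  let D := lin 𝔸.a - lin 𝔸.b
  let θx := sqLift Φ.β F (Φ.e x 𝔸.affx) (Φ.ρ x) (Φ.σ zx) (Φ.w x 𝔸.affx)
  let θy := sqLift Φ.β F (Φ.e y 𝔸.affy) (Φ.ρ y) (Φ.σ zy) (Φ.w y 𝔸.affy)
  let ψx := sqLift Φ.β G (Φ.e x 𝔸.affx) (Φ.ρ x) (Φ.σ zx) (Φ.w x 𝔸.affx)
  have hθx : Function.Bijective θx :=
    bijective_sqLift Φ.β F _ _ _ (Φ.affz x 𝔸.affx) 𝔸.affx (Φ.w x 𝔸.affx) (Φ.push x 𝔸.affx)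
  have hθy : Function.Bijective θy :=
    bijective_sqLift Φ.β F _ _ _ (Φ.affz y 𝔸.affy) 𝔸.affy (Φ.w y 𝔸.affy) (Φ.push y 𝔸.affy)
  have hψx : Function.Bijective ψx :=
    bijective_sqLift Φ.β G _ _ _ (Φ.affz x 𝔸.affx) 𝔸.affx (Φ.w x 𝔸.affx) (Φ.push x 𝔸.affx)
  obtain ⟨w, hw⟩ := hθx.2 (s' zx)
  have hD : D.lTensor Φ.B w = 0 := by
    refine hθy.1 ?_
    rw [map_zero, LinearMap.lTensor_sub, LinearMap.sub_apply, map_sub, sub_eq_zero]
    refine (sqLift_trans Φ 𝔸.affy 𝔸.affx 𝔸.a ca hca (lin 𝔸.a) (fun _ => rfl) w).trans ?_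
    refine Eq.trans ?_ (sqLift_trans Φ 𝔸.affy 𝔸.affx 𝔸.b cb hcb (lin 𝔸.b) (fun _ => rfl) w).symm
    change F.obj.mapTop (q.map ca) (θx w) = F.obj.mapTop (q.map cb) (θx w)
    rw [hw, hs' ca, hs' cb]
  have ht : Lu.lTensor Φ.B w = (1 : Φ.B) ⊗ₜ[Φ.A] n.1 x := by
    refine hψx.1 ?_
    have key : ∀ v, ψx (Lu.lTensor Φ.B v) = (u.app (q.obj zx)).app ⊤ (θx v) := by
      intro v
      induction v using TensorProduct.induction_on with
      | zero => simp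
      | add a b ha hb => rw [map_add, map_add, map_add, map_add, ha, hb]
      | tmul r m =>
        rw [LinearMap.lTensor_tmul, sqLift_tmul, sqLift_tmul, Scheme.Modules.Hom.app_smul,
          ← StMod.Mod.mapTop_app]
        rfl
    rw [key, hw, hu, sqLift_tmul, map_one, one_smul, n.2]
  obtain ⟨w₀, hw₀⟩ := (Module.Flat.lTensor_exact Φ.B (LinearMap.exact_subtype_ker_map D) w).1 hD
  let N := (LinearMap.ker D).map Lu
  have hzero : (N.mkQ ∘ₗ Lu) ∘ₗ (LinearMap.ker D).subtype = 0 :=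
    LinearMap.ext fun k => (Submodule.Quotient.mk_eq_zero _).2 ⟨k.1, k.2, rfl⟩
  refine map_eq_top_of_tmul_eq_zero (Submodule.Quotient.mk (p := N) (n.1 x)) ?_ J fun r hr => ?_
  · have := congrArg (N.mkQ.lTensor Φ.B) ht
    rw [← hw₀, ← LinearMap.comp_apply, ← LinearMap.comp_apply, ← LinearMap.lTensor_comp,
      ← LinearMap.lTensor_comp, hzero, LinearMap.lTensor_zero] at this
    simpa using this.symm
  · rw [← Submodule.Quotient.mk_smul, Submodule.Quotient.mk_eq_zero] at hr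
    obtain ⟨s, hsD, hs⟩ := hr
    obtain ⟨m, hm⟩ := exists_globSect hp 𝔸 F s (sub_eq_zero.1 (LinearMap.mem_ker.1 hsD))
    let t : G.obj.GlobSect := ⟨fun ξ => Φ.ρ ξ r • n.1 ξ, fun ξ' ξ φ => by
      rw [G.obj.mapTop_smul, n.2 φ]
      exact congrArg (fun k : Fn 𝒳 ξ' => k • n.1 ξ') (Φ.ρ_nat φ r)⟩
    have he : StMod.Mod.globSectMap u m = t := globSect_ext hp 𝔸 _ _ (by
      rw [StMod.Mod.globSectMap_val, hm]
      exact hs)
    exact hJ r m fun ξ => congrArg (fun t : G.obj.GlobSect => t.1 ξ) he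

/-- The functions whose multiple of a global section is a multiple of another one generate the unit ideal after a flat
base change over which the section is such a multiple. -/
theorem map_smul_eq_top (hp : FibCat.IsFibGrpd 𝒳.p) (𝔸 : Atlas 𝒳)
    {G : StMod.QCoh 𝒳} (n o : G.obj.GlobSect) (r' : Φ.B)
    (h : n.1 (q.obj (Φ.z 𝔸.x 𝔸.affx)) =
      Φ.σ (Φ.z 𝔸.x 𝔸.affx) r' • o.1 (q.obj (Φ.z 𝔸.x 𝔸.affx))) (J : Ideal Φ.A)
    (hJ : ∀ (a r : Φ.A), (∀ ξ, Φ.ρ ξ a • n.1 ξ = Φ.ρ ξ r • o.1 ξ) → a ∈ J) :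
    J.map Φ.β = ⊤ := by
  let x := 𝔸.x
  let zx := Φ.z x 𝔸.affx
  letI := Φ.β.toAlgebra
  haveI : Module.Flat Φ.A Φ.B := Φ.flat
  letI := baseModule G (Φ.ρ x)
  letI := baseModule G (Φ.σ zx)
  let ψx := sqLift Φ.β G (Φ.e x 𝔸.affx) (Φ.ρ x) (Φ.σ zx) (Φ.w x 𝔸.affx)
  have hψx : Function.Bijective ψx :=
    bijective_sqLift Φ.β G _ _ _ (Φ.affz x 𝔸.affx) 𝔸.affx (Φ.w x 𝔸.affx) (Φ.push x 𝔸.affx)
  let N : Submodule Φ.A (Sec G x) := Submodule.span Φ.A {o.1 x}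
  have ht : (1 : Φ.B) ⊗ₜ[Φ.A] n.1 x = r' ⊗ₜ[Φ.A] o.1 x := by
    refine hψx.1 ?_
    rw [sqLift_tmul, sqLift_tmul, map_one, one_smul, n.2, o.2]
    exact h
  refine map_eq_top_of_tmul_eq_zero (Submodule.Quotient.mk (p := N) (n.1 x)) ?_ J fun c hc => ?_
  · have := congrArg (N.mkQ.lTensor Φ.B) ht
    rw [LinearMap.lTensor_tmul, LinearMap.lTensor_tmul, Submodule.mkQ_apply, Submodule.mkQ_apply,
      (Submodule.Quotient.mk_eq_zero N).2 (Submodule.mem_span_singleton_self (o.1 x)), TensorProduct.tmul_zero] at this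
    exact this
  · rw [← Submodule.Quotient.mk_smul, Submodule.Quotient.mk_eq_zero] at hc
    obtain ⟨r, hr⟩ := Submodule.mem_span_singleton.1 hc
    let t : ∀ (a : Φ.A) (m : G.obj.GlobSect), G.obj.GlobSect := fun a m =>
      ⟨fun ξ => Φ.ρ ξ a • m.1 ξ, fun ξ' ξ φ => by
        rw [G.obj.mapTop_smul, m.2 φ]
        exact congrArg (fun k : Fn 𝒳 ξ' => k • m.1 ξ') (Φ.ρ_nat φ a)⟩
    exact hJ c r fun ξ => congrArg (fun t : G.obj.GlobSect => t.1 ξ) (globSect_ext hp 𝔸 (t c n) (t r o) hr.symm)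

end Groth.Agent.H14QCoh
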