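import Groth.Agent.H14QCoh.Res
import Groth.Agent.H14QCoh.Amitsur
import Mathlib.AlgebraicGeometry.Morphisms.Flat
import Mathlib.Algebra.Category.Ring.Constructions

/-!
# Descent of sections along covers of affine objects
-/

set_option autoImplicit false
set_option linter.style.haveILetI false
set_option backward.isDefEq.respectTransparency false
set_option backward.isDefEq.respectTransparency.types false

universe w v u

open CategoryTheory CategoryTheory.Limits AlgebraicGeometry Opposite TopologicalSpace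
open scoped TensorProduct

noncomputable section

namespace Groth.Agent.H14QCoh

variable {S : Scheme.{u}} {𝒳 : BasedCategory.{v, w} (Over S)}

/-- Sections as a module over a ring mapping to the functions. -/
@[reducible] def baseModule {A : Type u} [CommRing A] (F : StMod.QCoh 𝒳) {ξ : 𝒳.obj} (ρ : A →+* Fn 𝒳 ξ) :
    Module A (Sec F ξ) :=
  Module.compHom _ ρ

section Pushout

variable {A B : Type u} [CommRing A] [CommRing B] (β : A →+* B) (F : StMod.QCoh 𝒳) {ζ x : 𝒳.obj}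
  (χ : ζ ⟶ x) (ρ : A →+* Fn 𝒳 x) (b' : B →+* Fn 𝒳 ζ)

/-- The comparison map `B ⊗_A F(x) ⟶ F(ζ)` of a square of rings. -/
def sqLift (hw : b'.comp β = (fnMap χ).comp ρ) :
    letI := β.toAlgebra
    letI := baseModule F ρ
    letI := baseModule F b'
    B ⊗[A] Sec F x →ₗ[B] Sec F ζ :=
  letI := β.toAlgebra
  letI := baseModule F ρ
  letI := baseModule F b'
  letI := baseModule F (b'.comp β)
  haveI : IsScalarTower A B (Sec F ζ) := .of_algebraMap_smul fun _ _ => rfl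
  LinearMap.liftBaseChange B
    ({ toFun := F.obj.mapTop χ
       map_add' := F.obj.mapTop_add χ
       map_smul' := fun r y => by
        change F.obj.mapTop χ (ρ r • y) = b'.comp β r • F.obj.mapTop χ y
        rw [F.obj.mapTop_smul, hw]
        rfl } : Sec F x →ₗ[A] Sec F ζ)

lemma sqLift_tmul (hw : b'.comp β = (fnMap χ).comp ρ) (c : B) (y : Sec F x) :
    letI := β.toAlgebra
    letI := baseModule F ρ
    sqLift β F χ ρ b' hw (c ⊗ₜ[A] y) = b' c • F.obj.mapTop χ y :=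
  rfl

/-- The comparison map of a cartesian square of rings is bijective. -/
theorem bijective_sqLift (hζ : IsAffine (StMod.sch 𝒳 ζ)) (hx : IsAffine (StMod.sch 𝒳 x))
    (hw : b'.comp β = (fnMap χ).comp ρ)
    (h : IsPushout (CommRingCat.ofHom β) (CommRingCat.ofHom ρ) (CommRingCat.ofHom b')
      (CommRingCat.ofHom (fnMap χ))) :
    Function.Bijective (sqLift β F χ ρ b' hw) := by
  letI := β.toAlgebra
  letI := baseModule F ρ
  letI := baseModule F b'
  letI := ρ.toAlgebra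
  letI := (fnMap χ).toAlgebra
  letI := b'.toAlgebra
  letI : Algebra A (Fn 𝒳 ζ) := ((fnMap χ).comp ρ).toAlgebra
  haveI : IsScalarTower A B (Fn 𝒳 ζ) := .of_algebraMap_eq fun r => congr($hw r).symm
  haveI : IsScalarTower A (Fn 𝒳 x) (Fn 𝒳 ζ) := .of_algebraMap_eq fun _ => rfl
  haveI : IsScalarTower A (Fn 𝒳 x) (Sec F x) := .of_algebraMap_smul fun _ _ => rfl
  haveI : Algebra.IsPushout A B (Fn 𝒳 x) (Fn 𝒳 ζ) := CommRingCat.isPushout_iff_isPushout.1 h
  letI := secModule F χ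
  haveI : IsScalarTower (Fn 𝒳 x) (Fn 𝒳 ζ) (Sec F ζ) := .of_algebraMap_smul fun _ _ => rfl
  have hb := isBaseChange_mapTop F χ hζ hx
  let e := (Algebra.IsPushout.cancelBaseChange A B (Fn 𝒳 x) (Fn 𝒳 ζ) (Sec F x)).symm
  have key : ∀ t, sqLift β F χ ρ b' hw t = hb.equiv (e t) := by
    intro t
    induction t using TensorProduct.induction_on with
    | zero => simp
    | add a b ha hb' => rw [map_add, map_add, map_add, ha, hb']
    | tmul c y =>
      have he : e ((1 : B) ⊗ₜ[A] y) = (1 : Fn 𝒳 ζ) ⊗ₜ[Fn 𝒳 x] y := by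
        rw [LinearEquiv.symm_apply_eq, Algebra.IsPushout.cancelBaseChange_tmul]
      rw [show c ⊗ₜ[A] y = c • ((1 : B) ⊗ₜ[A] y) by rw [TensorProduct.smul_tmul', smul_eq_mul, mul_one],
        map_smul, map_smul, he, ← IsScalarTower.algebraMap_smul (Fn 𝒳 ζ) c ((1 : Fn 𝒳 ζ) ⊗ₜ[Fn 𝒳 x] y), map_smul,
        IsBaseChange.equiv_tmul, one_smul, sqLift_tmul, map_one, one_smul]
      rfl
  rw [show (sqLift β F χ ρ b' hw : _ → _) = hb.equiv ∘ e from funext key]
  exact hb.equiv.bijective.comp e.bijective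

end Pushout

lemma fnMap_bmap {ξ' ξ : 𝒳.obj} (φ : ξ' ⟶ ξ) :
    CommRingCat.ofHom (fnMap φ) = (StMod.bmap 𝒳 φ).appTop := rfl

section Cover

variable {F : StMod.QCoh 𝒳} {ξ' ξ : 𝒳.obj} {φ : ξ' ⟶ ξ}

lemma IsCov.faithfullyFlat (hφ : IsCov φ) [IsAffine (StMod.sch 𝒳 ξ)] : (fnMap φ).FaithfullyFlat :=
  haveI := hφ.1
  (Flat.flat_and_surjective_iff_faithfullyFlat_of_isAffine (StMod.bmap 𝒳 φ)).1 hφ.2

/-- Sections are determined on a cover. -/
theorem injective_mapTop_cov [IsAffine (StMod.sch 𝒳 ξ)] (hφ : IsCov φ) : Function.Injective (F.obj.mapTop φ) := by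
  letI := (fnMap φ).toAlgebra
  haveI : Module.FaithfullyFlat (Fn 𝒳 ξ) (Fn 𝒳 ξ') := hφ.faithfullyFlat
  letI := secModule F φ
  haveI : IsScalarTower (Fn 𝒳 ξ) (Fn 𝒳 ξ') (Sec F ξ') := .of_algebraMap_smul fun _ _ => rfl
  have hb := isBaseChange_mapTop F φ hφ.1 ‹_›
  have : ∀ x : Sec F ξ, F.obj.mapTop φ x = hb.equiv (1 ⊗ₜ x) := fun x => by
    rw [IsBaseChange.equiv_tmul, one_smul]; rfl
  intro x y hxy
  rw [this, this] at hxy
  exact Module.FaithfullyFlat.tensorProduct_mk_injective _ (hb.equiv.injective hxy)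

/-- A section on a cover with equal restrictions comes from the base. -/
theorem exists_of_equalizer (hp : FibCat.IsFibGrpd 𝒳.p) [IsAffine (StMod.sch 𝒳 ξ)] (hφ : IsCov φ) (s : Sec F ξ')
    (h : ∀ (ζ : 𝒳.obj) (a b : ζ ⟶ ξ'), IsAffine (StMod.sch 𝒳 ζ) → a ≫ φ = b ≫ φ →
      F.obj.mapTop a s = F.obj.mapTop b s) :
    ∃ t : Sec F ξ, F.obj.mapTop φ t = s := by
  obtain ⟨ζ, a, b, hw, hpb⟩ := exists_square hp φ φ
  haveI := hφ.1
  haveI hζ : IsAffine (StMod.sch 𝒳 ζ) := IsAffine.of_isIso hpb.isoPullback.hom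
  have hpush := isPushout_appTop_of_isPullback hpb
  letI := (fnMap φ).toAlgebra
  haveI : Module.FaithfullyFlat (Fn 𝒳 ξ) (Fn 𝒳 ξ') := hφ.faithfullyFlat
  letI := secModule F φ
  haveI : IsScalarTower (Fn 𝒳 ξ) (Fn 𝒳 ξ') (Sec F ξ') := .of_algebraMap_smul fun _ _ => rfl
  have hb := isBaseChange_mapTop F φ hφ.1 ‹_›
  have hw' : (fnMap a).comp (fnMap φ) = (fnMap b).comp (fnMap φ) :=
    RingHom.ext fun r => (fnMap_comp a φ r).symm.trans ((congrArg (fun m => fnMap m r) hw).trans (fnMap_comp b φ r))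
  have hbij := bijective_sqLift (fnMap φ) F b (fnMap φ) (fnMap a) hζ hφ.1 hw' hpush
  let θ : Fn 𝒳 ξ' ⊗[Fn 𝒳 ξ] Sec F ξ' → Sec F ζ := sqLift (fnMap φ) F b (fnMap φ) (fnMap a) hw'
  let E : Fn 𝒳 ξ' ⊗[Fn 𝒳 ξ] Sec F ξ → Sec F ξ' := hb.equiv
  have h1 : ∀ y, θ ((hb.equiv.restrictScalars (Fn 𝒳 ξ)).toLinearMap.lTensor _
      ((amitsurOne (Fn 𝒳 ξ) (Fn 𝒳 ξ') (Sec F ξ)).lTensor _ y)) = F.obj.mapTop a (E y) := by
    intro y
    induction y using TensorProduct.induction_on with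
    | zero => simp only [map_zero, θ, E, StMod.Mod.mapTop_zero]
    | add p q hp hq =>
      simp only [θ, E, map_add, StMod.Mod.mapTop_add] at hp hq ⊢
      rw [hp, hq]
    | tmul c p =>
      simp only [θ, E, amitsurOne, LinearMap.lTensor_tmul, TensorProduct.mk_apply,
        LinearEquiv.coe_coe, LinearEquiv.restrictScalars_apply, IsBaseChange.equiv_tmul, one_smul]
      rw [sqLift_tmul, F.obj.mapTop_smul]
      change _ • F.obj.mapTop b (F.obj.mapTop φ p) = _ • F.obj.mapTop a (F.obj.mapTop φ p)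
      rw [← F.obj.mapTop_comp, ← F.obj.mapTop_comp, hw]
  have h2 : ∀ y, θ ((hb.equiv.restrictScalars (Fn 𝒳 ξ)).toLinearMap.lTensor _ ((1 : Fn 𝒳 ξ') ⊗ₜ y)) =
      F.obj.mapTop b (E y) := by
    intro y
    simp only [θ, E, LinearMap.lTensor_tmul, LinearEquiv.coe_coe, LinearEquiv.restrictScalars_apply]
    rw [sqLift_tmul, map_one, one_smul]
  obtain ⟨y, rfl⟩ := hb.equiv.surjective s
  have hy : amitsurDiff (Fn 𝒳 ξ) (Fn 𝒳 ξ') (Sec F ξ) y = 0 := by
    have hinj : Function.Injective ((hb.equiv.restrictScalars (Fn 𝒳 ξ)).toLinearMap.lTensor (Fn 𝒳 ξ')) :=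
      Module.Flat.lTensor_preserves_injective_linearMap _ hb.equiv.injective
    have := hbij.1 ((h1 y).trans ((h ζ a b hζ hw).trans (h2 y).symm))
    change (amitsurOne (Fn 𝒳 ξ) (Fn 𝒳 ξ') (Sec F ξ)).lTensor _ y - (1 : Fn 𝒳 ξ') ⊗ₜ y = 0
    rw [hinj this, sub_self]
  obtain ⟨p, rfl⟩ := exists_of_amitsurDiff_eq_zero hy
  exact ⟨p, by rw [IsBaseChange.equiv_tmul, one_smul]; rfl⟩

end Cover

/-- A section vanishing on a jointly surjective flat family vanishes. -/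
theorem eq_zero_of_jointly {F : StMod.QCoh 𝒳} {ξ : 𝒳.obj} [IsAffine (StMod.sch 𝒳 ξ)] {κ : Type*}
    {ξ' : κ → 𝒳.obj} (φ : ∀ k, ξ' k ⟶ ξ) [∀ k, IsAffine (StMod.sch 𝒳 (ξ' k))]
    (hfl : ∀ k, Flat (StMod.bmap 𝒳 (φ k)))
    (hs : ∀ p : StMod.sch 𝒳 ξ, ∃ k q, StMod.bmap 𝒳 (φ k) q = p)
    (m : Sec F ξ) (hm : ∀ k, F.obj.mapTop (φ k) m = 0) : m = 0 := by
  have hker : LinearMap.ker (LinearMap.toSpanSingleton (Fn 𝒳 ξ) (Sec F ξ) m) = ⊤ := by
    by_contra hne
    obtain ⟨M, hM, hle⟩ := Ideal.exists_le_maximal _ hne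
    obtain ⟨p, hpM⟩ := (StMod.sch 𝒳 ξ).isoSpec.hom.surjective ⟨M, hM.isPrime⟩
    obtain ⟨k, q, hq⟩ := hs p
    letI := (fnMap (φ k)).toAlgebra
    haveI : Module.Flat (Fn 𝒳 ξ) (Fn 𝒳 (ξ' k)) :=
      (HasRingHomProperty.iff_of_isAffine (P := @Flat)).1 (hfl k)
    letI := secModule F (φ k)
    haveI : IsScalarTower (Fn 𝒳 ξ) (Fn 𝒳 (ξ' k)) (Sec F (ξ' k)) := .of_algebraMap_smul fun _ _ => rfl
    have hb := isBaseChange_mapTop F (φ k) inferInstance inferInstance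
    let L := LinearMap.toSpanSingleton (Fn 𝒳 ξ) (Sec F ξ) m
    let j : (Fn 𝒳 ξ ⧸ LinearMap.ker L) →ₗ[Fn 𝒳 ξ] Sec F ξ := (LinearMap.ker L).liftQ L le_rfl
    have hj : Function.Injective j := LinearMap.ker_eq_bot.1 (Submodule.ker_liftQ_eq_bot _ _ _ le_rfl)
    have hj' := Module.Flat.lTensor_preserves_injective_linearMap (M := Fn 𝒳 (ξ' k)) j hj
    have h0 : (1 : Fn 𝒳 (ξ' k)) ⊗ₜ[Fn 𝒳 ξ] (Submodule.Quotient.mk (p := LinearMap.ker L) (1 : Fn 𝒳 ξ)) = 0 := by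
      refine hj' (hb.equiv.injective ?_)
      rw [LinearMap.lTensor_tmul, map_zero, map_zero, IsBaseChange.equiv_tmul, one_smul]
      change F.obj.mapTop (φ k) (L 1) = 0
      rw [LinearMap.toSpanSingleton_apply, one_smul]
      exact hm k
    have h1 : (TensorProduct.quotTensorEquivQuotSMul (Fn 𝒳 (ξ' k)) (LinearMap.ker L))
        (Submodule.Quotient.mk (1 : Fn 𝒳 ξ) ⊗ₜ (1 : Fn 𝒳 (ξ' k))) = 0 := by
      have := congrArg (TensorProduct.comm (Fn 𝒳 ξ) _ _) h0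
      rw [TensorProduct.comm_tmul, map_zero] at this
      exact (congrArg _ this).trans (map_zero _)
    erw [TensorProduct.quotTensorEquivQuotSMul_mk_tmul, one_smul, Submodule.Quotient.mk_eq_zero] at h1
    obtain ⟨P, hPq⟩ : ∃ P, P = (StMod.sch 𝒳 (ξ' k)).isoSpec.hom q := ⟨_, rfl⟩
    have hcomap : P.asIdeal.comap (fnMap (φ k)) = M := by
      have := congr($(Scheme.isoSpec_hom_naturality (StMod.bmap 𝒳 (φ k))) q)
      rw [Scheme.Hom.comp_apply, Scheme.Hom.comp_apply, hq, hpM, ← hPq] at this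
      exact congrArg PrimeSpectrum.asIdeal this
    have hle' : (LinearMap.ker L • ⊤ : Submodule (Fn 𝒳 ξ) (Fn 𝒳 (ξ' k))) ≤ P.asIdeal.restrictScalars (Fn 𝒳 ξ) := by
      refine Submodule.smul_le.2 fun r hr c _ => ?_
      rw [Submodule.restrictScalars_mem, Algebra.smul_def]
      exact Ideal.mul_mem_right _ _ (by
        have : r ∈ M := hle hr
        rw [← hcomap] at this
        exact this)
    exact P.isPrime.ne_top ((Ideal.eq_top_iff_one _).2 (hle' h1))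
  have : (1 : Fn 𝒳 ξ) ∈ LinearMap.ker (LinearMap.toSpanSingleton (Fn 𝒳 ξ) (Sec F ξ) m) := hker ▸ Submodule.mem_top
  simpa using this

end Groth.Agent.H14QCoh
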