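import Groth.Agent.H14QCoh.Aff
import Groth.Agent.H14QCoh.BCMaps
import Groth.Agent.H14QCoh.Descent

/-!
# Extensions of scalars of a module along the arrows to an object
-/

set_option autoImplicit false
set_option linter.style.haveILetI false
set_option backward.isDefEq.respectTransparency false
set_option backward.isDefEq.respectTransparency.types false

universe w v u

open CategoryTheory CategoryTheory.Limits AlgebraicGeometry Opposite TopologicalSpace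
open scoped TensorProduct

noncomputable section

namespace Groth.Agent.H14QCoh

variable {S : Scheme.{u}} {𝒳 : BasedCategory.{v, w} (Over S)} {x : 𝒳.obj} (M : Type u) [AddCommGroup M]
  [Module (Fn 𝒳 x) M]

/-- The extension of scalars along an arrow. -/
def BC {ζ : 𝒳.obj} (γ : ζ ⟶ x) : Type u :=
  letI := (fnMap γ).toAlgebra
  Fn 𝒳 ζ ⊗[Fn 𝒳 x] M

instance {ζ : 𝒳.obj} (γ : ζ ⟶ x) : AddCommGroup (BC M γ) :=
  letI := (fnMap γ).toAlgebra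
  TensorProduct.addCommGroup

instance {ζ : 𝒳.obj} (γ : ζ ⟶ x) : Module (Fn 𝒳 ζ) (BC M γ) :=
  letI := (fnMap γ).toAlgebra
  TensorProduct.leftModule

/-- The tautological map. -/
def gen {ζ : 𝒳.obj} (γ : ζ ⟶ x) : M →+ BC M γ :=
  letI := (fnMap γ).toAlgebra
  AddMonoidHom.mk' (fun m => (1 : Fn 𝒳 ζ) ⊗ₜ[Fn 𝒳 x] m) fun a b => TensorProduct.tmul_add _ a b

theorem isBC_gen {ζ : 𝒳.obj} (γ : ζ ⟶ x) : IsBC (fnMap γ) (gen M γ) := by
  letI := (fnMap γ).toAlgebra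
  refine isBC_of_tensor (fun a m => ?_) ⟨LinearMap.id, Function.bijective_id, fun _ => rfl⟩
  change (1 : Fn 𝒳 ζ) ⊗ₜ[Fn 𝒳 x] (a • m) = algebraMap (Fn 𝒳 x) (Fn 𝒳 ζ) a • ((1 : Fn 𝒳 ζ) ⊗ₜ[Fn 𝒳 x] m)
  rw [algebraMap_smul, TensorProduct.tmul_smul]

variable {M}

theorem exists_push {ζ' ζ : 𝒳.obj} (d : ζ' ⟶ ζ) {γ : ζ ⟶ x} {γ' : ζ' ⟶ x} (e : d ≫ γ = γ') :
    ∃ l : BC M γ →+ BC M γ', (∀ (c : Fn 𝒳 ζ) u, l (c • u) = fnMap d c • l u) ∧ ∀ m, l (gen M γ m) = gen M γ' m := by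
  letI := Module.compHom (BC M γ') (fnMap d)
  obtain ⟨l, hl⟩ := (isBC_gen M γ).exists_lift (gen M γ') fun r m => by
    rw [(isBC_gen M γ').smul]
    exact congrArg (· • gen M γ' m) ((congrArg (fnMap · r) e.symm).trans (fnMap_comp d γ r))
  exact ⟨l.toAddMonoidHom, fun c u => l.map_smul c u, hl⟩

/-- The map induced by an arrow. -/
def push {ζ' ζ : 𝒳.obj} (d : ζ' ⟶ ζ) {γ : ζ ⟶ x} {γ' : ζ' ⟶ x} (e : d ≫ γ = γ') : BC M γ →+ BC M γ' :=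
  (exists_push d e).choose

lemma push_smul {ζ' ζ : 𝒳.obj} (d : ζ' ⟶ ζ) {γ : ζ ⟶ x} {γ' : ζ' ⟶ x} (e : d ≫ γ = γ') (c : Fn 𝒳 ζ)
    (u : BC M γ) : push d e (c • u) = fnMap d c • push d e u :=
  (exists_push d e).choose_spec.1 c u

@[simp] lemma push_gen {ζ' ζ : 𝒳.obj} (d : ζ' ⟶ ζ) {γ : ζ ⟶ x} {γ' : ζ' ⟶ x} (e : d ≫ γ = γ') (m : M) :
    push d e (gen M γ m) = gen M γ' m :=
  (exists_push d e).choose_spec.2 m

lemma push_id {ζ : 𝒳.obj} {γ : ζ ⟶ x} (u : BC M γ) : push (𝟙 ζ) (Category.id_comp γ) u = u :=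
  congr($((isBC_gen M γ).hom_ext (a := push (𝟙 ζ) (Category.id_comp γ)) (b := AddMonoidHom.id _) (RingHom.id _)
    (fun c n => by rw [push_smul, fnMap_id]; rfl) (fun _ _ => rfl) fun m => push_gen _ _ m) u)

lemma push_push {ζ'' ζ' ζ : 𝒳.obj} (d' : ζ'' ⟶ ζ') (d : ζ' ⟶ ζ) {γ : ζ ⟶ x} {γ' : ζ' ⟶ x} {γ'' : ζ'' ⟶ x}
    (e : d ≫ γ = γ') (e' : d' ≫ γ' = γ'') (u : BC M γ) :
    push d' e' (push d e u) = push (d' ≫ d) (by rw [Category.assoc, e, e']) u :=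
  congr($((isBC_gen M γ).hom_ext (a := (push d' e').comp (push d e))
    (b := push (d' ≫ d) (by rw [Category.assoc, e, e'])) (fnMap (d' ≫ d))
    (fun c n => by simp [push_smul, fnMap_comp]) (fun c n => push_smul _ _ c n) fun m => by simp) u)

lemma push_congr {ζ' ζ : 𝒳.obj} {d d₁ : ζ' ⟶ ζ} (h : d = d₁) {γ : ζ ⟶ x} {γ' : ζ' ⟶ x} (e : d ≫ γ = γ')
    (e₁ : d₁ ≫ γ = γ') (u : BC M γ) : push d e u = push d₁ e₁ u := by
  subst h; rfl

theorem isBC_push {ζ' ζ : 𝒳.obj} (d : ζ' ⟶ ζ) {γ : ζ ⟶ x} {γ' : ζ' ⟶ x} (e : d ≫ γ = γ') :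
    IsBC (fnMap d) (push (M := M) d e) := by
  refine (isBC_gen M γ).of_comp (push_smul d e) ?_
  have h1 : (fnMap d).comp (fnMap γ) = fnMap γ' := RingHom.ext fun r => by
    rw [RingHom.comp_apply, ← fnMap_comp, e]
  have h2 : (push d e).comp (gen M γ) = gen M γ' := AddMonoidHom.ext fun m => push_gen d e m
  rw [h1, h2]
  exact isBC_gen M γ'

theorem injective_push_cov {ζ' ζ : 𝒳.obj} [IsAffine (StMod.sch 𝒳 ζ)] {d : ζ' ⟶ ζ} (hd : IsCov d) {γ : ζ ⟶ x}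
    {γ' : ζ' ⟶ x} (e : d ≫ γ = γ') : Function.Injective (push (M := M) d e) :=
  (isBC_push d e).injective_of_ff hd.faithfullyFlat

/-- An element on a cover with equal images on the double cover comes from the base. -/
theorem exists_of_push_eq (hp : FibCat.IsFibGrpd 𝒳.p) {ζ' ζ : 𝒳.obj} [IsAffine (StMod.sch 𝒳 ζ)] {φ : ζ' ⟶ ζ}
    (hφ : IsCov φ) {γ : ζ ⟶ x} {γ' : ζ' ⟶ x} (e : φ ≫ γ = γ') (s : BC M γ')
    (h : ∀ (ω : 𝒳.obj) (a b : ω ⟶ ζ') (hab : a ≫ φ = b ≫ φ), IsAffine (StMod.sch 𝒳 ω) →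
      push (γ' := a ≫ γ') a rfl s = push (γ' := a ≫ γ') b (by rw [← e, reassoc_of% hab]) s) :
    ∃ m : BC M γ, push φ e m = s := by
  haveI := hφ.1
  obtain ⟨ω, a, b, hw, hpb⟩ := exists_square hp φ φ
  haveI : IsAffine (StMod.sch 𝒳 ω) := IsAffine.of_isIso hpb.isoPullback.hom
  refine (isBC_push φ e).exists_of_eq (a' := fnMap a) (b := fnMap b) (ga := push a rfl) hφ.faithfullyFlat
    (isPushout_appTop_of_isPullback hpb) (isBC_push b (by rw [← e, reassoc_of% hw]))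
    (fun r n => push_smul _ _ r n) (fun m => ?_) s (h ω a b hw inferInstance)
  rw [push_push, push_push]
  exact push_congr hw _ _ m

/-- An element vanishing on a jointly surjective flat family vanishes. -/
theorem push_eq_zero_of_jointly {ζ : 𝒳.obj} [IsAffine (StMod.sch 𝒳 ζ)] {κ : Type*} {ζ' : κ → 𝒳.obj}
    (φ : ∀ k, ζ' k ⟶ ζ) [∀ k, IsAffine (StMod.sch 𝒳 (ζ' k))] (hfl : ∀ k, Flat (StMod.bmap 𝒳 (φ k)))
    (hs : ∀ p : StMod.sch 𝒳 ζ, ∃ k q, StMod.bmap 𝒳 (φ k) q = p) {γ : ζ ⟶ x} (m : BC M γ)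
    (hm : ∀ k, push (γ' := φ k ≫ γ) (φ k) rfl m = 0) : m = 0 := by
  have hker : LinearMap.ker (LinearMap.toSpanSingleton (Fn 𝒳 ζ) (BC M γ) m) = ⊤ := by
    by_contra hne
    obtain ⟨I, hI, hle⟩ := Ideal.exists_le_maximal _ hne
    obtain ⟨p, hpI⟩ := (StMod.sch 𝒳 ζ).isoSpec.hom.surjective ⟨I, hI.isPrime⟩
    obtain ⟨k, q, hq⟩ := hs p
    have ht := (isBC_push (M := M) (φ k) (γ := γ) rfl).map_annihilator_eq_top
      ((HasRingHomProperty.iff_of_isAffine (P := @Flat)).1 (hfl k)) m (hm k)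
    obtain ⟨P, hPq⟩ : ∃ P, P = (StMod.sch 𝒳 (ζ' k)).isoSpec.hom q := ⟨_, rfl⟩
    have hcomap : P.asIdeal.comap (fnMap (φ k)) = I := by
      have := congr($(Scheme.isoSpec_hom_naturality (StMod.bmap 𝒳 (φ k))) q)
      rw [Scheme.Hom.comp_apply, Scheme.Hom.comp_apply, hq, hpI, ← hPq] at this
      exact congrArg PrimeSpectrum.asIdeal this
    refine P.isPrime.ne_top (top_le_iff.1 (ht ▸ Ideal.map_le_iff_le_comap.2 ?_))
    rw [hcomap]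
    exact hle
  have : (1 : Fn 𝒳 ζ) ∈ LinearMap.ker (LinearMap.toSpanSingleton (Fn 𝒳 ζ) (BC M γ) m) := hker ▸ Submodule.mem_top
  simpa using this

end Groth.Agent.H14QCoh
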