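import Groth.Agent.H14QCoh.BaseChange
import Groth.Agent.H14QCoh.FibAtlas
import Groth.Agent.H14QCoh.GlobSect
import Groth.Agent.H14QCoh.ExtendBasic

/-!
# Families of linear maps on the affine objects over an object, and their flat base change
-/

set_option autoImplicit false
set_option linter.style.haveILetI false
set_option backward.isDefEq.respectTransparency false
set_option backward.isDefEq.respectTransparency.types false

universe u

open CategoryTheory CategoryTheory.Limits AlgebraicGeometry Opposite TopologicalSpace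
open scoped TensorProduct

noncomputable section

namespace Groth.Agent.H14QCoh

variable {S : Scheme.{u}} {𝒳 𝒴 : AlgSt.Cat S} (f : 𝒳 ⥤ᵇ 𝒴)

/-- The module of `𝒳` restricted over an object. -/
abbrev fibMod (η : 𝒴.obj) (F : StMod.QCoh 𝒳) : StMod.QCoh (StMod.fibCat f η) :=
  (StMod.comapQ (StMod.fibFst f η)).obj F

lemma fib_mapTop {η : 𝒴.obj} (F : StMod.QCoh 𝒳) {x' x : (StMod.fibCat f η).obj} (k : x' ⟶ x)
    (s : Sec (fibMod f η F) x) : (fibMod f η F).obj.mapTop k s = F.obj.mapTop k.left s := by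
  simp [StMod.Mod.mapTop, StMod.Mod.comap, StMod.castMap_rfl_self]

/-- Functions on the scheme of `η` pulled back to an object over it. -/
abbrev baseFn {η : 𝒴.obj} (ξ : 𝒳.obj) (α : f.obj ξ ⟶ η) : Fn 𝒴 η →+* Fn 𝒳 ξ :=
  (StMod.baseOver f ξ α).left.appTop.hom

lemma fnMap_baseFn {η : 𝒴.obj} {ξ' ξ : 𝒳.obj} (φ : ξ' ⟶ ξ) (α : f.obj ξ ⟶ η) (c : Fn 𝒴 η) :
    fnMap φ (baseFn f ξ α c) = baseFn f ξ' (f.map φ ≫ α) c :=
  congr($(congrArg Scheme.Hom.appTop (StMod.bmap_comp_baseOver_left f φ α)) c)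

lemma baseFn_comp {η' η : 𝒴.obj} (ξ : 𝒳.obj) (α : f.obj ξ ⟶ η') (β : η' ⟶ η) (c : Fn 𝒴 η) :
    baseFn f ξ (α ≫ β) c = baseFn f ξ α (fnMap β c) :=
  congr($(congrArg Scheme.Hom.appTop (congrArg CommaMorphism.left (StMod.baseOver_comp f ξ α β))) c)

lemma baseFn_pr {η : 𝒴.obj} (z : (StMod.fibCat f η).obj) : baseFn f z.left z.hom = (pr f z).appTop.hom := by
  simp [baseFn, StMod.baseOver, pr]

variable (E F : StMod.QCoh 𝒳)

/-- The natural families of linear maps on the affine objects over `η`. -/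
def aHom (η : 𝒴.obj) :
    AddSubgroup (∀ (ξ : AObj 𝒳), (f.obj ξ.1 ⟶ η) → (Sec E ξ.1 →ₗ[Fn 𝒳 ξ.1] Sec F ξ.1)) where
  carrier := {h | ∀ ⦃ξ' ξ : AObj 𝒳⦄ (φ : ξ'.1 ⟶ ξ.1) (α : f.obj ξ.1 ⟶ η) (e : Sec E ξ.1),
    h ξ' (f.map φ ≫ α) (E.obj.mapTop φ e) = F.obj.mapTop φ (h ξ α e)}
  zero_mem' := fun ξ' ξ φ α e => (F.obj.mapTop_zero φ).symm
  add_mem' := fun {a b} ha hb ξ' ξ φ α e => by
    simp only [Pi.add_apply, LinearMap.add_apply, ha φ α e, hb φ α e, F.obj.mapTop_add]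
  neg_mem' := fun {a} ha ξ' ξ φ α e => by
    simp only [Pi.neg_apply, LinearMap.neg_apply, ha φ α e]
    exact ((AddMonoidHom.mk' (F.obj.mapTop φ) (F.obj.mapTop_add φ)).map_neg _).symm

/-- The natural families of linear maps on the affine objects over `η`. -/
def AHom (η : 𝒴.obj) : Type (u + 1) := ↥(aHom f E F η)

variable {f E F}

instance {η : 𝒴.obj} : AddCommGroup (AHom f E F η) := inferInstanceAs (AddCommGroup ↥(aHom f E F η))

@[ext] lemma AHom.ext {η : 𝒴.obj} {h h' : AHom f E F η} (e : ∀ ξ α m, h.1 ξ α m = h'.1 ξ α m) : h = h' :=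
  Subtype.ext (funext fun ξ => funext fun α => LinearMap.ext (e ξ α))

@[simp] lemma AHom.add_val {η : 𝒴.obj} (h h' : AHom f E F η) (ξ : AObj 𝒳) (α : f.obj ξ.1 ⟶ η) :
    (h + h').1 ξ α = h.1 ξ α + h'.1 ξ α := rfl

lemma smul_mem_aHom {η : 𝒴.obj} (c : Fn 𝒴 η) (h : AHom f E F η) :
    (fun (ξ : AObj 𝒳) (α : f.obj ξ.1 ⟶ η) => baseFn f ξ.1 α c • h.1 ξ α) ∈ aHom f E F η := fun ξ' ξ φ α e => by
  simp only [LinearMap.smul_apply, h.2 φ α e, F.obj.mapTop_smul]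
  exact congrArg (· • _) (fnMap_baseFn f φ α c).symm

instance {η : 𝒴.obj} : SMul (Fn 𝒴 η) (AHom f E F η) := ⟨fun c h => ⟨_, smul_mem_aHom c h⟩⟩

@[simp] lemma AHom.smul_val {η : 𝒴.obj} (c : Fn 𝒴 η) (h : AHom f E F η) (ξ : AObj 𝒳) (α : f.obj ξ.1 ⟶ η) :
    (c • h).1 ξ α = baseFn f ξ.1 α c • h.1 ξ α := rfl

instance {η : 𝒴.obj} : Module (Fn 𝒴 η) (AHom f E F η) where
  one_smul h := by ext; simp
  mul_smul a b h := by ext; simp [mul_smul]
  smul_zero a := AHom.ext fun ξ α m => by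
    change baseFn f ξ.1 α a • (0 : Sec F ξ.1) = 0
    rw [smul_zero]
  smul_add a h h' := by ext; simp
  add_smul a b h := by ext; simp [add_smul]
  zero_smul h := AHom.ext fun ξ α m => by
    change baseFn f ξ.1 α 0 • (h.1 ξ α m) = 0
    rw [map_zero, zero_smul]

/-- Restriction along an arrow of the base. -/
def AHom.restr {η' η : 𝒴.obj} (β : η' ⟶ η) : AHom f E F η →+ AHom f E F η' :=
  AddMonoidHom.mk' (fun h => ⟨fun ξ α => h.1 ξ (α ≫ β), fun ξ' ξ φ α e =>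
    (congrArg (fun g => h.1 ξ' g (E.obj.mapTop φ e)) (Category.assoc (f.map φ) α β)).trans (h.2 φ (α ≫ β) e)⟩) fun _ _ => rfl

@[simp] lemma AHom.restr_val {η' η : 𝒴.obj} (β : η' ⟶ η) (h : AHom f E F η) (ξ : AObj 𝒳)
    (α : f.obj ξ.1 ⟶ η') : (AHom.restr β h).1 ξ α = h.1 ξ (α ≫ β) := rfl

lemma AHom.restr_smul {η' η : 𝒴.obj} (β : η' ⟶ η) (c : Fn 𝒴 η) (h : AHom f E F η) :
    AHom.restr β (c • h) = fnMap β c • AHom.restr β h :=
  AHom.ext fun ξ α m => by simp [baseFn_comp]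

lemma AHom.restr_restr {η'' η' η : 𝒴.obj} (β' : η'' ⟶ η') (β : η' ⟶ η) (h : AHom f E F η) :
    AHom.restr β' (AHom.restr β h) = AHom.restr (β' ≫ β) h :=
  AHom.ext fun ξ α m => by simp

/-- A family of affine objects over `η` from an affine object of the category over `η`. -/
abbrev fibA {η : 𝒴.obj} (z : (StMod.fibCat f η).obj) (hz : IsAffine (StMod.sch (StMod.fibCat f η) z)) : AObj 𝒳 :=
  ⟨z.left, hz⟩

/-- The value of a family at the generators of a presentation. -/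
def AHom.tup {η : 𝒴.obj} {𝔸 : Atlas (StMod.fibCat f η)} (P : Presn 𝔸 (fibMod f η E)) (h : AHom f E F η) :
    Fin P.n → Sec (fibMod f η F) 𝔸.x :=
  fun j => h.1 (fibA 𝔸.x 𝔸.affx) 𝔸.x.hom (P.e j)

/-- Families are determined at the generators after a flat change of the object. -/
theorem AHom.eq_zero_of_gen (hp : FibCat.IsFibGrpd 𝒳.p) {η' η : 𝒴.obj} {𝔸 : Atlas (StMod.fibCat f η)}
    (P : Presn 𝔸 (fibMod f η E)) {β : η' ⟶ η} (Φ : FlatBC (bcFun f β))
    (h : AHom f E F η')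
    (h0 : ∀ j, h.1 (fibA (Φ.z 𝔸.x 𝔸.affx) (Φ.affz 𝔸.x 𝔸.affx)) (Φ.z 𝔸.x 𝔸.affx).hom
      (E.obj.mapTop (Φ.e 𝔸.x 𝔸.affx).left (P.e j)) = 0) : h = 0 := by
  refine AHom.ext fun ξ α m => ?_
  change h.1 ξ α m = 0
  let X : (StMod.fibCat f η).obj := CostructuredArrow.mk (α ≫ β)
  haveI hX : IsAffine (StMod.sch (StMod.fibCat f η) X) := ξ.2
  obtain ⟨X', φ, hφ, ⟨γ⟩⟩ := 𝔸.cov X hX
  let ξ' : AObj 𝒳 := ⟨X'.left, hφ.1⟩
  let Z' : (StMod.fibCat f η').obj := CostructuredArrow.mk (f.map φ.left ≫ α)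
  have hZ' : (bcFun f β).obj Z' = CostructuredArrow.mk (f.map φ.left ≫ α ≫ β) := by
    change CostructuredArrow.mk ((f.map φ.left ≫ α) ≫ β) = _
    rw [Category.assoc]
  have hw : f.map γ.left ≫ 𝔸.x.hom = (f.map φ.left ≫ α) ≫ β :=
    (CostructuredArrow.w γ).trans ((CostructuredArrow.w φ).symm.trans (Category.assoc _ _ _).symm)
  obtain ⟨c, hc⟩ := Φ.fac 𝔸.x 𝔸.affx Z' (CostructuredArrow.homMk γ.left hw)
  have hc' : c.left ≫ (Φ.e 𝔸.x 𝔸.affx).left = γ.left := congrArg CommaMorphism.left hc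
  have hcw : f.map c.left ≫ (Φ.z 𝔸.x 𝔸.affx).hom = f.map φ.left ≫ α := CostructuredArrow.w c
  have hcov : IsCov φ.left := hφ
  haveI : IsAffine (StMod.sch 𝒳 X.left) := ξ.2
  refine injective_mapTop_cov (F := F) hcov ?_
  rw [← h.2 (ξ' := ξ') φ.left α m, F.obj.mapTop_zero]
  generalize E.obj.mapTop φ.left m = m'
  refine sec_induction (F := E) (φ := γ.left) ξ'.2 𝔸.affx (P := fun m' => h.1 ξ' (f.map φ.left ≫ α) m' = 0) m'
    (map_zero _) (fun a b ha hb => by rw [map_add, ha, hb, add_zero]) fun r e => ?_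
  rw [map_smul]
  have he : e ∈ Submodule.span (Fn (StMod.fibCat f η) 𝔸.x) (Set.range P.e) := P.span ▸ Submodule.mem_top
  suffices h.1 ξ' (f.map φ.left ≫ α) (E.obj.mapTop γ.left e) = 0 by rw [this, smul_zero]
  induction he using Submodule.span_induction with
  | mem z hz =>
    obtain ⟨j, rfl⟩ := hz
    rw [← hc', E.obj.mapTop_comp, ← hcw,
      h.2 (ξ' := ξ') (ξ := fibA (Φ.z 𝔸.x 𝔸.affx) (Φ.affz 𝔸.x 𝔸.affx)) c.left (Φ.z 𝔸.x 𝔸.affx).hom, h0,
      F.obj.mapTop_zero]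
  | zero => rw [E.obj.mapTop_zero, map_zero]
  | add a b _ _ ha hb => rw [E.obj.mapTop_add, map_add, ha, hb, add_zero]
  | smul c a _ ha => rw [E.obj.mapTop_smul, map_smul, ha, smul_zero]

/-- Families are determined at the generators. -/
theorem AHom.eq_zero_of_tup {η : 𝒴.obj} {𝔸 : Atlas (StMod.fibCat f η)} (P : Presn 𝔸 (fibMod f η E))
    (h : AHom f E F η) (h0 : h.tup P = 0) : h = 0 := by
  refine AHom.ext fun ξ α m => ?_
  change h.1 ξ α m = 0
  let X : (StMod.fibCat f η).obj := CostructuredArrow.mk α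
  obtain ⟨X', φ, hφ, ⟨γ⟩⟩ := 𝔸.cov X ξ.2
  let ξ' : AObj 𝒳 := ⟨X'.left, hφ.1⟩
  have hw : f.map γ.left ≫ 𝔸.x.hom = f.map φ.left ≫ α :=
    (CostructuredArrow.w γ).trans (CostructuredArrow.w φ).symm
  have hcov : IsCov φ.left := hφ
  haveI : IsAffine (StMod.sch 𝒳 X.left) := ξ.2
  refine injective_mapTop_cov (F := F) hcov ?_
  rw [← h.2 (ξ' := ξ') φ.left α m, F.obj.mapTop_zero]
  generalize E.obj.mapTop φ.left m = m'
  refine sec_induction (F := E) (φ := γ.left) ξ'.2 𝔸.affx (P := fun m' => h.1 ξ' (f.map φ.left ≫ α) m' = 0) m'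
    (map_zero _) (fun a b ha hb => by rw [map_add, ha, hb, add_zero]) fun r e => ?_
  rw [map_smul]
  have he : e ∈ Submodule.span (Fn (StMod.fibCat f η) 𝔸.x) (Set.range P.e) := P.span ▸ Submodule.mem_top
  suffices h.1 ξ' (f.map φ.left ≫ α) (E.obj.mapTop γ.left e) = 0 by rw [this, smul_zero]
  induction he using Submodule.span_induction with
  | mem z hz =>
    obtain ⟨j, rfl⟩ := hz
    rw [← hw, h.2 (ξ' := ξ') (ξ := fibA 𝔸.x 𝔸.affx) γ.left 𝔸.x.hom]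
    exact (congrArg (F.obj.mapTop γ.left) (congrFun h0 j)).trans (F.obj.mapTop_zero _)
  | zero => rw [E.obj.mapTop_zero, map_zero]
  | add a b _ _ ha hb => rw [E.obj.mapTop_add, map_add, ha, hb, add_zero]
  | smul c a _ ha => rw [E.obj.mapTop_smul, map_smul, ha, smul_zero]

end Groth.Agent.H14QCoh
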