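import Groth.Agent.H14QCoh.AHom

/-!
# A small model of the families over an affine object, and its flat base change
-/

set_option autoImplicit false
set_option linter.style.haveILetI false
set_option backward.isDefEq.respectTransparency false
set_option backward.isDefEq.respectTransparency.types false

universe u

open CategoryTheory CategoryTheory.Limits AlgebraicGeometry Opposite TopologicalSpace
open scoped TensorProduct

noncomputable section

namespace Groth.Agent.H14QCoh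

variable {S : Scheme.{u}} {𝒳 𝒴 : AlgSt.Cat S} {f : 𝒳 ⥤ᵇ 𝒴} {E : StMod.QCoh 𝒳} {η : 𝒴.obj}
  {𝔸 : Atlas (StMod.fibCat f η)} (P : Presn 𝔸 (fibMod f η E)) (F : StMod.QCoh 𝒳)

/-- The tuples solving the equations of a presentation. -/
def solGroup : AddSubgroup (Fin P.n → Sec (fibMod f η F) 𝔸.x) where
  carrier := {q | (∀ i, ∑ k, P.r i k • q k = 0) ∧
    ∀ j, (fibMod f η F).obj.mapTop 𝔸.a (q j) = ∑ k, P.s j k • (fibMod f η F).obj.mapTop 𝔸.b (q k)}
  zero_mem' := ⟨fun i => by simp, fun j => by simp [StMod.Mod.mapTop_zero]⟩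
  add_mem' := fun {p q} hp hq => ⟨fun i => by simp [smul_add, Finset.sum_add_distrib, hp.1 i, hq.1 i],
    fun j => by
      simp only [Pi.add_apply, StMod.Mod.mapTop_add, smul_add, Finset.sum_add_distrib]
      rw [hp.2 j, hq.2 j]⟩
  neg_mem' := fun {p} hp => by
    have hneg : ∀ {z' z : (StMod.fibCat f η).obj} (k : z' ⟶ z) (m : Sec (fibMod f η F) z),
        (fibMod f η F).obj.mapTop k (-m) = -(fibMod f η F).obj.mapTop k m := fun k m =>
      (AddMonoidHom.mk' ((fibMod f η F).obj.mapTop k) ((fibMod f η F).obj.mapTop_add k)).map_neg m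
    exact ⟨fun i => by simp [Finset.sum_neg_distrib, hp.1 i],
      fun j => by simp only [Pi.neg_apply, hneg, smul_neg, Finset.sum_neg_distrib, hp.2 j]⟩

/-- The small model of the families over `η`. -/
def Sol : Type u := ↥(solGroup P F)

instance : AddCommGroup (Sol P F) := inferInstanceAs (AddCommGroup ↥(solGroup P F))

variable {P F}

@[ext] lemma Sol.ext {p q : Sol P F} (h : p.1 = q.1) : p = q := Subtype.ext h

@[simp] lemma Sol.add_val (p q : Sol P F) : (p + q).1 = p.1 + q.1 := rfl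

lemma smul_mem_sol (c : Fn 𝒴 η) (q : Sol P F) :
    (fun j => (pr f 𝔸.x).appTop.hom c • q.1 j) ∈ solGroup P F := by
  refine ⟨fun i => ?_, fun j => ?_⟩
  · simp only [smul_comm _ ((pr f 𝔸.x).appTop.hom c), ← Finset.smul_sum, q.2.1 i, smul_zero]
  · have h1 : ∀ (k : 𝔸.y ⟶ 𝔸.x) (m : Sec (fibMod f η F) 𝔸.x),
        (fibMod f η F).obj.mapTop k ((pr f 𝔸.x).appTop.hom c • m) =
          (pr f 𝔸.y).appTop.hom c • (fibMod f η F).obj.mapTop k m := fun k m => by
      rw [StMod.Mod.mapTop_smul]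
      exact congrArg (· • _) congr($(congrArg Scheme.Hom.appTop (bmap_pr f k)) c)
    simp only [h1, smul_comm _ ((pr f 𝔸.y).appTop.hom c), ← Finset.smul_sum, q.2.2 j]

instance : SMul (Fn 𝒴 η) (Sol P F) := ⟨fun c q => ⟨_, smul_mem_sol c q⟩⟩

@[simp] lemma Sol.smul_val (c : Fn 𝒴 η) (q : Sol P F) (j : Fin P.n) :
    (c • q).1 j = (pr f 𝔸.x).appTop.hom c • q.1 j := rfl

instance : Module (Fn 𝒴 η) (Sol P F) where
  one_smul q := Sol.ext (funext fun j => by rw [Sol.smul_val, map_one, one_smul])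
  mul_smul a b q := Sol.ext (funext fun j => by rw [Sol.smul_val, map_mul, mul_smul]; rfl)
  smul_zero a := Sol.ext (funext fun j => smul_zero (A := Sec (fibMod f η F) 𝔸.x) _)
  smul_add a p q := Sol.ext (funext fun j => by simp)
  add_smul a b q := Sol.ext (funext fun j => by simp [add_smul])
  zero_smul q := Sol.ext (funext fun j => by rw [Sol.smul_val, map_zero, zero_smul]; rfl)

lemma tup_mem (h : AHom f E F η) : h.tup P ∈ solGroup P F := by
  refine ⟨fun i => ?_, fun j => ?_⟩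
  · change ∑ k, P.r i k • h.1 (fibA 𝔸.x 𝔸.affx) 𝔸.x.hom (P.e k) = 0
    simp only [← LinearMap.map_smul, ← map_sum]
    exact (congrArg _ (P.rel i)).trans (map_zero _)
  · have h1 : ∀ (k : 𝔸.y ⟶ 𝔸.x) (m : Sec (fibMod f η E) 𝔸.x), (fibMod f η F).obj.mapTop k
        (h.1 (fibA 𝔸.x 𝔸.affx) 𝔸.x.hom m) = h.1 (fibA 𝔸.y 𝔸.affy) 𝔸.y.hom ((fibMod f η E).obj.mapTop k m) :=
      fun k m => by
        rw [fib_mapTop, fib_mapTop, ← CostructuredArrow.w k]
        exact (h.2 (ξ' := fibA 𝔸.y 𝔸.affy) (ξ := fibA 𝔸.x 𝔸.affx) k.left 𝔸.x.hom m).symm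
    change (fibMod f η F).obj.mapTop 𝔸.a (h.1 (fibA 𝔸.x 𝔸.affx) 𝔸.x.hom (P.e j)) =
      ∑ k, P.s j k • (fibMod f η F).obj.mapTop 𝔸.b (h.1 (fibA 𝔸.x 𝔸.affx) 𝔸.x.hom (P.e k))
    simp only [h1, P.trans, map_sum]
    exact Finset.sum_congr rfl fun k _ => LinearMap.map_smul _ _ _

variable (P F) in
/-- The tuple of a family. -/
def tupL : AHom f E F η →ₗ[Fn 𝒴 η] Sol P F where
  toFun h := ⟨h.tup P, tup_mem h⟩
  map_add' _ _ := rfl
  map_smul' c h := Sol.ext (funext fun j => by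
    change baseFn f 𝔸.x.left 𝔸.x.hom c • h.1 (fibA 𝔸.x 𝔸.affx) 𝔸.x.hom (P.e j) = (pr f 𝔸.x).appTop.hom c • _
    rw [baseFn_pr]
    rfl)

theorem bijective_tupL (hp : FibCat.IsFibGrpd 𝒳.p) : Function.Bijective (tupL P F) := by
  refine ⟨fun h h' e => sub_eq_zero.1 (AHom.eq_zero_of_tup P _ ?_), fun q => ?_⟩
  · have : tupL P F (h - h') = 0 := by rw [map_sub, e, sub_self]
    exact congrArg Subtype.val this
  · obtain ⟨φ, hφ⟩ := P.exists_hom (fibCat_fibGrpd f η hp) q.1 q.2.1 q.2.2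
    let L : ∀ (ξ : AObj 𝒳) (α : f.obj ξ.1 ⟶ η), Sec E ξ.1 →ₗ[Fn 𝒳 ξ.1] Sec F ξ.1 := fun ξ α =>
      { toFun := fun e => (φ.app (CostructuredArrow.mk α)).app ⊤ e
        map_add' := map_add _
        map_smul' := fun c e => Scheme.Modules.Hom.app_smul (φ.app (CostructuredArrow.mk α)) c e }
    refine ⟨⟨L, fun ξ' ξ ψ α e => ?_⟩, Sol.ext (funext fun j => hφ j)⟩
    let k : CostructuredArrow.mk (f.map ψ ≫ α) ⟶ CostructuredArrow.mk (S := f.toFunctor) α :=
      CostructuredArrow.homMk ψ rfl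
    have := (StMod.Mod.mapTop_app φ (ξ' := CostructuredArrow.mk (f.map ψ ≫ α)) k e).symm
    rw [fib_mapTop, fib_mapTop] at this
    exact this

variable (P F) in
/-- The families over `η` as the small model. -/
def solEquiv (hp : FibCat.IsFibGrpd 𝒳.p) : Sol P F ≃ₗ[Fn 𝒴 η] AHom f E F η :=
  (LinearEquiv.ofBijective (tupL P F) (bijective_tupL hp)).symm

/-- Flat base change of families. -/
theorem bijective_restr_lift (hp : FibCat.IsFibGrpd 𝒳.p) (hq : FibCat.IsFibGrpd 𝒴.p) {η' : 𝒴.obj}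
    (hη' : IsAffine (StMod.sch 𝒴 η')) (hη : IsAffine (StMod.sch 𝒴 η)) (β : η' ⟶ η)
    (hfl : Flat (StMod.bmap 𝒴 β)) :
    letI := (fnMap β).toAlgebra
    ∀ L : Fn 𝒴 η' ⊗[Fn 𝒴 η] Sol P F →+ AHom f E F η',
      (∀ c q, L (c ⊗ₜ q) = c • AHom.restr β (solEquiv P F hp q)) → Function.Bijective L := by
  classical
  intro L hL
  let Φ := bcFlatBC f β hp hq hη' hη hfl
  let E' := fibMod f η E
  let F' := fibMod f η F
  let x := 𝔸.x
  let y := 𝔸.y
  let zx := Φ.z x 𝔸.affx
  let zy := Φ.z y 𝔸.affy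
  let ex := Φ.e x 𝔸.affx
  let ey := Φ.e y 𝔸.affy
  obtain ⟨ca, hca⟩ := Φ.fac x 𝔸.affx zy (ey ≫ 𝔸.a)
  obtain ⟨cb, hcb⟩ := Φ.fac x 𝔸.affx zy (ey ≫ 𝔸.b)
  letI := (fnMap β).toAlgebra
  haveI : Module.Flat (Fn 𝒴 η) (Fn 𝒴 η') := Φ.flat
  let ρx : Fn 𝒴 η →+* Fn (StMod.fibCat f η) x := Φ.ρ x
  let ρy : Fn 𝒴 η →+* Fn (StMod.fibCat f η) y := Φ.ρ y
  let σx : Fn 𝒴 η' →+* Fn (StMod.fibCat f η) ((bcFun f β).obj zx) := Φ.σ zx
  let σy : Fn 𝒴 η' →+* Fn (StMod.fibCat f η) ((bcFun f β).obj zy) := Φ.σ zy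
  letI := baseModule F' ρx
  letI := baseModule F' ρy
  letI := baseModule F' σx
  letI := baseModule F' σy
  let θx := sqLift (fnMap β) F' ex ρx σx (Φ.w x 𝔸.affx)
  let θy := sqLift (fnMap β) F' ey ρy σy (Φ.w y 𝔸.affy)
  have hθx : Function.Bijective θx :=
    bijective_sqLift (fnMap β) F' ex ρx σx (Φ.affz x 𝔸.affx) 𝔸.affx (Φ.w x 𝔸.affx) (Φ.push x 𝔸.affx)
  have hθy : Function.Bijective θy :=
    bijective_sqLift (fnMap β) F' ey ρy σy (Φ.affz y 𝔸.affy) 𝔸.affy (Φ.w y 𝔸.affy) (Φ.push y 𝔸.affy)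
  let incl : Sol P F →ₗ[Fn 𝒴 η] (Fin P.n → Sec F' x) :=
    { toFun := fun q => q.1, map_add' := fun _ _ => rfl, map_smul' := fun _ _ => rfl }
  let Lrel : (Fin P.n → Sec F' x) →ₗ[Fn 𝒴 η] (Fin P.m → Sec F' x) :=
    { toFun := fun v i => ∑ k, P.r i k • v k
      map_add' := fun a b => funext fun i => by simp [smul_add, Finset.sum_add_distrib]
      map_smul' := fun r a => funext fun i => by
        change ∑ k, P.r i k • ρx r • a k = ρx r • ∑ k, P.r i k • a k
        rw [Finset.smul_sum]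
        exact Finset.sum_congr rfl fun k _ => smul_comm _ _ _ }
  let Lgl : (Fin P.n → Sec F' x) →ₗ[Fn 𝒴 η] (Fin P.n → Sec F' y) :=
    { toFun := fun v j => F'.obj.mapTop 𝔸.a (v j) - ∑ k, P.s j k • F'.obj.mapTop 𝔸.b (v k)
      map_add' := fun a b => funext fun j => by
        simp only [Pi.add_apply, F'.obj.mapTop_add, smul_add, Finset.sum_add_distrib]
        abel
      map_smul' := fun r a => funext fun j => by
        change F'.obj.mapTop 𝔸.a (ρx r • a j) - ∑ k, P.s j k • F'.obj.mapTop 𝔸.b (ρx r • a k) =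
          ρy r • (F'.obj.mapTop 𝔸.a (a j) - ∑ k, P.s j k • F'.obj.mapTop 𝔸.b (a k))
        rw [smul_sub, Finset.smul_sum, F'.obj.mapTop_smul]
        refine congrArg₂ (· - ·) (congrArg (· • _) (Φ.ρ_nat 𝔸.a r)) (Finset.sum_congr rfl fun k _ => ?_)
        rw [F'.obj.mapTop_smul, smul_comm]
        exact congrArg (· • _) (Φ.ρ_nat 𝔸.b r) }
  have hex : Function.Exact incl (Lrel.prod Lgl) := by
    intro q
    constructor
    · intro hq0
      exact ⟨⟨q, fun i => congrFun (congrArg Prod.fst hq0) i,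
        fun j => sub_eq_zero.1 (congrFun (congrArg Prod.snd hq0) j)⟩, rfl⟩
    · rintro ⟨v, rfl⟩
      exact Prod.ext (funext fun i => v.2.1 i) (funext fun j => sub_eq_zero.2 (v.2.2 j))
  let ev : AHom f E F η' →+ (Fin P.n → Sec F' ((bcFun f β).obj zx)) := AddMonoidHom.mk'
    (fun h j => h.1 (fibA zx (Φ.affz x 𝔸.affx)) zx.hom (E.obj.mapTop ex.left (P.e j))) fun _ _ => rfl
  have key : ∀ t j, ev (L t) j = θx ((LinearMap.proj j).lTensor _ (incl.lTensor _ t)) := by
    intro t j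
    induction t using TensorProduct.induction_on with
    | zero =>
      rw [map_zero L, map_zero ev, map_zero, map_zero, map_zero]
      rfl
    | add a b ha hb => rw [map_add L, map_add ev, Pi.add_apply, ha, hb, map_add, map_add, map_add]
    | tmul c q =>
      rw [hL]
      simp only [θx, LinearMap.lTensor_tmul, sqLift_tmul]
      change baseFn f zx.left zx.hom c • (solEquiv P F hp q).1 (fibA zx (Φ.affz x 𝔸.affx)) (zx.hom ≫ β)
        (E.obj.mapTop ex.left (P.e j)) = σx c • F'.obj.mapTop ex (q.1 j)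
      rw [baseFn_pr, fib_mapTop, ← (show f.map ex.left ≫ x.hom = zx.hom ≫ β from CostructuredArrow.w ex),
        (solEquiv P F hp q).2 (ξ' := fibA zx (Φ.affz x 𝔸.affx)) (ξ := fibA x 𝔸.affx) ex.left x.hom]
      have : (solEquiv P F hp q).1 (fibA x 𝔸.affx) x.hom (P.e j) = q.1 j :=
        congrFun (congrArg Subtype.val ((solEquiv P F hp).symm_apply_apply q)) j
      rw [this]
      rfl
  have hincl : Function.Injective (incl.lTensor (Fn 𝒴 η')) :=
    Module.Flat.lTensor_preserves_injective_linearMap incl fun a b e => Sol.ext e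
  constructor
  · intro s t hst
    refine hincl (sub_eq_zero.1 (eq_zero_of_proj _ fun j => hθx.1 ?_))
    rw [map_zero, map_sub, map_sub, sub_eq_zero, ← key, ← key, hst]
  intro h
  let H : Sec E zx.left →ₗ[Fn 𝒳 zx.left] Sec F zx.left := h.1 (fibA zx (Φ.affz x 𝔸.affx)) zx.hom
  let Hy : Sec E zy.left →ₗ[Fn 𝒳 zy.left] Sec F zy.left := h.1 (fibA zy (Φ.affz y 𝔸.affy)) zy.hom
  have Hnat : ∀ (c : zy ⟶ zx) (m : Sec E zx.left), Hy (E.obj.mapTop c.left m) = F.obj.mapTop c.left (H m) := by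
    intro c m
    have hw : f.map c.left ≫ zx.hom = zy.hom := CostructuredArrow.w c
    simp only [Hy, ← hw]
    exact h.2 (ξ' := fibA zy (Φ.affz y 𝔸.affy)) (ξ := fibA zx (Φ.affz x 𝔸.affx)) c.left zx.hom m
  choose w hw using fun j => hθx.2 (ev h j)
  let t : Fn 𝒴 η' ⊗[Fn 𝒴 η] (Fin P.n → Sec F' x) :=
    (TensorProduct.piRight (Fn 𝒴 η) (Fn 𝒴 η) (Fn 𝒴 η') _).symm w
  have ht : ∀ j, θx ((LinearMap.proj j).lTensor _ t) = ev h j := by
    intro j
    have kp : ∀ v : Fn 𝒴 η' ⊗[Fn 𝒴 η] (Fin P.n → Sec F' x),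
        TensorProduct.piRight (Fn 𝒴 η) (Fn 𝒴 η) (Fn 𝒴 η') _ v j = (LinearMap.proj j).lTensor _ v := fun v => by
      induction v using TensorProduct.induction_on with
      | zero => simp
      | add a b ha hb => rw [map_add, Pi.add_apply, ha, hb, map_add]
      | tmul c z => rfl
    rw [← kp, LinearEquiv.apply_symm_apply, hw]
  have hrel : Lrel.lTensor (Fn 𝒴 η') t = 0 := by
    refine eq_zero_of_proj _ fun i => hθx.1 ?_
    rw [map_zero]
    have kr : ∀ v : Fn 𝒴 η' ⊗[Fn 𝒴 η] (Fin P.n → Sec F' x),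
        θx ((LinearMap.proj i).lTensor _ (Lrel.lTensor _ v)) =
          ∑ k, fnMap ex (P.r i k) • θx ((LinearMap.proj k).lTensor _ v) := fun v => by
      induction v using TensorProduct.induction_on with
      | zero => simp
      | add a b ha hb => simp only [map_add, smul_add, Finset.sum_add_distrib, ha, hb]
      | tmul c z =>
        simp only [θx, LinearMap.lTensor_tmul, sqLift_tmul]
        change _ • F'.obj.mapTop ex (∑ k, P.r i k • z k) = _
        rw [show F'.obj.mapTop ex (∑ k, P.r i k • z k) = ∑ k, F'.obj.mapTop ex (P.r i k • z k) from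
          map_sum (AddMonoidHom.mk' (F'.obj.mapTop ex) (F'.obj.mapTop_add ex)) _ _, Finset.smul_sum]
        refine Finset.sum_congr rfl fun k _ => ?_
        rw [F'.obj.mapTop_smul, smul_comm]
        rfl
    rw [kr]
    simp only [ht]
    let M := AddMonoidHom.mk' (E.obj.mapTop ex.left) (E.obj.mapTop_add ex.left)
    change ∑ k, fnMap ex.left (P.r i k) • H (M (P.e k)) = 0
    calc ∑ k, fnMap ex.left (P.r i k) • H (M (P.e k))
        = ∑ k, H (M (P.r i k • P.e k)) := Finset.sum_congr rfl fun k _ => by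
          change _ = H (E.obj.mapTop ex.left (P.r i k • P.e k))
          rw [← LinearMap.map_smul]
          exact congrArg H (E.obj.mapTop_smul ex.left (P.r i k) (P.e k)).symm
      _ = H (M (∑ k, P.r i k • P.e k)) := by rw [← map_sum H]; exact congrArg H (map_sum M _ _).symm
      _ = 0 := (congrArg (fun z => H (M z)) (P.rel i)).trans ((congrArg H (map_zero M)).trans (map_zero H))
  have hgl : Lgl.lTensor (Fn 𝒴 η') t = 0 := by
    refine eq_zero_of_proj _ fun j => hθy.1 ?_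
    rw [map_zero]
    have kg : ∀ v : Fn 𝒴 η' ⊗[Fn 𝒴 η] (Fin P.n → Sec F' x),
        θy ((LinearMap.proj j).lTensor _ (Lgl.lTensor _ v)) =
          F'.obj.mapTop ((bcFun f β).map ca) (θx ((LinearMap.proj j).lTensor _ v)) -
            ∑ k, fnMap ey (P.s j k) • F'.obj.mapTop ((bcFun f β).map cb) (θx ((LinearMap.proj k).lTensor _ v)) :=
      fun v => by
      induction v using TensorProduct.induction_on with
      | zero => simp [StMod.Mod.mapTop_zero]
      | add a b ha hb =>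
        simp only [map_add, F'.obj.mapTop_add, smul_add, Finset.sum_add_distrib, ha, hb]
        abel
      | tmul r z =>
        simp only [θx, θy, LinearMap.lTensor_tmul, sqLift_tmul]
        change _ • F'.obj.mapTop ey (F'.obj.mapTop 𝔸.a (z j) - ∑ k, P.s j k • F'.obj.mapTop 𝔸.b (z k)) = _
        let N := AddMonoidHom.mk' (F'.obj.mapTop ey) (F'.obj.mapTop_add ey)
        rw [show F'.obj.mapTop ey (F'.obj.mapTop 𝔸.a (z j) - ∑ k, P.s j k • F'.obj.mapTop 𝔸.b (z k)) =
          N (F'.obj.mapTop 𝔸.a (z j)) - ∑ k, N (P.s j k • F'.obj.mapTop 𝔸.b (z k)) from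
            (map_sub N _ _).trans (congrArg (N (F'.obj.mapTop 𝔸.a (z j)) - ·) (map_sum N _ _)), smul_sub,
          Finset.smul_sum]
        refine congrArg₂ (· - ·) ?_ (Finset.sum_congr rfl fun k _ => ?_)
        · change _ • F'.obj.mapTop ey _ = _
          rw [F'.obj.mapTop_smul, ← F'.obj.mapTop_comp, ← F'.obj.mapTop_comp, hca]
          exact congrArg (· • _) (Φ.σ_nat ca r).symm
        · change _ • F'.obj.mapTop ey _ = _
          rw [F'.obj.mapTop_smul, F'.obj.mapTop_smul, smul_comm, ← F'.obj.mapTop_comp, ← F'.obj.mapTop_comp, hcb]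
          exact congrArg (_ • ·) (congrArg (· • _) (Φ.σ_nat cb r).symm)
    rw [kg]
    simp only [ht]
    refine Eq.trans (congrArg₂ (· - ·) (fib_mapTop f F ((bcFun f β).map ca) _) (Finset.sum_congr rfl fun k _ =>
      congrArg (fnMap ey (P.s j k) • ·) (fib_mapTop f F ((bcFun f β).map cb) _))) ?_
    let M := AddMonoidHom.mk' (E.obj.mapTop ey.left) (E.obj.mapTop_add ey.left)
    change F.obj.mapTop ca.left (H (E.obj.mapTop ex.left (P.e j))) -
      ∑ k, fnMap ey.left (P.s j k) • F.obj.mapTop cb.left (H (E.obj.mapTop ex.left (P.e k))) = 0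
    have ha' : ca.left ≫ ex.left = ey.left ≫ 𝔸.a.left := congrArg CommaMorphism.left hca
    have hb' : cb.left ≫ ex.left = ey.left ≫ 𝔸.b.left := congrArg CommaMorphism.left hcb
    rw [← Hnat, ← E.obj.mapTop_comp, ha', E.obj.mapTop_comp, ← fib_mapTop f E 𝔸.a, P.trans, sub_eq_zero]
    refine (congrArg Hy (map_sum M _ _)).trans ((map_sum Hy _ _).trans (Finset.sum_congr rfl fun k _ => ?_))
    change Hy (E.obj.mapTop ey.left (P.s j k • (fibMod f η E).obj.mapTop 𝔸.b (P.e k))) = _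
    rw [← Hnat, ← E.obj.mapTop_comp cb.left ex.left, hb', E.obj.mapTop_comp, ← LinearMap.map_smul, fib_mapTop]
    exact congrArg Hy (E.obj.mapTop_smul ey.left (P.s j k) (E.obj.mapTop 𝔸.b.left (P.e k)))
  have hzero : (Lrel.prod Lgl).lTensor (Fn 𝒴 η') t = 0 := by
    refine (TensorProduct.prodRight (Fn 𝒴 η) (Fn 𝒴 η) (Fn 𝒴 η') _ _).injective ?_
    rw [map_zero]
    have kp : ∀ v, TensorProduct.prodRight (Fn 𝒴 η) (Fn 𝒴 η) (Fn 𝒴 η') _ _ ((Lrel.prod Lgl).lTensor _ v) =
        (Lrel.lTensor _ v, Lgl.lTensor _ v) := fun v => by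
      induction v using TensorProduct.induction_on with
      | zero => simp only [map_zero]; rfl
      | add a b ha hb => simp only [map_add, ha, hb]; rfl
      | tmul c z => rfl
    rw [kp, hrel, hgl]
    rfl
  obtain ⟨s, hs⟩ := (Module.Flat.lTensor_exact (Fn 𝒴 η') hex t).1 hzero
  refine ⟨s, sub_eq_zero.1 (AHom.eq_zero_of_gen hp P Φ (L s - h) fun j => ?_)⟩
  change ev (L s - h) j = 0
  rw [map_sub, Pi.sub_apply, key, hs, ht, sub_self]

end Groth.Agent.H14QCoh
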