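import Groth.Agent.H14QCoh.Basic

/-!
# Base change of sections of quasi-coherent modules between affine objects
-/

set_option autoImplicit false
set_option linter.style.haveILetI false
set_option backward.isDefEq.respectTransparency false
set_option backward.isDefEq.respectTransparency.types false

universe w v u

open CategoryTheory CategoryTheory.Limits AlgebraicGeometry Opposite TopologicalSpace

noncomputable section

namespace Groth.Agent.H14QCoh

variable {S : Scheme.{u}} {𝒳 : BasedCategory.{v, w} (Over S)}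

/-- Functions on the scheme under an object. -/
abbrev Fn (𝒳 : BasedCategory.{v, w} (Over S)) (ξ : 𝒳.obj) : Type u := Γ(StMod.sch 𝒳 ξ, ⊤)

/-- Sections over an object. -/
abbrev Sec (F : StMod.QCoh 𝒳) (ξ : 𝒳.obj) : Type u := Γ(F.obj.obj ξ, ⊤)

/-- Pullback of functions along an arrow. -/
abbrev fnMap {ξ' ξ : 𝒳.obj} (φ : ξ' ⟶ ξ) : Fn 𝒳 ξ →+* Fn 𝒳 ξ' := (StMod.bmap 𝒳 φ).appTop.hom

lemma fnMap_comp {ξ'' ξ' ξ : 𝒳.obj} (ψ : ξ'' ⟶ ξ') (φ : ξ' ⟶ ξ) (r : Fn 𝒳 ξ) :
    fnMap (ψ ≫ φ) r = fnMap ψ (fnMap φ r) := by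
  simp [fnMap]

lemma fnMap_id (ξ : 𝒳.obj) (r : Fn 𝒳 ξ) : fnMap (𝟙 ξ) r = r := by
  change (StMod.bmap 𝒳 (𝟙 ξ)).appTop r = r
  rw [StMod.bmap_id]
  rfl

section general

variable (F : StMod.QCoh 𝒳) {ξ' ξ : 𝒳.obj} (φ : ξ' ⟶ ξ)
  {W : (StMod.sch 𝒳 ξ).Opens} {U : (StMod.sch 𝒳 ξ').Opens}

/-- Comparison map over a pair of opens. -/
def resLin (h : U ≤ StMod.bmap 𝒳 φ ⁻¹ᵁ W) :
    letI := Module.compHom Γ(F.obj.obj ξ', U) ((StMod.bmap 𝒳 φ).appLE W U h).hom
    Γ(F.obj.obj ξ, W) →ₗ[Γ(StMod.sch 𝒳 ξ, W)] Γ(F.obj.obj ξ', U) :=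
  letI := Module.compHom Γ(F.obj.obj ξ', U) ((StMod.bmap 𝒳 φ).appLE W U h).hom
  { toFun := fun m => (F.obj.obj ξ').presheaf.map (homOfLE h).op ((F.obj.map φ rfl).app W m)
    map_add' := fun a b => by rw [map_add]; exact map_add _ _ _
    map_smul' := fun r m => by
      rw [Scheme.Modules.Hom.app_smul (F.obj.map φ rfl) r m]
      exact Scheme.Modules.map_smul _ _ _ _ }

/-- Comparison maps between affine opens are base changes. -/
theorem isBaseChange_resLin (h : U ≤ StMod.bmap 𝒳 φ ⁻¹ᵁ W) (hW : IsAffineOpen W) (hU : IsAffineOpen U) :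
    letI := ((StMod.bmap 𝒳 φ).appLE W U h).hom.toAlgebra
    letI := Module.compHom Γ(F.obj.obj ξ', U) ((StMod.bmap 𝒳 φ).appLE W U h).hom
    haveI : IsScalarTower Γ(StMod.sch 𝒳 ξ, W) Γ(StMod.sch 𝒳 ξ', U) Γ(F.obj.obj ξ', U) :=
      .of_algebraMap_smul fun _ _ => rfl
    IsBaseChange Γ(StMod.sch 𝒳 ξ', U) (resLin F φ h) := by
  let g := StMod.bmap 𝒳 φ
  let G := F.obj.obj ξ
  letI := (g.appLE W U h).hom.toAlgebra
  letI := Module.compHom Γ(F.obj.obj ξ', U) (g.appLE W U h).hom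
  letI := Module.compHom Γ((Scheme.Modules.pullback g).obj G, U) (g.appLE W U h).hom
  haveI : IsScalarTower Γ(StMod.sch 𝒳 ξ, W) Γ(StMod.sch 𝒳 ξ', U) Γ(F.obj.obj ξ', U) :=
    .of_algebraMap_smul fun _ _ => rfl
  haveI : IsScalarTower Γ(StMod.sch 𝒳 ξ, W) Γ(StMod.sch 𝒳 ξ', U) Γ((Scheme.Modules.pullback g).obj G, U) :=
    .of_algebraMap_smul fun _ _ => rfl
  let adj := Scheme.Modules.pullbackPushforwardAdjunction g
  let a : (Scheme.Modules.pullback g).obj G ⟶ F.obj.obj ξ' := (adj.homEquiv G (F.obj.obj ξ')).symm (F.obj.map φ rfl)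
  haveI : IsIso a := F.property.1 φ rfl
  have hb : Function.Bijective (a.app U) := by
    haveI : IsIso (a.app U) := Scheme.Modules.Hom.isIso_iff_isIso_app.1 inferInstance U
    exact ConcreteCategory.bijective_of_isIso _
  let e : Γ((Scheme.Modules.pullback g).obj G, U) ≃ₗ[Γ(StMod.sch 𝒳 ξ', U)] Γ(F.obj.obj ξ', U) :=
    LinearEquiv.ofBijective
      { toFun := fun x => a.app U x
        map_add' := fun x y => map_add _ x y
        map_smul' := fun r x => Scheme.Modules.Hom.app_smul a r x } hb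
  have key : ∀ m, e (H8Props.PullSections.pullLin g G h m) = resLin F φ h m := by
    intro m
    change a.app U (((Scheme.Modules.pullback g).obj G).presheaf.map (homOfLE h).op _) =
      (F.obj.obj ξ').presheaf.map (homOfLE h).op _
    refine (congr($((Scheme.Modules.Hom.mapPresheaf a).naturality (homOfLE h).op) _)).trans ?_
    rw [ConcreteCategory.comp_apply]
    refine congrArg _ ?_
    have : F.obj.map φ rfl = adj.unit.app G ≫ (Scheme.Modules.pushforward g).map a :=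
      ((adj.homEquiv G (F.obj.obj ξ')).apply_symm_apply _).symm.trans (adj.homEquiv_unit _ _ _)
    rw [this]
    rfl
  have hbc := H8Props.PullSections.isBaseChange_pullLin g G h (F.property.2 ξ) hW hU
  exact IsBaseChange.of_equiv (hbc.equiv ≪≫ₗ e) fun m => by
    rw [LinearEquiv.trans_apply, IsBaseChange.equiv_tmul, one_smul]
    exact key m

/-- Comparison maps between affine opens with the same functions are bijective. -/
theorem bijective_resLin (h : U ≤ StMod.bmap 𝒳 φ ⁻¹ᵁ W) (hW : IsAffineOpen W) (hU : IsAffineOpen U)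
    (hR : Function.Bijective ((StMod.bmap 𝒳 φ).appLE W U h)) :
    Function.Bijective fun m => (F.obj.obj ξ').presheaf.map (homOfLE h).op ((F.obj.map φ rfl).app W m) := by
  letI := ((StMod.bmap 𝒳 φ).appLE W U h).hom.toAlgebra
  letI := Module.compHom Γ(F.obj.obj ξ', U) ((StMod.bmap 𝒳 φ).appLE W U h).hom
  haveI : IsScalarTower Γ(StMod.sch 𝒳 ξ, W) Γ(StMod.sch 𝒳 ξ', U) Γ(F.obj.obj ξ', U) :=
    .of_algebraMap_smul fun _ _ => rfl
  have hb := isBaseChange_resLin F φ h hW hU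
  let e : Γ(StMod.sch 𝒳 ξ, W) ≃ₗ[Γ(StMod.sch 𝒳 ξ, W)] Γ(StMod.sch 𝒳 ξ', U) :=
    LinearEquiv.ofBijective (Algebra.linearMap _ _) hR
  have : (fun m => (resLin F φ h) m) =
      hb.equiv ∘ (TensorProduct.congr e (LinearEquiv.refl _ Γ(F.obj.obj ξ, W))) ∘ (TensorProduct.lid _ _).symm := by
    funext m
    simp only [Function.comp_apply, TensorProduct.lid_symm_apply, TensorProduct.congr_tmul, LinearEquiv.refl_apply]
    rw [show e 1 = 1 from (show algebraMap Γ(StMod.sch 𝒳 ξ, W) Γ(StMod.sch 𝒳 ξ', U) 1 = 1 from map_one _), IsBaseChange.equiv_tmul, one_smul]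
  change Function.Bijective fun m => (resLin F φ h) m
  rw [this]
  exact hb.equiv.bijective.comp ((LinearEquiv.bijective _).comp (LinearEquiv.bijective _))

/-- `isBaseChange_resLin` with any name of the map of functions and of the comparison. -/
theorem isBaseChange_resLin_congr (h : U ≤ StMod.bmap 𝒳 φ ⁻¹ᵁ W) (hW : IsAffineOpen W) (hU : IsAffineOpen U)
    (α : Γ(StMod.sch 𝒳 ξ, W) →+* Γ(StMod.sch 𝒳 ξ', U))
    (hα : ((StMod.bmap 𝒳 φ).appLE W U h).hom = α) :
    letI := α.toAlgebra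
    letI := Module.compHom Γ(F.obj.obj ξ', U) α
    haveI : IsScalarTower Γ(StMod.sch 𝒳 ξ, W) Γ(StMod.sch 𝒳 ξ', U) Γ(F.obj.obj ξ', U) :=
      .of_algebraMap_smul fun _ _ => rfl
    ∀ L : Γ(F.obj.obj ξ, W) →ₗ[Γ(StMod.sch 𝒳 ξ, W)] Γ(F.obj.obj ξ', U),
      (∀ m, L m = (F.obj.obj ξ').presheaf.map (homOfLE h).op ((F.obj.map φ rfl).app W m)) →
      IsBaseChange Γ(StMod.sch 𝒳 ξ', U) L := by
  subst hα
  intro L hL
  letI := Module.compHom Γ(F.obj.obj ξ', U) ((StMod.bmap 𝒳 φ).appLE W U h).hom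
  have : L = resLin F φ h := LinearMap.ext hL
  exact this ▸ isBaseChange_resLin F φ h hW hU

end general

variable {ξ' ξ : 𝒳.obj}

/-- The module of sections over the source as a module over functions on the target. -/
@[reducible] def secModule (F : StMod.QCoh 𝒳) (φ : ξ' ⟶ ξ) : Module (Fn 𝒳 ξ) (Sec F ξ') :=
  Module.compHom _ (fnMap φ)

/-- Restriction of sections, semilinearly. -/
def mapLin (F : StMod.QCoh 𝒳) (φ : ξ' ⟶ ξ) :
    letI := secModule F φ
    Sec F ξ →ₗ[Fn 𝒳 ξ] Sec F ξ' :=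
  letI := secModule F φ
  { toFun := F.obj.mapTop φ
    map_add' := F.obj.mapTop_add φ
    map_smul' := fun r x => F.obj.mapTop_smul φ r x }

theorem isBaseChange_mapTop (F : StMod.QCoh 𝒳) (φ : ξ' ⟶ ξ) (hξ' : IsAffine (StMod.sch 𝒳 ξ'))
    (hξ : IsAffine (StMod.sch 𝒳 ξ)) :
    letI := (fnMap φ).toAlgebra
    letI := secModule F φ
    haveI : IsScalarTower (Fn 𝒳 ξ) (Fn 𝒳 ξ') (Sec F ξ') := .of_algebraMap_smul fun _ _ => rfl
    IsBaseChange (Fn 𝒳 ξ') (mapLin F φ) := by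
  have e : ((StMod.bmap 𝒳 φ).appLE ⊤ ⊤ le_top).hom = fnMap φ := by
    rw [fnMap, Scheme.Hom.appTop, Scheme.Hom.app_eq_appLE]
    rfl
  refine isBaseChange_resLin_congr F φ (W := ⊤) (U := ⊤) le_top (isAffineOpen_top _) (isAffineOpen_top _) _ e
    (mapLin F φ) fun m => ?_
  rw [show (homOfLE (le_refl (⊤ : (StMod.sch 𝒳 ξ').Opens))).op = 𝟙 _ from rfl]
  erw [CategoryTheory.Functor.map_id]
  rfl

variable {F G : StMod.QCoh 𝒳} {φ : ξ' ⟶ ξ} (hξ' : IsAffine (StMod.sch 𝒳 ξ')) (hξ : IsAffine (StMod.sch 𝒳 ξ))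

include hξ' hξ in
/-- Induction on the sections over the source. -/
theorem sec_induction {P : Sec F ξ' → Prop} (y : Sec F ξ') (zero : P 0) (add : ∀ a b, P a → P b → P (a + b))
    (smul : ∀ (b : Fn 𝒳 ξ') (x : Sec F ξ), P (b • F.obj.mapTop φ x)) : P y := by
  letI := (fnMap φ).toAlgebra
  letI := secModule F φ
  haveI : IsScalarTower (Fn 𝒳 ξ) (Fn 𝒳 ξ') (Sec F ξ') := .of_algebraMap_smul fun _ _ => rfl
  have h := isBaseChange_mapTop F φ hξ' hξ
  obtain ⟨t, rfl⟩ := h.equiv.surjective y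
  induction t using TensorProduct.induction_on with
  | zero => rwa [map_zero]
  | add a b ha hb => rw [map_add]; exact add _ _ ha hb
  | tmul b x => rw [IsBaseChange.equiv_tmul]; exact smul b x

include hξ' hξ in
/-- Linear maps on the source are determined on pulled back sections. -/
theorem lin_ext {P : Type*} [AddCommGroup P] [Module (Fn 𝒳 ξ') P] {a b : Sec F ξ' →ₗ[Fn 𝒳 ξ'] P}
    (h : ∀ x, a (F.obj.mapTop φ x) = b (F.obj.mapTop φ x)) : a = b :=
  LinearMap.ext fun y => sec_induction (φ := φ) hξ' hξ (P := fun y => a y = b y) y (by simp)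
    (fun x z hx hz => by rw [map_add, map_add, hx, hz]) (fun c x => by rw [map_smul, map_smul, h])

include hξ' hξ in
/-- Extension of a linear map to the source. -/
theorem exists_lin_lift (h : Sec F ξ →ₗ[Fn 𝒳 ξ] Sec G ξ) :
    ∃ h' : Sec F ξ' →ₗ[Fn 𝒳 ξ'] Sec G ξ', ∀ x, h' (F.obj.mapTop φ x) = G.obj.mapTop φ (h x) := by
  letI := (fnMap φ).toAlgebra
  letI := secModule F φ
  letI := secModule G φ
  haveI : IsScalarTower (Fn 𝒳 ξ) (Fn 𝒳 ξ') (Sec F ξ') := .of_algebraMap_smul fun _ _ => rfl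
  haveI : IsScalarTower (Fn 𝒳 ξ) (Fn 𝒳 ξ') (Sec G ξ') := .of_algebraMap_smul fun _ _ => rfl
  have hb := isBaseChange_mapTop F φ hξ' hξ
  exact ⟨hb.lift ((mapLin G φ).comp h), fun x => hb.lift_eq ((mapLin G φ).comp h) x⟩

end Groth.Agent.H14QCoh
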