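import Groth.Agent.H14QCoh.FibCat
import Groth.Agent.H14QCoh.Cast
import Groth.Agent.H14AlgSt.Basic
import Groth.Agent.H14AlgSt.Rep
import Groth.Agent.H14Fib.Equiv
import Groth.Prelude.Def_StMod2
import Groth.Prelude.Def_AlgSp3
import Groth.Agent.H13AlgSp.AffineLocal

/-!
# Morphisms representable by affine schemes are cohomologically affine
-/

set_option autoImplicit false
set_option linter.style.haveILetI false
set_option backward.isDefEq.respectTransparency false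
set_option backward.isDefEq.respectTransparency.types false

universe u

open CategoryTheory CategoryTheory.Limits AlgebraicGeometry

noncomputable section

namespace Groth.Agent.H14QCoh

open H14Fib H14AlgSt

variable {S : Scheme.{u}} {𝒳 𝒴 : AlgSt.Cat S} (π : 𝒳 ⥤ᵇ 𝒴)

/-- The category over an object of an affine morphism has a terminal object, with affine scheme if the object has one. -/
theorem exists_univ (hπ : AlgSt.RepByAlgSpWith AlgSp.IsAffineMor π) (hq : FibCat.IsFibGrpd 𝒴.p) (θ : 𝒴.obj) :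
    ∃ (ξ₀ : 𝒳.obj) (α₀ : π.obj ξ₀ ⟶ θ), (IsAffine (StMod.sch 𝒴 θ) → IsAffine (StMod.sch 𝒳 ξ₀)) ∧
      ∀ (ξ : 𝒳.obj) (α : π.obj ξ ⟶ θ), ∃! φ : ξ ⟶ ξ₀, π.map φ ≫ α₀ = α := by
  have := isFibered_of_fibGrpd hq
  obtain ⟨y, i, -, hi⟩ := exists_fromOver (𝒳 := 𝒴) (x := θ) rfl
  obtain ⟨F, e, he, hF⟩ := hπ (𝒴.p.obj θ) y
  have hF' := H13AlgSp.isAffineMor_iff.1 hF
  obtain ⟨W, j, g, sq⟩ := hF'.1 (𝟙 ((AlgSp.yon S).obj (𝒴.p.obj θ)))
  have hj : IsAffineHom j.left := hF'.2 _ g j sq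
  have : IsIso g := sq.isIso_fst_of_isIso
  have : IsIso g.hom := (sheafToPresheaf _ _).map_isIso g
  let E : FibCat.overCat W ⥤ᵇ StMod.fibCat π θ :=
    BasedFunctor.comp (AlgSt.ofOverCat W)
      (BasedFunctor.comp (BasedFunctor.comp (AlgSt.ofSpMap g) e) (fromFp π θ y i))
  have hE : FibCat.IsEquivOver E :=
    isEquivOver_comp (ofOverCat_isEquivOver W)
      (isEquivOver_comp (isEquivOver_comp (isEquivOver_ofPshMap _) he) (fromFp_isEquivOver π θ y i hi hq))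
  have := isEquivalence_of_isEquivOver hE
  have hz : (𝒳.p.obj (E.obj (topObj W)).left) = W := E.w_obj (topObj W)
  refine ⟨(E.obj (topObj W)).left, (E.obj (topObj W)).hom, ?_, fun ξ α => ?_⟩
  · intro hθ
    change IsAffine (𝒳.p.obj (E.obj (topObj W)).left).left
    rw [hz]
    haveI : IsAffine (𝒴.p.obj θ).left := hθ
    exact isAffine_of_isAffineHom j.left
  let x : (StMod.fibCat π θ).obj := CostructuredArrow.mk α
  let t := E.toFunctor.objPreimage x
  let a : x ⟶ E.obj (topObj W) := (E.toFunctor.objObjPreimageIso x).inv ≫ E.map (toTop t)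
  refine ⟨a.left, CostructuredArrow.w a, fun φ hφ => ?_⟩
  let b : x ⟶ E.obj (topObj W) := CostructuredArrow.homMk φ hφ
  obtain ⟨c, hc⟩ := E.toFunctor.map_surjective ((E.toFunctor.objObjPreimageIso x).hom ≫ b)
  have hct : c = toTop t := by
    have h : c ≫ toTop (topObj W) = toTop t := toTop_comp c
    have h1 : toTop (topObj W) = 𝟙 (topObj W) := Over.OverMorphism.ext rfl
    rwa [h1, Category.comp_id] at h
  have : b = a := by
    change b = _ ≫ E.toFunctor.map (toTop t)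
    rw [← hct, hc, Iso.inv_hom_id_assoc]
  exact congrArg CommaMorphism.left this

theorem exists_univ_of_affine (hπ : AlgSt.RepByAlgSpWith AlgSp.IsAffineMor π) (hq : FibCat.IsFibGrpd 𝒴.p)
    (θ : 𝒴.obj) (hθ : IsAffine (StMod.sch 𝒴 θ)) :
    ∃ (ξ₀ : 𝒳.obj) (α₀ : π.obj ξ₀ ⟶ θ), IsAffine (StMod.sch 𝒳 ξ₀) ∧
      ∀ (ξ : 𝒳.obj) (α : π.obj ξ ⟶ θ), ∃! φ : ξ ⟶ ξ₀, π.map φ ≫ α₀ = α := by
  obtain ⟨ξ₀, α₀, h, h'⟩ := exists_univ π hπ hq θ
  exact ⟨ξ₀, α₀, h hθ, h'⟩

variable {M : AlgSp.Sp S} (f : 𝒳 ⥤ᵇ AlgSt.ofSp M)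

/-- Affine morphisms to a space are cohomologically affine. -/
theorem isCohAffine_of_affine (hπ : AlgSt.RepByAlgSpWith AlgSp.IsAffineMor f)
    (hq : FibCat.IsFibGrpd (AlgSt.ofSp M).p) : StMod.IsCohAffine f := by
  intro F G u hu E hE t
  obtain ⟨ξ₀, α₀, hA, hex⟩ := exists_univ_of_affine f hπ hq (StMod.etaOf E) hE
  obtain ⟨m, hm⟩ := hu ξ₀ hA (t.1 ξ₀ α₀)
  refine ⟨⟨fun ξ α => F.obj.mapTop (hex ξ α).exists.choose m, fun ξ' ξ φ α => ?_⟩,
    StMod.Mod.RelSect.ext _ _ _ fun ξ α => ?_⟩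
  · change F.obj.mapTop φ (F.obj.mapTop _ m) = F.obj.mapTop _ m
    rw [← StMod.Mod.mapTop_comp]
    refine congrArg (fun k => F.obj.mapTop k m) ((hex _ _).unique ?_ (hex _ _).exists.choose_spec)
    rw [f.map_comp, Category.assoc, (hex _ _).exists.choose_spec]
  · change (u.hom.app ξ).app ⊤ (F.obj.mapTop _ m) = _
    rw [← StMod.Mod.mapTop_app, hm]
    exact (t.2 _ α₀).trans (congrArg (t.1 ξ) (hex ξ α).exists.choose_spec)

end Groth.Agent.H14QCoh
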