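import Groth.Agent.H14QCoh.AffRel
import Groth.Agent.H14QCoh.Transfer
import Groth.Agent.H14QCoh.ExtendBasic

/-!
# Affine morphisms of stacks are representable by affine morphisms on objects
-/

set_option autoImplicit false
set_option linter.style.haveILetI false
set_option backward.isDefEq.respectTransparency false
set_option backward.isDefEq.respectTransparency.types false

universe u

open CategoryTheory CategoryTheory.Limits AlgebraicGeometry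

noncomputable section

namespace Groth.Agent.H14QCoh

variable {S : Scheme.{u}} {𝒳 𝒴 : AlgSt.Cat S} {π : 𝒳 ⥤ᵇ 𝒴} (hπ : AlgSt.RepByAlgSpWith AlgSp.IsAffineMor π)
  (hp : FibCat.IsFibGrpd 𝒳.p) (hq : FibCat.IsFibGrpd 𝒴.p)

/-- The universal object over an object. -/
def uz (θ : 𝒴.obj) : 𝒳.obj := (exists_univ π hπ hq θ).choose

/-- The universal arrow to an object. -/
def ue (θ : 𝒴.obj) : π.obj (uz hπ hq θ) ⟶ θ := (exists_univ π hπ hq θ).choose_spec.choose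

theorem existsUnique_ue (θ : 𝒴.obj) (ξ : 𝒳.obj) (α : π.obj ξ ⟶ θ) :
    ∃! φ : ξ ⟶ uz hπ hq θ, π.map φ ≫ ue hπ hq θ = α :=
  (exists_univ π hπ hq θ).choose_spec.choose_spec.2 ξ α

/-- The scheme morphism of an image arrow. -/
lemma bmap_img {z' z : 𝒳.obj} (k : z' ⟶ z) : StMod.bmap 𝒴 (π.map k) =
    eqToHom (StMod.sch_obj_eq π z') ≫ StMod.bmap 𝒳 k ≫ eqToHom (StMod.sch_obj_eq π z).symm := by
  rw [← cancel_mono (eqToHom (StMod.sch_obj_eq π z)), StMod.bmap_map_comm π k rfl]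
  simp

include hp in
/-- The universal arrows form cartesian squares. -/
theorem isPullback_ue {θ' θ : 𝒴.obj} (φ : θ' ⟶ θ) (c : uz hπ hq θ' ⟶ uz hπ hq θ)
    (hc : π.map c ≫ ue hπ hq θ = ue hπ hq θ' ≫ φ) :
    IsPullback (StMod.bmap 𝒴 (π.map c)) (StMod.bmap 𝒴 (ue hπ hq θ')) (StMod.bmap 𝒴 (ue hπ hq θ))
      (StMod.bmap 𝒴 φ) := by
  have w : StMod.bmap 𝒴 (π.map c) ≫ StMod.bmap 𝒴 (ue hπ hq θ) =
      StMod.bmap 𝒴 (ue hπ hq θ') ≫ StMod.bmap 𝒴 φ := by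
    rw [← StMod.bmap_comp, ← StMod.bmap_comp, hc]
  let z' := uz hπ hq θ'
  let z := uz hπ hq θ
  let l := eqToHom (StMod.sch_obj_eq π z)
  let l' := eqToHom (StMod.sch_obj_eq π z')
  have key : ∀ {w₀ : 𝒳.obj} (a : w₀ ⟶ z) (t : StMod.sch 𝒴 (π.obj w₀) ⟶ StMod.sch 𝒴 θ'),
      StMod.bmap 𝒴 (π.map a) ≫ StMod.bmap 𝒴 (ue hπ hq θ) = t ≫ StMod.bmap 𝒴 φ →
      ∃! k : w₀ ⟶ z', k ≫ c = a ∧ StMod.bmap 𝒴 (π.map k ≫ ue hπ hq θ') = t := by
    intro w₀ a t ht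
    obtain ⟨β, ⟨hβ, hβb⟩, hβu⟩ := existsUnique_factor hq φ (π.map a ≫ ue hπ hq θ) t
      (by rw [StMod.bmap_comp]; exact ht.symm)
    obtain ⟨k, hk, hku⟩ := existsUnique_ue hπ hq θ' w₀ β
    refine ⟨k, ⟨(existsUnique_ue hπ hq θ w₀ _).unique ?_ rfl, by rw [hk, hβb]⟩, fun k' hk' => hku k' (hβu _ ⟨?_, hk'.2⟩)⟩
    · rw [π.map_comp, Category.assoc, hc, ← Category.assoc, hk, hβ]
    · rw [Category.assoc, ← hc, ← Category.assoc, ← π.map_comp, hk'.1]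
  obtain ⟨w₀, a, e, ha⟩ := exists_lift hp z
    (pullback.fst (StMod.bmap 𝒴 (ue hπ hq θ)) (StMod.bmap 𝒴 φ) ≫ l)
  let P := pullback (StMod.bmap 𝒴 (ue hπ hq θ)) (StMod.bmap 𝒴 φ)
  let e₀ : StMod.sch 𝒴 (π.obj w₀) ≅ P := eqToIso (StMod.sch_obj_eq π w₀) ≪≫ e
  have ha' : StMod.bmap 𝒴 (π.map a) = e₀.hom ≫ pullback.fst _ _ := by
    rw [bmap_img, ha]
    simp [e₀, l, z, P]
  obtain ⟨k, ⟨hk, hkt⟩, -⟩ := key a (e₀.hom ≫ pullback.snd _ _) (by
    rw [ha', Category.assoc, Category.assoc, pullback.condition])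
  rw [StMod.bmap_comp] at hkt
  let Ψ : StMod.sch 𝒴 (π.obj z') ⟶ P := pullback.lift _ _ w
  let Θ : P ⟶ StMod.sch 𝒴 (π.obj z') := e₀.inv ≫ StMod.bmap 𝒴 (π.map k)
  have hka : StMod.bmap 𝒴 (π.map k) ≫ StMod.bmap 𝒴 (π.map c) = e₀.hom ≫ pullback.fst _ _ := by
    rw [← StMod.bmap_comp, ← π.map_comp, hk, ha']
  have h1 : Θ ≫ Ψ = 𝟙 P := by
    refine pullback.hom_ext ?_ ?_
    · simp [Θ, Ψ, hka]
    · simp [Θ, Ψ, hkt]
  have h2 : Ψ ≫ Θ = 𝟙 _ := by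
    obtain ⟨m, hm, hmb⟩ := exists_factor hp a c (eqToHom (StMod.sch_obj_eq π z').symm ≫ Ψ ≫ e.inv) (by
      rw [ha]
      simp only [Category.assoc, Iso.inv_hom_id_assoc]
      rw [pullback.lift_fst_assoc, bmap_img]
      simp [l, z, z'])
    have hm' : StMod.bmap 𝒴 (π.map m) = Ψ ≫ e₀.inv := by
      rw [bmap_img, hmb]
      simp [e₀]
    obtain ⟨k₀, -, hu⟩ := key c (StMod.bmap 𝒴 (ue hπ hq θ')) w
    have hid : m ≫ k = 𝟙 z' := (hu _ ⟨by rw [Category.assoc, hk, hm], by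
      rw [StMod.bmap_comp, π.map_comp, StMod.bmap_comp, Category.assoc, hkt, hm']
      simp [Ψ]⟩).trans (hu _ ⟨Category.id_comp c, by rw [π.map_id, Category.id_comp]⟩).symm
    simp only [Θ]
    rw [← Category.assoc, ← hm', ← StMod.bmap_comp, ← π.map_comp, hid, π.map_id, StMod.bmap_id]
  exact IsPullback.of_iso_pullback ⟨w⟩ ⟨Ψ, Θ, h2, h1⟩ (by simp [Ψ]) (by simp [Ψ])

include hp in
/-- The schemes of the universal arrows are affine over their targets. -/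
theorem isAffineHom_ue (θ : 𝒴.obj) : IsAffineHom (StMod.bmap 𝒴 (ue hπ hq θ)) := by
  refine ⟨fun U hU => ?_⟩
  obtain ⟨ζ, χ, hζ, hI, hR⟩ := exists_open_lift hq θ U hU
  obtain ⟨c, hc, -⟩ := existsUnique_ue hπ hq θ (uz hπ hq ζ) (ue hπ hq ζ ≫ χ)
  have sq := isPullback_ue hπ hp hq χ c hc
  haveI := hI
  haveI : IsOpenImmersion (StMod.bmap 𝒴 (π.map c)) :=
    MorphismProperty.of_isPullback (P := @IsOpenImmersion) sq.flip hI
  haveI : IsAffine (StMod.sch 𝒴 (π.obj (uz hπ hq ζ))) :=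
    (isAffine_obj_iff π _).2 ((exists_univ π hπ hq ζ).choose_spec.choose_spec.1 hζ)
  have hr : (StMod.bmap 𝒴 (π.map c)).opensRange = StMod.bmap 𝒴 (ue hπ hq θ) ⁻¹ᵁ U := by
    rw [← hR]
    have h := sq.isoPullback_hom_fst
    refine TopologicalSpace.Opens.ext ?_
    rw [Scheme.Hom.coe_opensRange, ← h, ← Scheme.Hom.coe_opensRange, Scheme.Hom.opensRange_comp_of_isIso,
      Scheme.Hom.opensRange_pullbackFst]
  rw [← hr]
  exact isAffineOpen_opensRange _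

include hp in
/-- An affine morphism of stacks is representable by affine morphisms on objects. -/
def affRepOf : AffRep π where
  z := uz hπ hq
  e := ue hπ hq
  isAffineHom := isAffineHom_ue hπ hp hq
  existsUnique θ ξ α := existsUnique_ue hπ hq θ ξ α
  cart _ _ φ c hc := isPullback_ue hπ hp hq φ c hc

end Groth.Agent.H14QCoh
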