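import Groth.Agent.H14QCoh.Descent

/-!
# Morphisms of quasi-coherent modules from an atlas
-/

set_option autoImplicit false
set_option linter.style.haveILetI false
set_option backward.isDefEq.respectTransparency false
set_option backward.isDefEq.respectTransparency.types false

universe w v u

open CategoryTheory CategoryTheory.Limits AlgebraicGeometry Opposite TopologicalSpace

noncomputable section

namespace Groth.Agent.H14QCoh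

variable {S : Scheme.{u}} {𝒳 : BasedCategory.{v, w} (Over S)}

/-- An affine presentation of `𝒳` by two objects. -/
structure Atlas (𝒳 : BasedCategory.{v, w} (Over S)) where
  x : 𝒳.obj
  y : 𝒳.obj
  a : y ⟶ x
  b : y ⟶ x
  affx : IsAffine (StMod.sch 𝒳 x)
  affy : IsAffine (StMod.sch 𝒳 y)
  cov : ∀ ξ : 𝒳.obj, IsAffine (StMod.sch 𝒳 ξ) → ∃ (ξ' : 𝒳.obj) (φ : ξ' ⟶ ξ), IsCov φ ∧ Nonempty (ξ' ⟶ x)
  cov₂ : ∀ (ξ : 𝒳.obj) (α β : ξ ⟶ x), IsAffine (StMod.sch 𝒳 ξ) →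
    ∃ (ξ' : 𝒳.obj) (φ : ξ' ⟶ ξ) (c : ξ' ⟶ y), IsCov φ ∧ φ ≫ α = c ≫ a ∧ φ ≫ β = c ≫ b

variable {F G : StMod.QCoh 𝒳} {x : 𝒳.obj} (hx : IsAffine (StMod.sch 𝒳 x)) (h : Sec F x →ₗ[Fn 𝒳 x] Sec G x)

/-- The inverse image of a linear map along an arrow of affine objects. -/
def pl {ζ : 𝒳.obj} (hζ : IsAffine (StMod.sch 𝒳 ζ)) (α : ζ ⟶ x) : Sec F ζ →ₗ[Fn 𝒳 ζ] Sec G ζ :=
  (exists_lin_lift (φ := α) hζ hx h).choose

lemma pl_mapTop {ζ : 𝒳.obj} (hζ : IsAffine (StMod.sch 𝒳 ζ)) (α : ζ ⟶ x) (e : Sec F x) :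
    pl hx h hζ α (F.obj.mapTop α e) = G.obj.mapTop α (h e) :=
  (exists_lin_lift (φ := α) hζ hx h).choose_spec e

lemma pl_comp {ζ' ζ : 𝒳.obj} (hζ : IsAffine (StMod.sch 𝒳 ζ)) (hζ' : IsAffine (StMod.sch 𝒳 ζ')) (c : ζ' ⟶ ζ)
    (α : ζ ⟶ x) (e : Sec F ζ) :
    pl hx h hζ' (c ≫ α) (F.obj.mapTop c e) = G.obj.mapTop c (pl hx h hζ α e) := by
  refine sec_induction (φ := α) hζ hx (P := fun e => pl hx h hζ' (c ≫ α) (F.obj.mapTop c e) =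
    G.obj.mapTop c (pl hx h hζ α e)) e ?_ (fun p q hp hq => ?_) (fun r z => ?_)
  · simp [StMod.Mod.mapTop_zero]
  · rw [F.obj.mapTop_add, map_add, map_add, G.obj.mapTop_add, hp, hq]
  · rw [F.obj.mapTop_smul, map_smul, map_smul, G.obj.mapTop_smul, pl_mapTop, ← F.obj.mapTop_comp,
      pl_mapTop, G.obj.mapTop_comp]

lemma pl_congr {ζ : 𝒳.obj} (hζ : IsAffine (StMod.sch 𝒳 ζ)) {α β : ζ ⟶ x} (e : α = β) :
    pl hx h hζ α = pl hx h hζ β := by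
  rw [e]

/-- A linear map on the atlas with equal inverse images extends to a morphism. -/
theorem exists_hom_of_atlas (hp : FibCat.IsFibGrpd 𝒳.p) (𝔸 : Atlas 𝒳)
    (h : Sec F 𝔸.x →ₗ[Fn 𝒳 𝔸.x] Sec G 𝔸.x)
    (hh : pl 𝔸.affx h 𝔸.affy 𝔸.a = pl 𝔸.affx h 𝔸.affy 𝔸.b) :
    ∃ u : F.obj ⟶ G.obj, ∀ e : Sec F 𝔸.x, (u.app 𝔸.x).app ⊤ e = h e := by
  classical
  let hx := 𝔸.affx
  have key : ∀ {ζ : 𝒳.obj} (hζ : IsAffine (StMod.sch 𝒳 ζ)) (α β : ζ ⟶ 𝔸.x) (e : Sec F ζ),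
      pl hx h hζ α e = pl hx h hζ β e := by
    intro ζ hζ α β e
    obtain ⟨ζ', φ, c, hφ, h1, h2⟩ := 𝔸.cov₂ ζ α β hζ
    haveI := hζ
    refine injective_mapTop_cov (F := G) hφ ?_
    rw [← pl_comp hx h hζ hφ.1 φ α, ← pl_comp hx h hζ hφ.1 φ β, pl_congr hx h hφ.1 h1, pl_congr hx h hφ.1 h2]
    refine LinearMap.congr_fun (lin_ext (φ := c) hφ.1 𝔸.affy fun z => ?_) _
    rw [pl_comp hx h 𝔸.affy hφ.1 c, pl_comp hx h 𝔸.affy hφ.1 c, hh]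
  let P : ∀ ξ : 𝒳.obj, Sec F ξ → Sec G ξ → Prop := fun ξ e t => ∀ (ζ : 𝒳.obj) (χ : ζ ⟶ ξ) (α : ζ ⟶ 𝔸.x)
    (hζ : IsAffine (StMod.sch 𝒳 ζ)), pl hx h hζ α (F.obj.mapTop χ e) = G.obj.mapTop χ t
  have ex : ∀ ξ, IsAffine (StMod.sch 𝒳 ξ) → ∀ e, ∃ t, P ξ e t ∧ ∀ t', P ξ e t' → t' = t := by
    intro ξ hξ e
    obtain ⟨ξ', φ, hφ, ⟨α⟩⟩ := 𝔸.cov ξ hξ
    haveI := hξ
    obtain ⟨t, ht⟩ := exists_of_equalizer (F := G) hp hφ (pl hx h hφ.1 α (F.obj.mapTop φ e)) (by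
      intro ζ a b hζ hab
      rw [← pl_comp hx h hφ.1 hζ a α, ← pl_comp hx h hφ.1 hζ b α, key hζ (a ≫ α) (b ≫ α), ← F.obj.mapTop_comp,
        ← F.obj.mapTop_comp, hab])
    refine ⟨t, fun ζ χ α' hζ => ?_, fun t' ht' => injective_mapTop_cov (F := G) hφ
      ((ht' ξ' φ α hφ.1).symm.trans ht.symm)⟩
    haveI := hζ
    obtain ⟨ζ', φ', χ', hφ', hw⟩ := exists_pullback_cov hp hφ χ
    refine injective_mapTop_cov (F := G) hφ' ?_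
    rw [← pl_comp hx h hζ hφ'.1 φ' α', ← F.obj.mapTop_comp, ← G.obj.mapTop_comp, hw, F.obj.mapTop_comp,
      key hφ'.1 (φ' ≫ α') (χ' ≫ α), pl_comp hx h hφ.1 hφ'.1 χ' α, G.obj.mapTop_comp, ht]
  choose T hT hT' using ex
  let f : AffFam F G := fun ξ hξ =>
    { toFun := T ξ hξ
      map_add' := fun p q => (hT' ξ hξ _ _ fun ζ χ α hζ => by
        rw [F.obj.mapTop_add, map_add, G.obj.mapTop_add, hT ξ hξ p ζ χ α hζ, hT ξ hξ q ζ χ α hζ]).symm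
      map_smul' := fun r p => (hT' ξ hξ _ _ fun ζ χ α hζ => by
        rw [RingHom.id_apply, F.obj.mapTop_smul, map_smul, G.obj.mapTop_smul, hT ξ hξ p ζ χ α hζ]).symm }
  obtain ⟨u, hu⟩ := exists_hom hp f (fun ξ' ξ φ hξ' hξ e => (hT' ξ' hξ' _ _ fun ζ χ α hζ => by
    rw [← F.obj.mapTop_comp, ← G.obj.mapTop_comp]
    exact hT ξ hξ e ζ (χ ≫ φ) α hζ).symm)
  refine ⟨u, fun e => (hu 𝔸.x hx e).trans ?_⟩
  have := hT 𝔸.x hx e 𝔸.x (𝟙 _) (𝟙 _) hx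
  rw [G.obj.mapTop_id] at this
  refine this.symm.trans ?_
  rw [pl_mapTop, G.obj.mapTop_id]

end Groth.Agent.H14QCoh
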