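import Groth.Agent.H14QCoh.Atlas
import Groth.Agent.H14QCoh.ExtendBasic

/-!
# Atlases with flat transition arrows and covered parallel pairs
-/

set_option autoImplicit false
set_option backward.isDefEq.respectTransparency false
set_option backward.isDefEq.respectTransparency.types false

universe w v u

open CategoryTheory CategoryTheory.Limits AlgebraicGeometry

noncomputable section

namespace Groth.Agent.H14QCoh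

variable {S : Scheme.{u}}

/-- An affine presentation by two objects with flat transition arrows, whose parallel pairs of arrows to the relations
are flat locally pairs from objects flat over the relations. -/
structure AtlasF (𝒳 : BasedCategory.{v, w} (Over S)) extends Atlas 𝒳 where
  flata : Flat (StMod.bmap 𝒳 a)
  flatb : Flat (StMod.bmap 𝒳 b)
  cov₃ : ∀ (ξ : AObj 𝒳) (c c' : ξ.1 ⟶ y), c ≫ a = c' ≫ a → c ≫ b = c' ≫ b → ∀ p : StMod.sch 𝒳 ξ.1,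
    ∃ (ξ' z : AObj 𝒳) (φ : ξ'.1 ⟶ ξ.1) (e : ξ'.1 ⟶ z.1) (d d' : z.1 ⟶ y), Flat (StMod.bmap 𝒳 φ) ∧
      (∃ q, StMod.bmap 𝒳 φ q = p) ∧ Flat (StMod.bmap 𝒳 d) ∧ φ ≫ c = e ≫ d ∧ φ ≫ c' = e ≫ d' ∧
      d ≫ a = d' ≫ a ∧ d ≫ b = d' ≫ b

variable {𝒳 : BasedCategory.{v, w} (Over S)}

/-- The object `x` of an atlas. -/
abbrev Atlas.X (𝔸 : Atlas 𝒳) : AObj 𝒳 := ⟨𝔸.x, 𝔸.affx⟩

/-- The object `y` of an atlas. -/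
abbrev Atlas.Y (𝔸 : Atlas 𝒳) : AObj 𝒳 := ⟨𝔸.y, 𝔸.affy⟩

lemma flat_comp {ζ' ζ ξ : 𝒳.obj} {c : ζ' ⟶ ζ} {d : ζ ⟶ ξ} (h : Flat (StMod.bmap 𝒳 c))
    (h' : Flat (StMod.bmap 𝒳 d)) : Flat (StMod.bmap 𝒳 (c ≫ d)) := by
  rw [StMod.bmap_comp]
  infer_instance

/-- An arrow to a fibre product. -/
lemma exists_lift_square (hp : FibCat.IsFibGrpd 𝒳.p) {ω ξ₁ ξ₂ ξ ζ : 𝒳.obj} {φ₁ : ξ₁ ⟶ ξ} {φ₂ : ξ₂ ⟶ ξ}
    {a : ζ ⟶ ξ₁} {b : ζ ⟶ ξ₂} (hw : a ≫ φ₁ = b ≫ φ₂)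
    (hpb : IsPullback (StMod.bmap 𝒳 a) (StMod.bmap 𝒳 b) (StMod.bmap 𝒳 φ₁) (StMod.bmap 𝒳 φ₂))
    (c₁ : ω ⟶ ξ₁) (c₂ : ω ⟶ ξ₂) (hc : c₁ ≫ φ₁ = c₂ ≫ φ₂) : ∃ e : ω ⟶ ζ, e ≫ a = c₁ ∧ e ≫ b = c₂ := by
  have h : StMod.bmap 𝒳 c₁ ≫ StMod.bmap 𝒳 φ₁ = StMod.bmap 𝒳 c₂ ≫ StMod.bmap 𝒳 φ₂ := by
    rw [← StMod.bmap_comp, ← StMod.bmap_comp, hc]
  obtain ⟨e, he, he'⟩ := exists_factor hp a c₁ (hpb.lift _ _ h) (hpb.lift_fst _ _ h)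
  refine ⟨e, he, hom_ext_bmap hp φ₂ ?_ ?_⟩
  · rw [Category.assoc, ← hw, reassoc_of% he, hc]
  · rw [StMod.bmap_comp, he', hpb.lift_snd _ _ h]

end Groth.Agent.H14QCoh
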