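import Groth.Prelude.Def_StMod
import Groth.Agent.H14Fib.Basic
import Groth.Agent.H8Props.RelFP.PullSections
import Groth.Agent.H17.KoszSh.AffHom

/-!
# Sections of quasi-coherent modules over the affine objects of a category fibred in groupoids
-/

set_option autoImplicit false
set_option linter.style.haveILetI false
set_option backward.isDefEq.respectTransparency false
set_option backward.isDefEq.respectTransparency.types false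

universe w v u

open CategoryTheory CategoryTheory.Limits CategoryTheory.Functor AlgebraicGeometry Opposite TopologicalSpace

noncomputable section

namespace Groth.Agent.H14QCoh

variable {S : Scheme.{u}} {𝒳 : BasedCategory.{v, w} (Over S)}

lemma bmap_hom {ξ' ξ : 𝒳.obj} (φ : ξ' ⟶ ξ) :
    StMod.bmap 𝒳 φ ≫ (𝒳.p.obj ξ).hom = (𝒳.p.obj ξ').hom :=
  Over.w (𝒳.p.map φ)

/-- Lift of a morphism to the scheme under an object. -/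
lemma exists_lift (h : FibCat.IsFibGrpd 𝒳.p) (ξ : 𝒳.obj) {V : Scheme.{u}} (f : V ⟶ StMod.sch 𝒳 ξ) :
    ∃ (ξ' : 𝒳.obj) (φ : ξ' ⟶ ξ) (e : StMod.sch 𝒳 ξ' ≅ V), StMod.bmap 𝒳 φ = e.hom ≫ f := by
  let f' : Over.mk (f ≫ (𝒳.p.obj ξ).hom) ⟶ 𝒳.p.obj ξ := Over.homMk f rfl
  obtain ⟨ξ', φ, hφ⟩ := h.exists_lift f'
  have hd : 𝒳.p.obj ξ' = _ := IsHomLift.domain_eq 𝒳.p f' φ
  refine ⟨ξ', φ, (Over.forget S).mapIso (eqToIso hd), ?_⟩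
  have h1 := congrArg (fun m => m.left) (IsHomLift.fac' 𝒳.p f' φ)
  simp only [Over.comp_left, Over.eqToHom_left] at h1
  refine h1.trans ?_
  simp [f', StMod.sch]

/-- Factorisation through an arrow, prescribed under the schemes. -/
lemma existsUnique_factor (h : FibCat.IsFibGrpd 𝒳.p) {ζ ξ' ξ : 𝒳.obj} (φ : ξ' ⟶ ξ) (ψ : ζ ⟶ ξ)
    (g : StMod.sch 𝒳 ζ ⟶ StMod.sch 𝒳 ξ') (hg : g ≫ StMod.bmap 𝒳 φ = StMod.bmap 𝒳 ψ) :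
    ∃! c : ζ ⟶ ξ', c ≫ φ = ψ ∧ StMod.bmap 𝒳 c = g := by
  have hw : g ≫ (𝒳.p.obj ξ').hom = (𝒳.p.obj ζ).hom := by
    rw [← bmap_hom φ, ← Category.assoc, hg]
    exact bmap_hom ψ
  let g' : 𝒳.p.obj ζ ⟶ 𝒳.p.obj ξ' := Over.homMk g hw
  have hψ : 𝒳.p.map ψ = g' ≫ 𝒳.p.map φ := Over.OverMorphism.ext hg.symm
  have := h.isStronglyCartesian φ
  haveI : 𝒳.p.IsHomLift (g' ≫ 𝒳.p.map φ) ψ := H14Fib.homLift_congr hψ ψ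
  refine ⟨IsStronglyCartesian.map 𝒳.p (𝒳.p.map φ) φ (g := g') rfl ψ,
    ⟨IsStronglyCartesian.fac _ _ _ _ _, ?_⟩, ?_⟩
  · have := IsHomLift.fac' 𝒳.p g' (IsStronglyCartesian.map 𝒳.p (𝒳.p.map φ) φ (g := g') rfl ψ)
    simpa [g'] using congrArg (fun m => m.left) this
  · rintro c ⟨hc, hc'⟩
    have e : 𝒳.p.map c = g' := Over.OverMorphism.ext hc'
    haveI : 𝒳.p.IsHomLift g' c := H14Fib.homLift_congr e c
    exact IsStronglyCartesian.map_uniq 𝒳.p (𝒳.p.map φ) φ rfl ψ c hc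

lemma exists_factor (h : FibCat.IsFibGrpd 𝒳.p) {ζ ξ' ξ : 𝒳.obj} (φ : ξ' ⟶ ξ) (ψ : ζ ⟶ ξ)
    (g : StMod.sch 𝒳 ζ ⟶ StMod.sch 𝒳 ξ') (hg : g ≫ StMod.bmap 𝒳 φ = StMod.bmap 𝒳 ψ) :
    ∃ c : ζ ⟶ ξ', c ≫ φ = ψ ∧ StMod.bmap 𝒳 c = g :=
  (existsUnique_factor h φ ψ g hg).exists

lemma hom_ext_bmap (h : FibCat.IsFibGrpd 𝒳.p) {ζ ξ' ξ : 𝒳.obj} (φ : ξ' ⟶ ξ) {c c' : ζ ⟶ ξ'}
    (h₁ : c ≫ φ = c' ≫ φ) (h₂ : StMod.bmap 𝒳 c = StMod.bmap 𝒳 c') : c = c' :=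
  (existsUnique_factor h φ (c ≫ φ) (StMod.bmap 𝒳 c) (StMod.bmap_comp c φ).symm).unique ⟨rfl, rfl⟩ ⟨h₁.symm, h₂.symm⟩

/-- Fibre product of two arrows to one object over a cartesian square of schemes. -/
lemma exists_square (h : FibCat.IsFibGrpd 𝒳.p) {ξ₁ ξ₂ ξ : 𝒳.obj} (φ₁ : ξ₁ ⟶ ξ) (φ₂ : ξ₂ ⟶ ξ) :
    ∃ (ζ : 𝒳.obj) (a : ζ ⟶ ξ₁) (b : ζ ⟶ ξ₂), a ≫ φ₁ = b ≫ φ₂ ∧
      IsPullback (StMod.bmap 𝒳 a) (StMod.bmap 𝒳 b) (StMod.bmap 𝒳 φ₁) (StMod.bmap 𝒳 φ₂) := by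
  obtain ⟨ζ, a, e, ha⟩ := exists_lift h ξ₁ (pullback.fst (StMod.bmap 𝒳 φ₁) (StMod.bmap 𝒳 φ₂))
  obtain ⟨b, hb, hb'⟩ := exists_factor h φ₂ (a ≫ φ₁) (e.hom ≫ pullback.snd _ _) (by
    rw [StMod.bmap_comp, ha, Category.assoc, Category.assoc, pullback.condition])
  refine ⟨ζ, a, b, hb.symm, ?_⟩
  rw [ha, hb']
  exact IsPullback.of_iso (IsPullback.of_hasPullback _ _) e.symm (Iso.refl _) (Iso.refl _) (Iso.refl _)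
    (by simp) (by simp) (by simp) (by simp)

/-- An affine cover of an object by an object over it. -/
def IsCov {ξ' ξ : 𝒳.obj} (φ : ξ' ⟶ ξ) : Prop :=
  IsAffine (StMod.sch 𝒳 ξ') ∧ Flat (StMod.bmap 𝒳 φ) ∧ Surjective (StMod.bmap 𝒳 φ)

lemma IsCov.comp {ξ'' ξ' ξ : 𝒳.obj} {ψ : ξ'' ⟶ ξ'} {φ : ξ' ⟶ ξ} (hψ : IsCov ψ) (hφ : IsCov φ) : IsCov (ψ ≫ φ) := by
  obtain ⟨a, b, c⟩ := hψ
  obtain ⟨a', b', c'⟩ := hφ
  refine ⟨a, ?_, ?_⟩ <;> rw [StMod.bmap_comp] <;> infer_instance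

lemma isCov_id (ξ : 𝒳.obj) [IsAffine (StMod.sch 𝒳 ξ)] : IsCov (𝟙 ξ) := by
  refine ⟨inferInstance, ?_, ?_⟩ <;> rw [StMod.bmap_id] <;> infer_instance

/-- Pullback of a cover along an arrow of affine objects. -/
lemma exists_pullback_cov (h : FibCat.IsFibGrpd 𝒳.p) {ξ' ξ η : 𝒳.obj} [IsAffine (StMod.sch 𝒳 ξ)]
    [IsAffine (StMod.sch 𝒳 η)] {φ : ξ' ⟶ ξ} (hφ : IsCov φ) (ψ : η ⟶ ξ) :
    ∃ (η' : 𝒳.obj) (φ' : η' ⟶ η) (ψ' : η' ⟶ ξ'), IsCov φ' ∧ φ' ≫ ψ = ψ' ≫ φ := by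
  obtain ⟨ha, hf, hs⟩ := hφ
  obtain ⟨η', a, b, hw, hp⟩ := exists_square h ψ φ
  refine ⟨η', a, b, ⟨?_, ?_, ?_⟩, hw⟩
  · exact IsAffine.of_isIso hp.isoPullback.hom
  · exact MorphismProperty.of_isPullback (P := @Flat) hp.flip hf
  · exact MorphismProperty.of_isPullback (P := @Surjective) hp.flip hs

end Groth.Agent.H14QCoh
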