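import Groth.Agent.H14QCoh.Basic
import Groth.Prelude.Def_StMod6
import Groth.Agent.H14AlgSt.QC
import Groth.Agent.H14AlgSt.LocQ2
import Groth.Agent.H14AlgSt.LargestSmooth
import Groth.Agent.H12Pic.InvDesc.Cover

/-!
# Objects over affine schemes lift to an atlas after an affine faithfully flat cover
-/

set_option autoImplicit false
set_option linter.style.haveILetI false
set_option backward.isDefEq.respectTransparency false
set_option backward.isDefEq.respectTransparency.types false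

universe u

open CategoryTheory CategoryTheory.Limits AlgebraicGeometry

noncomputable section

namespace Groth.Agent.H14QCoh

open H14Fib H14AlgSt H14Stk

variable {S : Scheme.{u}} {𝒵 : AlgSt.Cat S} {U V : Over S}

/-- An atlas of the fibre product of two charts together with the comparison isomorphism. -/
theorem exists_fp_cover (h𝒵 : FibCat.IsFibGrpd 𝒵.p) {x : FibCat.overCat U ⥤ᵇ 𝒵}
    (hx : AlgSt.RepByAlgSpWith (AlgSp.LocP @Smooth) x)
    (hxs : AlgSt.RepByAlgSpWith AlgSp.IsSurjectiveMor x) (z : FibCat.overCat V ⥤ᵇ 𝒵) :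
    ∃ (A : Over S) (c : A ⟶ V) (v : A ⟶ U), Flat c.left ∧ LocallyOfFinitePresentation c.left ∧
      Surjective c.left ∧
      Nonempty (BasedFunctor.comp (AlgSt.overMap c) z ≅ BasedFunctor.comp (AlgSt.overMap v) x) := by
  have h1 := repWith_locP_mono smooth_le_flat hx
  have h2 := repWith_locP_mono smooth_le_lfp hx
  obtain ⟨F, e, he, hσf⟩ := h1 V z
  let q := BasedFunctor.comp e (FibCat.fpFst z x)
  let σ := AlgSt.spMapOfOver q
  obtain ⟨k⟩ := spMapOfOver_eq q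
  have hσl : AlgSp.LocP @LocallyOfFinitePresentation σ :=
    prop_of_repData (sourceIsoInv_locP _) (h2 V z) he k
  obtain ⟨A, p, hpe, hps⟩ := F.property.atlas
  obtain ⟨c, hc⟩ := (AlgSp.yon S).map_surjective (p ≫ σ)
  have key : ∀ {Q : MorphismProperty Scheme.{u}}, H12AlgSp.EtLocal Q → AlgSp.LocP Q σ → Q c.left :=
    fun {Q} hQ h => AlgSp.locP_yon_map (hc ▸ H12AlgSp.locP_comp hQ (AlgSp.IsAlgSpace.yon_obj A)
      F.property (AlgSp.IsAlgSpace.yon_obj V) (H12AlgSp.locP_mono hQ.etale_le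
        (H12AlgSp.locP_of_repWith H12AlgSp.etLocal_etale hpe)) h)
  let a := BasedFunctor.comp (BasedFunctor.comp (AlgSt.ofOverCat A) (AlgSt.ofSpMap p)) e
  have hU := (isFibSetoid_of_rep (repByAlgSp_overCat U)).1
  have hV := (isFibSetoid_of_rep (repByAlgSp_overCat V)).1
  have hF := fp_fibGrpd (F := z) (G := x) hV hU h𝒵
  have ha := surjective_of_repWith hF ((repWith_comp_equiv_iff he).2
    ((repWith_equiv_comp_iff (ofOverCat_isEquivOver A)).1 (repWith_surjective_of_repWith p hps)))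
  let m : BasedFunctor.comp (BasedFunctor.comp (AlgSt.ofOverCat A) (AlgSt.ofSpMap (p ≫ σ)))
      (AlgSt.toOverCat V) ≅ AlgSt.overMap c := by
    rw [← hc]
    exact mkIso (fun s => Iso.refl _)
      (fun {_ _} φ => (Category.comp_id _).trans ((Category.id_comp _).trans
        (Over.OverMorphism.ext rfl)).symm)
      (fun s => IsHomLift.id rfl)
  let i₁ : BasedFunctor.comp a (FibCat.fpFst z x) ≅ AlgSt.overMap c :=
    (Stk.restr (BasedFunctor.comp (AlgSt.ofOverCat A) (AlgSt.ofSpMap p)) _).mapIso k ≪≫ m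
  obtain ⟨v, ⟨i₂⟩⟩ := exists_overMap_iso (BasedFunctor.comp a (FibCat.fpSnd z x))
  refine ⟨A, c, v, key H12AlgSp.etLocal_flat hσf, key H12AlgSp.etLocal_lfp hσl, ⟨fun t => ?_⟩,
    ⟨(H14Stk.post _ z).mapIso i₁.symm ≪≫ (Stk.restr a _).mapIso (FibCat.fpIso z x) ≪≫
      (H14Stk.post _ x).mapIso i₂⟩⟩
  obtain ⟨b, hb⟩ := ofChart_surjective h𝒵 hxs (AlgSt.Points.ofChart z t)
  rw [ofChart_eq_map x, ofChart_eq_map z] at hb
  obtain ⟨w, hw1, -⟩ := exists_points_fp hV hU h𝒵 hb.symm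
  obtain ⟨s, rfl⟩ := ha w
  exact ⟨chartPoint s, by rw [← chartPoint_overMap, ← points_map_iso i₁, points_map_comp, hw1, chartPoint_ofChart]⟩

/-- An object over an affine scheme maps to the atlas after an affine faithfully flat cover. -/
theorem exists_cov_lift (h𝒵 : FibCat.IsFibGrpd 𝒵.p) {x : FibCat.overCat U ⥤ᵇ 𝒵}
    (hx : AlgSt.RepByAlgSpWith (AlgSp.LocP @Smooth) x)
    (hxs : AlgSt.RepByAlgSpWith AlgSp.IsSurjectiveMor x) (ζ : 𝒵.obj) (hζ : IsAffine (StMod.sch 𝒵 ζ)) :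
    ∃ (ζ' : 𝒵.obj) (φ : ζ' ⟶ ζ), IsCov φ ∧ Nonempty (ζ' ⟶ x.obj (topObj U)) := by
  have := isFibered_of_fibGrpd h𝒵
  obtain ⟨z, ez, -, hez⟩ := exists_fromOver (𝒳 := 𝒵) (x := ζ) rfl
  obtain ⟨A, c, v, hcf, hcl, hcs, ⟨i⟩⟩ := exists_fp_cover h𝒵 hx hxs z
  haveI : IsAffine (𝒵.p.obj ζ).left := hζ
  obtain ⟨W, hW, g, w, hgf, hgs, hgw⟩ := H12Pic.InvDesc.exists_affine_of_isOpenMap c.left c.left.isOpenMap
    ⊤ (isAffineOpen_top _)
  let k : Over.mk (w ≫ A.hom) ⟶ A := Over.homMk w rfl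
  let s : (FibCat.overCat A).obj := Over.mk k
  let φ : z.obj ((AlgSt.overMap c).obj s) ⟶ ζ := z.map (toTop _) ≫ ez.hom
  refine ⟨z.obj ((AlgSt.overMap c).obj s), φ, ?_, ⟨(appIso i s).hom ≫ x.map (toTop _)⟩⟩
  let e0 : StMod.sch 𝒵 (z.obj ((AlgSt.overMap c).obj s)) = W :=
    congrArg (fun t => t.left) (z.w_obj ((AlgSt.overMap c).obj s))
  have hez' : StMod.bmap 𝒵 ez.hom = eqToHom (congrArg (fun t => t.left) (z.w_obj (topObj (𝒵.p.obj ζ)))) := by
    have := congrArg (fun m => m.left) (IsHomLift.fac' 𝒵.p (𝟙 (𝒵.p.obj ζ)) ez.hom)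
    refine this.trans ?_
    simp

  have hb : StMod.bmap 𝒵 φ = eqToHom e0 ≫ g ≫ Scheme.Opens.ι _ := by
    have h1 := StMod.bmap_map_comm z (toTop ((AlgSt.overMap c).obj s)) rfl
    rw [show φ = z.map (toTop _) ≫ ez.hom from rfl, StMod.bmap_comp, hez']
    refine h1.trans ?_
    rw [hgw]
    rfl
  haveI : Surjective (Scheme.Opens.ι (⊤ : (𝒵.p.obj ζ).left.Opens)) := ⟨fun p => ⟨⟨p, trivial⟩, rfl⟩⟩
  refine ⟨e0 ▸ hW, ?_, ?_⟩ <;> rw [hb] <;> infer_instance

end Groth.Agent.H14QCoh
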