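import Groth.Agent.H12AlgSp.Charts
import Groth.Prelude.Def_AlgSpEt

/-!
# Affine etale charts of the base change of an etale chart along a flat surjective morphism
-/

set_option autoImplicit false
set_option backward.isDefEq.respectTransparency false
set_option backward.isDefEq.respectTransparency.types false

universe u

open CategoryTheory CategoryTheory.Limits AlgebraicGeometry Opposite AlgSp

noncomputable section

namespace Groth.Agent.H14QCoh

open H12AlgSp

variable {S : Scheme.{u}}

/-- Base changes of surjective morphisms are surjective on points. -/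
theorem surjective_map_fst {X Y Z P : Sp S} {f : X ⟶ Y} {g : Z ⟶ Y} (hg : Function.Surjective (Points.map g))
    {fst : P ⟶ X} {snd : P ⟶ Z} (sq : IsPullback fst snd f g) : Function.Surjective (Points.map fst) := by
  intro x
  induction x using Points.ind with | h p =>
  obtain ⟨z, hz⟩ := hg (Points.map f (Points.mk p))
  induction z using Points.ind with | h q =>
  rw [Points.map_mk, Points.map_mk, Points.mk_eq_mk_iff, rel_iff_toHom] at hz
  obtain ⟨Ω, _, w, i, j, hij⟩ := hz
  simp only [FieldPt.toHom_map] at hij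
  obtain ⟨i', hi'⟩ : ∃ i' : Over.mk w ⟶ q.pt, i' = i := ⟨i, rfl⟩
  obtain ⟨j', hj'⟩ : ∃ j' : Over.mk w ⟶ p.pt, j' = j := ⟨j, rfl⟩
  subst hi' hj'
  obtain ⟨σ, hσ₁, hσ₂⟩ := sq.exists_lift ((yon S).map j' ≫ p.toHom) ((yon S).map i' ≫ q.toHom)
    (by simp only [Category.assoc]; exact hij.symm)
  refine ⟨Points.mk (fieldPtOfHom σ), ?_⟩
  rw [Points.map_mk, Points.mk_eq_mk_iff, rel_iff_toHom]
  refine ⟨Ω, inferInstance, w, 𝟙 _, j', ?_⟩
  simp only [FieldPt.toHom_map, toHom_fieldPtOfHom]
  erw [(yon S).map_id, Category.id_comp]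
  exact hσ₁

/-- Affine etale charts of the base change of an etale chart along a flat surjective morphism form a jointly surjective
flat family. -/
theorem exists_affine_etale_family {M M' : Sp S} (hM : IsAlgSpace M) (hM' : IsAlgSpace M') (g : M' ⟶ M)
    (hgf : LocP @Flat g) (hgs : IsSurjectiveMor g) (E : EtOver M) :
    ∃ (κ : Type u) (E' : κ → EtOver M') (c : ∀ k, (E' k).obj.left ⟶ E.obj.left),
      (∀ k, IsAffine (E' k).obj.left.left) ∧ (∀ k, Flat (c k).left) ∧
      (∀ k, (E' k).obj.hom ≫ g = (yon S).map (c k) ≫ E.obj.hom) ∧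
      ∀ e : E.obj.left.left, ∃ k v, (c k).left v = e := by
  have hQ : IsAlgSpace (pullback E.obj.hom g) :=
    isAlgSpace_pullback hM.diag (IsAlgSpace.yon_obj _) hM' E.obj.hom g
  have hsnd : RepWith @Etale (pullback.snd E.obj.hom g) :=
    repWith_of_isPullback (IsPullback.of_hasPullback _ _) E.property
  obtain ⟨κ, T, a, hT, ha, -, hs⟩ := exists_affine_family_over hQ
  choose c hc using fun k => (yon S).map_surjective (a k ≫ pullback.fst E.obj.hom g)
  let E' : κ → EtOver M' := fun k => EtOver.mk (a k ≫ pullback.snd E.obj.hom g) (repWith_comp (ha k) hsnd)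
  have hw : ∀ k, (E' k).obj.hom ≫ g = (yon S).map (c k) ≫ E.obj.hom := fun k => by
    change (a k ≫ pullback.snd E.obj.hom g) ≫ g = _
    rw [hc, Category.assoc, Category.assoc, pullback.condition]
  refine ⟨κ, E', c, hT, fun k => hgf (E' k).obj.hom E.obj.hom (c k) (E' k).property E.property (hw k), hw,
    fun e => ?_⟩
  obtain ⟨x, hx⟩ := surjective_map_fst hgs (IsPullback.of_hasPullback E.obj.hom g) (Points.ofScheme _ e)
  obtain ⟨k, v, rfl⟩ := hs x
  refine ⟨k, v, (Points.schemeEquiv E.obj.left).injective ?_⟩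
  refine Eq.trans ?_ hx
  rw [Points.map_ofPt, ← hc k]
  exact (congrArg (fun m => Points.ofPt m v) (Category.comp_id ((yon S).map (c k)))).symm.trans
    (ofPt_map (c k) (𝟙 _) v) |>.symm

end Groth.Agent.H14QCoh
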