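import Groth.Agent.H14QCoh.SpSect
import Groth.Agent.H14QCoh.SpCover
import Groth.Agent.H14AlgSt.Bootstrap

/-!
# Cohomological affineness and good moduli descend along flat surjective morphisms
-/

set_option autoImplicit false
set_option linter.style.haveILetI false
set_option backward.isDefEq.respectTransparency false
set_option backward.isDefEq.respectTransparency.types false

universe u

open CategoryTheory CategoryTheory.Limits AlgebraicGeometry Opposite TopologicalSpace

noncomputable section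

namespace Groth.Agent.H14QCoh

variable {S : Scheme.{u}} {𝒳 : AlgSt.Cat S} {M M' : AlgSp.Sp S} (g : M' ⟶ M) (π : 𝒳 ⥤ᵇ AlgSt.ofSp M)

/-- The arrow of a morphism of etale charts. -/
def etaArrow {E : AlgSp.EtOver M} {E' : AlgSp.EtOver M'} (c : E'.obj.left ⟶ E.obj.left)
    (hc : E'.obj.hom ≫ g = (AlgSp.yon S).map c ≫ E.obj.hom) :
    (AlgSt.ofSpMap g).obj (StMod.etaOf E') ⟶ StMod.etaOf E :=
  ⟨c, by
    change M.obj.map c.op ((AlgSp.J S).uliftYonedaEquiv E.obj.hom) =
      g.hom.app (op E'.obj.left) ((AlgSp.J S).uliftYonedaEquiv E'.obj.hom)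
    rw [GrothendieckTopology.uliftYonedaEquiv_naturality]
    exact (congrArg (AlgSp.J S).uliftYonedaEquiv hc).symm.trans
      ((AlgSp.J S).uliftYonedaEquiv_comp E'.obj.hom g)⟩

variable (h𝒳 : AlgSt.IsAlgStack Scheme.fppfPrecoverage 𝒳) (hM : AlgSp.IsAlgSpace M) (hM' : AlgSp.IsAlgSpace M')
  (hqc : AlgSt.IsQuasiCompactMor Scheme.fppfPrecoverage π) (hqs : AlgSt.IsQuasiSeparatedMor π)
  (hgf : AlgSp.LocP @Flat g) (hgs : AlgSp.IsSurjectiveMor g)

include h𝒳 hM hM' hqc hqs hgf hgs in
/-- Cohomological affineness descends along flat surjective morphisms of the target. -/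
theorem isCohAffine_of_fpFst (h : StMod.IsCohAffine (FibCat.fpFst (AlgSt.ofSpMap g) π)) : StMod.IsCohAffine π := by
  intro F G u hu E hE
  obtain ⟨κ, E', c, haff, hfl, hw, hs⟩ := exists_affine_etale_family hM hM' g hgf hgs E
  let θ : κ → (AlgSt.ofSp M).obj := fun k => (AlgSt.ofSpMap g).obj (StMod.etaOf (E' k))
  haveI : ∀ k, IsAffine (StMod.sch (AlgSt.ofSp M) (θ k)) := haff
  refine surjective_relSectMap_of_family π h𝒳 (H14AlgSt.isAlgStack_ofSp ⟨M, hM⟩) hqc hqs u hE
    (fun k => etaArrow g (c k) (hw k)) hfl hs fun k => ?_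
  exact surjective_relSectMap_of_baseChange g π (StMod.etaOf (E' k)) u
    (h _ (isSurj_comapMap _ u hu) (E' k) (haff k))

include h𝒳 hM hM' hqc hqs hgf hgs in
/-- On affine etale charts bijectivity of the unit descends along flat surjective morphisms of the target. -/
theorem bijective_unitSect_of_fpFst (h : StMod.UnitIsIso (FibCat.fpFst (AlgSt.ofSpMap g) π)) (E : AlgSp.EtOver M)
    (hE : IsAffine E.obj.left.left) : Function.Bijective (StMod.unitSect π (StMod.etaOf E)) := by
  obtain ⟨κ, E', c, haff, hfl, hw, hs⟩ := exists_affine_etale_family hM hM' g hgf hgs E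
  let θ : κ → (AlgSt.ofSp M).obj := fun k => (AlgSt.ofSpMap g).obj (StMod.etaOf (E' k))
  haveI : ∀ k, IsAffine (StMod.sch (AlgSt.ofSp M) (θ k)) := haff
  exact bijective_unitSect_of_family π h𝒳 (H14AlgSt.isAlgStack_ofSp ⟨M, hM⟩) hqc hqs hE
    (fun k => etaArrow g (c k) (hw k)) hfl hs fun k =>
      bijective_unitSect_of_baseChange g π (StMod.etaOf (E' k)) (h (E' k))

end Groth.Agent.H14QCoh
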