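import Groth.Agent.H14QCoh.Locality
import Groth.Agent.H14QCoh.Transfer
import Groth.Agent.H14Fib.Swap

/-!
# From base changes to charts to the categories over objects
-/

set_option autoImplicit false
set_option linter.style.haveILetI false
set_option backward.isDefEq.respectTransparency false
set_option backward.isDefEq.respectTransparency.types false

universe t u

open CategoryTheory CategoryTheory.Limits AlgebraicGeometry

noncomputable section

namespace Groth.Agent.H14QCoh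

open H14Fib H14AlgSt H14Stk

variable {S : Scheme.{u}}

theorem isGenFam_congr {𝒵 : AlgSt.Cat S} {ι : Type t} {E E' : ι → StMod.QCoh 𝒵} (I : ∀ j, (E' j).obj ≅ (E j).obj)
    (h : StMod.IsGenFam E) : StMod.IsGenFam E' := by
  rw [StMod.isGenFam_iff] at h ⊢
  intro M N u hu
  exact h u fun j φ => (cancel_epi (I j).hom).1 (by rw [← Category.assoc, hu j, comp_zero])

variable {𝒳 𝒴 : AlgSt.Cat S} (f : 𝒳 ⥤ᵇ 𝒴) {T : Over S} (y : FibCat.overCat T ⥤ᵇ 𝒴)

/-- The arrow to the value at the top of a point of the fibre product with a chart. -/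
def topArrow (ω : (FibCat.fp f y).obj) : f.obj ω.obj.fst ⟶ y.obj (topObj T) :=
  ω.obj.iso.hom ≫ y.map (toTop ω.obj.snd)

lemma topArrow_nat {ω' ω : (FibCat.fp f y).obj} (m : ω' ⟶ ω) :
    f.map m.hom.fst ≫ topArrow f y ω = topArrow f y ω' := by
  have hw : f.map m.hom.fst ≫ ω.obj.iso.hom = ω'.obj.iso.hom ≫ y.map m.hom.snd := m.hom.w
  rw [topArrow, topArrow, reassoc_of% hw, ← y.map_comp, toTop_comp]

lemma fp_ext_fst {ω' ω : (FibCat.fp f y).obj} {m n : ω' ⟶ ω} (h : m.hom.fst = n.hom.fst) : m = n := by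
  refine fp_hom_ext h (Over.OverMorphism.ext ?_)
  have key := fun k : ω' ⟶ ω => Functor.congr_hom (FibCat.fpSnd f y).w k
  have hm := key m
  have hn := key n
  change m.hom.snd.left = _ ≫ 𝒳.p.map m.hom.fst ≫ _ at hm
  change n.hom.snd.left = _ ≫ 𝒳.p.map n.hom.fst ≫ _ at hn
  rw [hm, hn, h]

theorem fp_full (h𝒴 : FibCat.IsFibGrpd 𝒴.p) {ω' ω : (FibCat.fp f y).obj} (b : ω'.obj.fst ⟶ ω.obj.fst)
    (hb : f.map b ≫ topArrow f y ω = topArrow f y ω') : ∃ m : ω' ⟶ ω, m.hom.fst = b := by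
  have hB := fromFp_isEquivOver f (y.obj (topObj T)) y (Iso.refl _) (IsHomLift.id (y.w_obj _)) h𝒴
  obtain ⟨⟨_, _⟩, -⟩ := (isEquivOver_iff _).1 hB
  let σ := fpSwap f y
  obtain ⟨k, hk⟩ := (fromFp f (y.obj (topObj T)) y (Iso.refl _)).toFunctor.map_surjective
    (X := σ.obj ω') (Y := σ.obj ω) (CostructuredArrow.homMk b (by
      change f.map b ≫ ω.obj.iso.hom ≫ y.map (toTop ω.obj.snd) ≫ 𝟙 _ = ω'.obj.iso.hom ≫ y.map (toTop _) ≫ 𝟙 _
      simpa [topArrow] using hb))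
  have hk' : k.hom.snd = b := congrArg CommaMorphism.left hk
  refine ⟨fpHom b k.hom.fst ?_, rfl⟩
  have hw : y.map k.hom.fst ≫ ω.obj.iso.inv = ω'.obj.iso.inv ≫ f.map k.hom.snd := k.hom.w
  rw [hk'] at hw
  rw [Iso.eq_inv_comp, ← Category.assoc, Iso.comp_inv_eq] at hw
  exact hw.symm

variable (h𝒴 : FibCat.IsFibGrpd 𝒴.p)

theorem exists_fp_obj (h𝒴 : FibCat.IsFibGrpd 𝒴.p) (x : (StMod.fibCat f (y.obj (topObj T))).obj) :
    ∃ (s : (FibCat.overCat T).obj) (χ : f.obj x.left ≅ y.obj s),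
      𝒴.p.IsHomLift (𝟙 (𝒳.p.obj x.left)) χ.hom ∧ χ.hom ≫ y.map (toTop s) = x.hom := by
  obtain ⟨s, χ, es, hχ, hχe⟩ := exists_vertical h𝒴 y x.hom
  refine ⟨s, χ.symm, ?_, by simp [← hχe]⟩
  have e : s.left = 𝒳.p.obj x.left := es.trans (f.w_obj _)
  rw [← e]
  exact IsHomLift.lift_id_inv 𝒴.p s.left χ

/-- The point of the fibre product with a chart of an object over its top. -/
def toFpObj (x : (StMod.fibCat f (y.obj (topObj T))).obj) : (FibCat.fp f y).obj :=
  ⟨{ fst := x.left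
     snd := (exists_fp_obj f y h𝒴 x).choose
     iso := (exists_fp_obj f y h𝒴 x).choose_spec.choose },
    (exists_fp_obj f y h𝒴 x).choose_spec.choose_spec.1⟩

lemma topArrow_toFpObj (x : (StMod.fibCat f (y.obj (topObj T))).obj) :
    topArrow f y (toFpObj f y h𝒴 x) = x.hom :=
  (exists_fp_obj f y h𝒴 x).choose_spec.choose_spec.2

lemma toFp_map_exists {x' x : (StMod.fibCat f (y.obj (topObj T))).obj} (m : x' ⟶ x) :
    ∃ k : toFpObj f y h𝒴 x' ⟶ toFpObj f y h𝒴 x, k.hom.fst = m.left :=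
  fp_full f y h𝒴 (ω' := toFpObj f y h𝒴 x') (ω := toFpObj f y h𝒴 x) m.left
    (by rw [topArrow_toFpObj, topArrow_toFpObj]; exact CostructuredArrow.w m)

/-- The category over the top of a chart mapped to the fibre product with the chart. -/
def toFp : StMod.fibCat f (y.obj (topObj T)) ⥤ᵇ FibCat.fp f y where
  toFunctor :=
    { obj := toFpObj f y h𝒴
      map := fun m => fpHom m.left (toFp_map_exists f y h𝒴 m).choose.hom.snd (by
        have hw := (toFp_map_exists f y h𝒴 m).choose.hom.w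
        rw [(toFp_map_exists f y h𝒴 m).choose_spec] at hw
        exact hw)
      map_id := fun _ => fp_ext_fst f y rfl
      map_comp := fun _ _ => fp_ext_fst f y rfl }
  w := rfl

lemma idArrow (ω : (FibCat.fp f y).obj) : f.map (𝟙 ω.obj.fst) ≫ topArrow f y ω =
    topArrow f y (toFpObj f y h𝒴 (CostructuredArrow.mk (topArrow f y ω))) :=
  ((congrArg (· ≫ topArrow f y ω) (f.map_id _)).trans (Category.id_comp _)).trans
    (topArrow_toFpObj f y h𝒴 (CostructuredArrow.mk (topArrow f y ω))).symm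

/-- The comparison with the fibre product with a chart is representable by affine morphisms. -/
def toFpAffRep : AffRep (toFp f y h𝒴) where
  z ω := CostructuredArrow.mk (topArrow f y ω)
  e ω := fpHom (𝟙 ω.obj.fst)
    (fp_full f y h𝒴 (ω' := toFpObj f y h𝒴 (CostructuredArrow.mk (topArrow f y ω))) (ω := ω) (𝟙 ω.obj.fst)
      (idArrow f y h𝒴 ω)).choose.hom.snd (by
    have h := (fp_full f y h𝒴 (ω' := toFpObj f y h𝒴 (CostructuredArrow.mk (topArrow f y ω))) (ω := ω)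
      (𝟙 ω.obj.fst) (idArrow f y h𝒴 ω))
    have hw := h.choose.hom.w
    rw [h.choose_spec] at hw
    exact hw)
  isAffineHom ω := by
    change IsAffineHom (StMod.bmap 𝒳 (𝟙 ω.obj.fst))
    rw [StMod.bmap_id]
    infer_instance
  existsUnique ω x α := by
    refine ⟨CostructuredArrow.homMk α.hom.fst ?_, fp_ext_fst f y (Category.comp_id _), fun c hc => ?_⟩
    · exact (topArrow_nat f y α).trans (topArrow_toFpObj f y h𝒴 x)
    · refine CostructuredArrow.hom_ext _ _ ?_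
      have := congrArg (fun k => k.hom.fst) hc
      exact (Category.comp_id _).symm.trans this
  cart {ω' ω} φ c h := by
    have h1 : ∀ v : (FibCat.fp f y).obj,
        IsIso (StMod.bmap 𝒳 (𝟙 v.obj.fst)) := fun v => by rw [StMod.bmap_id]; infer_instance
    haveI := h1 ω'
    haveI := h1 ω
    exact @IsPullback.of_vert_isIso _ _ _ _ _ _ _ _ _ _ (h1 ω') (h1 ω) ⟨by rw [← StMod.bmap_comp, ← StMod.bmap_comp, h]⟩

/-- An arrow, affine schemes: generation on the product with a chart gives generation over an object mapping to its top. -/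
theorem isGenFam_of_chart (h𝒳 : FibCat.IsFibGrpd 𝒳.p) (h𝒴 : FibCat.IsFibGrpd 𝒴.p) [IsAffine T.left]
    {ι : Type t} (E : ι → StMod.QCoh 𝒳)
    (hgen : StMod.IsGenFam (fun j => (StMod.comapQ (FibCat.fpFst f y)).obj (E j)))
    {η' : 𝒴.obj} (hη' : IsAffine (StMod.sch 𝒴 η')) (β : η' ⟶ y.obj (topObj T)) :
    StMod.IsGenFam (fun j => (StMod.comapQ (StMod.fibFst f η')).obj (E j)) := by
  have hT : IsAffine (StMod.sch 𝒴 (y.obj (topObj T))) :=
    (congrArg (fun t => t.left) (y.w_obj (topObj T)) : StMod.sch 𝒴 (y.obj (topObj T)) = T.left).symm ▸ ‹IsAffine T.left›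
  have h1 := (toFpAffRep f y h𝒴).isGenFam_comapQ (fp_fibGrpd (F := f) (G := y) h𝒳 (fibGrpd_overCat T) h𝒴)
    (fibCat_fibGrpd f _ h𝒳) _ hgen
  have h2 : StMod.IsGenFam (fun j => (StMod.comapQ (StMod.fibFst f (y.obj (topObj T)))).obj (E j)) :=
    isGenFam_congr (E := fun j => (StMod.comapQ (toFp f y h𝒴)).obj ((StMod.comapQ (FibCat.fpFst f y)).obj (E j)))
      (fun j => StMod.comapCompIso (FibCat.fpFst f y) (toFp f y h𝒴) (E j).obj) h1
  have h3 := (bcAffRep f β h𝒳 h𝒴 hη' hT).isGenFam_comapQ (fibCat_fibGrpd f _ h𝒳) (fibCat_fibGrpd f _ h𝒳) _ h2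
  exact isGenFam_congr
    (E := fun j => (StMod.comapQ (bcFun f β)).obj ((StMod.comapQ (StMod.fibFst f (y.obj (topObj T)))).obj (E j)))
    (fun j => StMod.comapCompIso (StMod.fibFst f (y.obj (topObj T))) (bcFun f β) (E j).obj) h3

/-- A flat cover of the fibre product of a chart with a flat one. -/
theorem exists_fp_flat {U V : Over S} {𝒵 : AlgSt.Cat S} (h𝒵 : FibCat.IsFibGrpd 𝒵.p) {x : FibCat.overCat U ⥤ᵇ 𝒵}
    (h1 : AlgSt.RepByAlgSpWith (AlgSp.LocP @Flat) x) (z : FibCat.overCat V ⥤ᵇ 𝒵) :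
    ∃ (A : Over S) (c : A ⟶ V) (v : A ⟶ U), Flat c.left ∧
      (∀ t b, AlgSt.Points.ofChart z t = AlgSt.Points.ofChart x b → ∃ s, c.left s = t) ∧
      Nonempty (BasedFunctor.comp (AlgSt.overMap c) z ≅ BasedFunctor.comp (AlgSt.overMap v) x) := by
  obtain ⟨F, e, he, hσf⟩ := h1 V z
  let q := BasedFunctor.comp e (FibCat.fpFst z x)
  let σ := AlgSt.spMapOfOver q
  obtain ⟨k⟩ := spMapOfOver_eq q
  obtain ⟨A, p, hpe, hps⟩ := F.property.atlas
  obtain ⟨c, hc⟩ := (AlgSp.yon S).map_surjective (p ≫ σ)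
  have key : ∀ {Q : MorphismProperty Scheme.{u}}, H12AlgSp.EtLocal Q → AlgSp.LocP Q σ → Q c.left :=
    fun {Q} hQ h => AlgSp.locP_yon_map (hc ▸ H12AlgSp.locP_comp hQ (AlgSp.IsAlgSpace.yon_obj A)
      F.property (AlgSp.IsAlgSpace.yon_obj V) (H12AlgSp.locP_mono hQ.etale_le
        (H12AlgSp.locP_of_repWith H12AlgSp.etLocal_etale hpe)) h)
  let a := BasedFunctor.comp (BasedFunctor.comp (AlgSt.ofOverCat A) (AlgSt.ofSpMap p)) e
  have hU := (isFibSetoid_of_rep (repByAlgSp_overCat U)).1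
  have hV := (isFibSetoid_of_rep (repByAlgSp_overCat V)).1
  have hF := fp_fibGrpd (F := z) (G := x) hV hU h𝒵
  have ha := surjective_of_repWith hF ((repWith_comp_equiv_iff he).2
    ((repWith_equiv_comp_iff (ofOverCat_isEquivOver A)).1 (repWith_surjective_of_repWith p hps)))
  let m : BasedFunctor.comp (BasedFunctor.comp (AlgSt.ofOverCat A) (AlgSt.ofSpMap (p ≫ σ)))
      (AlgSt.toOverCat V) ≅ AlgSt.overMap c := by
    rw [← hc]
    exact mkIso (fun s => Iso.refl _)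
      (fun {_ _} φ => (Category.comp_id _).trans ((Category.id_comp _).trans
        (Over.OverMorphism.ext rfl)).symm)
      (fun s => IsHomLift.id rfl)
  let i₁ : BasedFunctor.comp a (FibCat.fpFst z x) ≅ AlgSt.overMap c :=
    (Stk.restr (BasedFunctor.comp (AlgSt.ofOverCat A) (AlgSt.ofSpMap p)) _).mapIso k ≪≫ m
  obtain ⟨v, ⟨i₂⟩⟩ := exists_overMap_iso (BasedFunctor.comp a (FibCat.fpSnd z x))
  refine ⟨A, c, v, key H12AlgSp.etLocal_flat hσf, fun t b h => ?_,
    ⟨(H14Stk.post _ z).mapIso i₁.symm ≪≫ (Stk.restr a _).mapIso (FibCat.fpIso z x) ≪≫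
      (H14Stk.post _ x).mapIso i₂⟩⟩
  rw [ofChart_eq_map z, ofChart_eq_map x] at h
  obtain ⟨w, hw1, -⟩ := exists_points_fp hV hU h𝒵 h
  obtain ⟨s, rfl⟩ := ha w
  exact ⟨chartPoint s, by rw [← chartPoint_overMap, ← points_map_iso i₁, points_map_comp, hw1, chartPoint_ofChart]⟩

/-- A morphism flat on atlases and from a representable flat chart: the category over an object of an affine scheme. -/
theorem exists_affine_charts (h𝒴 : FibCat.IsFibGrpd 𝒴.p) {A : Type u} {T : A → Over S}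
    (y : ∀ a, FibCat.overCat (T a) ⥤ᵇ 𝒴) (hfl : ∀ a, AlgSt.RepByAlgSpWith (AlgSp.LocP @Flat) (y a))
    (hsurj : ∀ p : AlgSt.Points 𝒴, ∃ (a : A) (t : (T a).left), AlgSt.Points.ofChart (y a) t = p)
    (η : 𝒴.obj) :
    ∃ (κ : Type u) (η' : κ → 𝒴.obj) (β : ∀ k, η' k ⟶ η) (a : κ → A),
      (∀ k, IsAffine (StMod.sch 𝒴 (η' k))) ∧ (∀ k, Flat (StMod.bmap 𝒴 (β k))) ∧
      (∀ p : StMod.sch 𝒴 η, ∃ k q, StMod.bmap 𝒴 (β k) q = p) ∧
      ∀ k, Nonempty (η' k ⟶ (y (a k)).obj (topObj (T (a k)))) := by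
  have := isFibered_of_fibGrpd h𝒴
  obtain ⟨z, ez, -, hez⟩ := exists_fromOver (𝒳 := 𝒴) (x := η) rfl
  choose B c v hcf hcl i using fun a => exists_fp_flat h𝒴 (hfl a) z
  let κ := Σ a, (B a).left.affineOpens
  let s : ∀ k : κ, (FibCat.overCat (B k.1)).obj := fun k =>
    Over.mk (Over.homMk k.2.1.ι rfl : Over.mk (k.2.1.ι ≫ (B k.1).hom) ⟶ B k.1)
  let β : ∀ k : κ, z.obj ((AlgSt.overMap (c k.1)).obj (s k)) ⟶ η := fun k => z.map (toTop _) ≫ ez.hom
  have hez' : StMod.bmap 𝒴 ez.hom = eqToHom (congrArg (fun t => t.left) (z.w_obj (topObj (𝒴.p.obj η)))) := by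
    have := congrArg (fun m => m.left) (IsHomLift.fac' 𝒴.p (𝟙 (𝒴.p.obj η)) ez.hom)
    refine this.trans ?_
    simp
  let e0 : ∀ k : κ, StMod.sch 𝒴 (z.obj ((AlgSt.overMap (c k.1)).obj (s k))) = k.2.1.toScheme := fun k =>
    congrArg (fun t => t.left) (z.w_obj ((AlgSt.overMap (c k.1)).obj (s k)))
  have hb : ∀ k : κ, StMod.bmap 𝒴 (β k) = eqToHom (e0 k) ≫ k.2.1.ι ≫ (c k.1).left := fun k => by
    have h1 := StMod.bmap_map_comm z (toTop ((AlgSt.overMap (c k.1)).obj (s k))) rfl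
    rw [StMod.bmap_comp, hez']
    exact h1.trans rfl
  refine ⟨κ, _, β, fun k => k.1, fun k => (e0 k).symm ▸ k.2.2, fun k => ?_, fun p => ?_, fun k =>
    ⟨(appIso (i k.1).some (s k)).hom ≫ (y k.1).map (toTop _)⟩⟩
  · haveI := hcf k.1
    rw [hb k]
    infer_instance
  · obtain ⟨a, t, ht⟩ := hsurj (AlgSt.Points.ofChart z p)
    obtain ⟨q, hq⟩ := hcl a p t ht.symm
    obtain ⟨V, hV, hqV, -⟩ := exists_isAffineOpen_mem_and_subset (x := q) (U := ⊤) trivial
    let k : κ := ⟨a, ⟨V, hV⟩⟩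
    refine ⟨k, (eqToHom (e0 k).symm) ⟨q, hqV⟩, ?_⟩
    rw [← Scheme.Hom.comp_apply, hb k, eqToHom_trans_assoc, eqToHom_refl, Category.id_comp,
      Scheme.Hom.comp_apply]
    exact hq

end Groth.Agent.H14QCoh
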