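import Groth.Agent.H14QCoh.Gen
import Groth.Agent.H14QCoh.AtlasFExists
import Groth.Agent.H14QCoh.Transfer
import Groth.Agent.H14QCoh.FlatCharts

/-!
# The categories over objects of a composite
-/

set_option autoImplicit false
set_option linter.style.haveILetI false
set_option backward.isDefEq.respectTransparency false
set_option backward.isDefEq.respectTransparency.types false

universe t u

open CategoryTheory CategoryTheory.Limits AlgebraicGeometry

noncomputable section

namespace Groth.Agent.H14QCoh

variable {S : Scheme.{u}} {𝒳 𝒴 𝒵 : AlgSt.Cat S} (f : 𝒳 ⥤ᵇ 𝒴) (g : 𝒴 ⥤ᵇ 𝒵) (η : 𝒵.obj)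

/-- The functor between the categories over an object induced by the first factor. -/
def fibMap : StMod.fibCat (BasedFunctor.comp f g) η ⥤ᵇ StMod.fibCat g η where
  toFunctor :=
    { obj := fun (z : (StMod.fibCat (BasedFunctor.comp f g) η).obj) =>
        CostructuredArrow.mk (show g.obj (f.obj z.left) ⟶ η from z.hom)
      map := fun {z z'} k => CostructuredArrow.homMk (f.map k.left) (CostructuredArrow.w k)
      map_id := fun z => CostructuredArrow.hom_ext _ _ (f.map_id z.left)
      map_comp := fun k l => CostructuredArrow.hom_ext _ _ (f.map_comp k.left l.left) }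
  w := CategoryTheory.Functor.ext (fun (z : (StMod.fibCat (BasedFunctor.comp f g) η).obj) => f.w_obj z.left)
    fun z z' k => Functor.congr_hom f.w (CommaMorphism.left k)

/-- Isomorphisms of affine objects are covers. -/
lemma isCov_of_iso {𝒲 : AlgSt.Cat S} {z' z : 𝒲.obj} (e : z' ≅ z) (h : IsAffine (StMod.sch 𝒲 z'))
    (_ : IsAffine (StMod.sch 𝒲 z)) : IsCov e.hom := by
  haveI : IsIso (StMod.bmap 𝒲 e.hom) := inferInstanceAs (IsIso ((𝒲.p ⋙ Over.forget S).map e.hom))
  exact ⟨h, inferInstance, inferInstance⟩

variable (D : (StMod.fibCat g η).obj)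

/-- An object over an object over `η` read over the underlying object. -/
def fibBack : StMod.fibCat (fibMap f g η) D ⥤ᵇ StMod.fibCat f D.left where
  toFunctor :=
    { obj := fun (z : (StMod.fibCat (fibMap f g η) D).obj) =>
        CostructuredArrow.mk (show f.obj z.left.left ⟶ D.left from z.hom.left)
      map := fun k => CostructuredArrow.homMk k.left.left (congrArg CommaMorphism.left (CostructuredArrow.w k))
      map_id := fun _ => rfl
      map_comp := fun _ _ => rfl }
  w := rfl

/-- An object over `η` under an object over the underlying object. -/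
def forthObj (z : (StMod.fibCat f D.left).obj) : (StMod.fibCat (BasedFunctor.comp f g) η).obj :=
  CostructuredArrow.mk (S := (BasedFunctor.comp f g).toFunctor) (Y := z.left)
    (show g.obj (f.obj z.left) ⟶ η from g.map z.hom ≫ D.hom)

/-- An object over the underlying object read over the object over `η`. -/
def fibForth : StMod.fibCat f D.left ⥤ᵇ StMod.fibCat (fibMap f g η) D where
  toFunctor :=
    { obj := fun (z : (StMod.fibCat f D.left).obj) =>
        CostructuredArrow.mk (S := (fibMap f g η).toFunctor) (Y := forthObj f g η D z)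
          (show (fibMap f g η).obj (forthObj f g η D z) ⟶ D from CostructuredArrow.homMk z.hom rfl)
      map := fun {z z'} k => CostructuredArrow.homMk (CostructuredArrow.homMk k.left (by
          change g.map (f.map k.left) ≫ g.map z'.hom ≫ D.hom = g.map z.hom ≫ D.hom
          rw [← Category.assoc, ← g.map_comp, CostructuredArrow.w k]))
        (CostructuredArrow.hom_ext _ _ (CostructuredArrow.w k))
      map_id := fun _ => rfl
      map_comp := fun _ _ => rfl }
  w := rfl

/-- Back and forth. -/
def backForthIso (z : (StMod.fibCat (fibMap f g η) D).obj) :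
    (fibForth f g η D).obj ((fibBack f g η D).obj z) ≅ z :=
  CostructuredArrow.isoMk (CostructuredArrow.isoMk (Iso.refl _) (by
      change g.map (f.map (𝟙 z.left.left)) ≫ z.left.hom = g.map z.hom.left ≫ D.hom
      rw [f.map_id, g.map_id, Category.id_comp]
      exact (CostructuredArrow.w z.hom).symm))
    (CostructuredArrow.hom_ext _ _ (by
      change f.map (𝟙 z.left.left) ≫ z.hom.left = z.hom.left
      rw [f.map_id, Category.id_comp]))

lemma backForthIso_left (z : (StMod.fibCat (fibMap f g η) D).obj) :
    (backForthIso f g η D z).hom.left.left = 𝟙 z.left.left := rfl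

/-- Reading over the underlying object is representable by isomorphisms. -/
def fibBackAffRep : AffRep (fibBack f g η D) where
  z ξ := (fibForth f g η D).obj ξ
  e ξ := 𝟙 ξ
  isAffineHom ξ := (congrArg (fun m => IsAffineHom m) (StMod.bmap_id ξ)).mpr inferInstance
  existsUnique ξ ζ α := by
    refine ⟨(backForthIso f g η D ζ).inv ≫ (fibForth f g η D).map α, ?_, fun k hk => ?_⟩
    · refine CostructuredArrow.hom_ext _ _ ?_
      change (𝟙 ζ.left.left ≫ α.left) ≫ 𝟙 ξ.left = α.left
      simp
    · refine CostructuredArrow.hom_ext _ _ (CostructuredArrow.hom_ext _ _ ?_)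
      change k.left.left = 𝟙 ζ.left.left ≫ α.left
      rw [Category.id_comp]
      exact (Category.comp_id k.left.left).symm.trans (congrArg CommaMorphism.left hk)
  cart {ξ' ξ} φ c h := by
    have hid : ∀ (w : (StMod.fibCat f D.left).obj), IsIso (StMod.bmap (StMod.fibCat f D.left) (𝟙 w)) := fun w =>
      (congrArg (fun m => IsIso m) (StMod.bmap_id w)).mpr inferInstance
    haveI := hid ξ
    haveI := hid ξ'
    exact IsPullback.of_vert_isIso ⟨(StMod.bmap_comp _ _).symm.trans
      ((congrArg (StMod.bmap (StMod.fibCat f D.left)) h).trans (StMod.bmap_comp _ _))⟩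

/-- The atlas over the underlying object read over the object over `η`. -/
theorem nonempty_atlas_fibMap (𝔹 : Atlas (StMod.fibCat f D.left)) :
    Nonempty (Atlas (StMod.fibCat (fibMap f g η) D)) := by
  let T := fibForth f g η D
  let R := fibBack f g η D
  refine ⟨{
    x := T.obj 𝔹.x
    y := T.obj 𝔹.y
    a := T.map 𝔹.a
    b := T.map 𝔹.b
    affx := 𝔹.affx
    affy := 𝔹.affy
    cov := fun z hz => ?_
    cov₂ := fun z α β hz => ?_ }⟩
  · obtain ⟨ξ', φ, hφ, ⟨γ⟩⟩ := 𝔹.cov (R.obj z) hz
    refine ⟨T.obj ξ', T.map φ ≫ (backForthIso f g η D z).hom, IsCov.comp hφ ?_, ⟨T.map γ⟩⟩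
    exact isCov_of_iso (backForthIso f g η D z) hz hz
  · obtain ⟨ξ', φ, c, hφ, h₁, h₂⟩ := 𝔹.cov₂ (R.obj z) (R.map α) (R.map β) hz
    refine ⟨T.obj ξ', T.map φ ≫ (backForthIso f g η D z).hom, T.map c, IsCov.comp hφ ?_, ?_, ?_⟩
    · exact isCov_of_iso (backForthIso f g η D z) hz hz
    · refine CostructuredArrow.hom_ext _ _ (CostructuredArrow.hom_ext _ _ ?_)
      change (φ.left ≫ 𝟙 z.left.left) ≫ α.left.left = c.left ≫ 𝔹.a.left
      exact (congrArg (· ≫ α.left.left) (Category.comp_id φ.left)).trans (congrArg CommaMorphism.left h₁)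
    · refine CostructuredArrow.hom_ext _ _ (CostructuredArrow.hom_ext _ _ ?_)
      change (φ.left ≫ 𝟙 z.left.left) ≫ β.left.left = c.left ≫ 𝔹.b.left
      exact (congrArg (· ≫ β.left.left) (Category.comp_id φ.left)).trans (congrArg CommaMorphism.left h₂)

/-- The module of `𝒳` on the iterated category over objects. -/
def fibModIso (E : StMod.QCoh 𝒳) :
    (fibMod (fibMap f g η) D (fibMod (BasedFunctor.comp f g) η E)).obj ≅
      ((StMod.comapQ (fibBack f g η D)).obj (fibMod f D.left E)).obj :=
  (StMod.comapCompIso (StMod.fibFst (BasedFunctor.comp f g) η) (StMod.fibFst (fibMap f g η) D) E.obj).symm ≪≫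
    StMod.comapCompIso (StMod.fibFst f D.left) (fibBack f g η D) E.obj

/-- Generation over an object from generation over the underlying object. -/
theorem isGenFam_fibMap (hp : FibCat.IsFibGrpd 𝒳.p) {ι : Type t} (E : ι → StMod.QCoh 𝒳)
    (hE : StMod.IsGenFam fun i => fibMod f D.left (E i)) :
    StMod.IsGenFam fun i => fibMod (fibMap f g η) D (fibMod (BasedFunctor.comp f g) η (E i)) :=
  isGenFam_congr (fun i => fibModIso f g η D (E i))
    ((fibBackAffRep f g η D).isGenFam_comapQ (fibCat_fibGrpd f _ hp)
      (fibCat_fibGrpd (fibMap f g η) D (fibCat_fibGrpd (BasedFunctor.comp f g) η hp)) _ hE)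

/-- The inverse image along a composite on the category over an object. -/
def comapFibIso (F : StMod.QCoh 𝒴) :
    (fibMod (BasedFunctor.comp f g) η ((StMod.comapQ f).obj F)).obj ≅
      ((StMod.comapQ (fibMap f g η)).obj (fibMod g η F)).obj :=
  (StMod.comapCompIso f (StMod.fibFst (BasedFunctor.comp f g) η) F.obj).symm ≪≫
    StMod.comapCompIso (StMod.fibFst g η) (fibMap f g η) F.obj

/-- The structure sheaf on the category over an object. -/
def fibOIso : (fibMod (BasedFunctor.comp f g) η (StMod.OQ 𝒳)).obj ≅
    (StMod.OQ (StMod.fibCat (BasedFunctor.comp f g) η)).obj :=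
  StMod.comapOIso (StMod.fibFst (BasedFunctor.comp f g) η)

variable {f g η}

include η in
/-- The structure sheaf of the source is generating over an object of the category over an object of the target. -/
theorem isGenFam_O_fibMap (hp : FibCat.IsFibGrpd 𝒳.p)
    (hO : StMod.IsGenFam fun _ : PUnit.{u + 1} => fibMod f D.left (StMod.OQ 𝒳)) :
    StMod.IsGenFam fun _ : PUnit.{u + 1} =>
      fibMod (fibMap f g η) D (StMod.OQ (StMod.fibCat (BasedFunctor.comp f g) η)) :=
  isGenFam_congr (E := fun _ => fibMod (fibMap f g η) D (fibMod (BasedFunctor.comp f g) η (StMod.OQ 𝒳)))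
    (fun _ => (StMod.comapFunctor (StMod.fibFst (fibMap f g η) D)).mapIso (fibOIso f g η).symm)
    (isGenFam_fibMap f g η D hp _ hO)

end Groth.Agent.H14QCoh
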