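import Groth.Agent.H14QCoh.Extend
import Groth.Agent.H14QCoh.AtlasF
import Groth.Agent.H14QCoh.Cast
import Groth.Agent.H14QCoh.BCMaps

/-!
# Modules on a dense functor with comparison maps along all arrows between images
-/

set_option autoImplicit false
set_option linter.style.haveILetI false
set_option backward.isDefEq.respectTransparency false
set_option backward.isDefEq.respectTransparency.types false

universe v' w' w v u

open CategoryTheory CategoryTheory.Limits AlgebraicGeometry Opposite TopologicalSpace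
open scoped TensorProduct

noncomputable section

namespace Groth.Agent.H14QCoh

variable {S : Scheme.{u}} {𝒴 : BasedCategory.{v, w} (Over S)} {X₀ : Type w'} [Category.{v'} X₀] (P : X₀ ⥤ 𝒴.obj)

/-- The category over the base structure induced by a functor. -/
abbrev srcCat : BasedCategory.{v', w'} (Over S) := BasedCategory.ofFunctor (P ⋙ 𝒴.p)

/-- The functor as a functor over the base. -/
def srcMap : srcCat P ⥤ᵇ 𝒴 := ⟨P, rfl⟩

/-- The image of an affine object. -/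
def img (x : AObj (srcCat P)) : AObj 𝒴 := ⟨P.obj x.1, x.2⟩

/-- The functions map of an arrow from an image. -/
def fnY {x : AObj (srcCat P)} {y : AObj 𝒴} (b : P.obj x.1 ⟶ y.1) : Fn 𝒴 y.1 →+* Fn (srcCat P) x.1 :=
  fnMap (𝒳 := 𝒴) b

/-- The functions map of an arrow between images. -/
def fnb {x x' : AObj (srcCat P)} (b : P.obj x.1 ⟶ P.obj x'.1) : Fn (srcCat P) x'.1 →+* Fn (srcCat P) x.1 :=
  fnMap (𝒳 := 𝒴) b

lemma fnY_comp {x x' : AObj (srcCat P)} {y : AObj 𝒴} (b : P.obj x.1 ⟶ P.obj x'.1) (g : P.obj x'.1 ⟶ y.1)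
    (c : Fn 𝒴 y.1) : fnY P (b ≫ g) c = fnb P b (fnY P g c) :=
  fnMap_comp b g c

lemma fnY_comp_right {x : AObj (srcCat P)} {y y' : AObj 𝒴} (b : P.obj x.1 ⟶ y.1) (g : y.1 ⟶ y'.1)
    (c : Fn 𝒴 y'.1) : fnY P (b ≫ g) c = fnY P b (fnMap g c) :=
  fnMap_comp b g c

/-- The comparison map as a base change. -/
theorem isBC_mapTop {𝒳 : BasedCategory.{v', w'} (Over S)} (F : StMod.QCoh 𝒳) {ξ' ξ : 𝒳.obj} (φ : ξ' ⟶ ξ)
    (hξ' : IsAffine (StMod.sch 𝒳 ξ')) (hξ : IsAffine (StMod.sch 𝒳 ξ)) :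
    IsBC (fnMap φ) (AddMonoidHom.mk' (F.obj.mapTop φ) (F.obj.mapTop_add φ)) := by
  refine ⟨fun a m => F.obj.mapTop_smul φ a m, ?_⟩
  letI := (fnMap φ).toAlgebra
  letI := secModule F φ
  haveI : IsScalarTower (Fn 𝒳 ξ) (Fn 𝒳 ξ') (Sec F ξ') := .of_algebraMap_smul fun _ _ => rfl
  intro L hL
  have : L = mapLin F φ := LinearMap.ext fun m => hL m
  rw [this]
  exact isBaseChange_mapTop F φ hξ' hξ

/-- A module on the source with comparison maps along all arrows between images, and covers by images. -/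
structure DenseData where
  hp : FibCat.IsFibGrpd 𝒴.p
  hq : FibCat.IsFibGrpd (srcCat P).p
  F : StMod.QCoh (srcCat P)
  cov : ∀ y : AObj 𝒴, ∃ (x : AObj (srcCat P)) (g : P.obj x.1 ⟶ y.1), IsCov g
  B : ∀ {x x' : AObj (srcCat P)} (_ : P.obj x.1 ⟶ P.obj x'.1), Sec F x'.1 →+ Sec F x.1
  B_smul : ∀ {x x' : AObj (srcCat P)} (b : P.obj x.1 ⟶ P.obj x'.1) (r : Fn (srcCat P) x'.1) (m : Sec F x'.1),
    B b (r • m) = fnb P b r • B b m
  B_map : ∀ {x x' : AObj (srcCat P)} (φ : x.1 ⟶ x'.1) (m : Sec F x'.1), B (P.map φ) m = F.obj.mapTop φ m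
  B_comp : ∀ {x x' x'' : AObj (srcCat P)} (b : P.obj x.1 ⟶ P.obj x'.1) (b' : P.obj x'.1 ⟶ P.obj x''.1)
    (m : Sec F x''.1), B (b ≫ b') m = B b (B b' m)

namespace DenseData

variable {P} (D : DenseData P)

lemma B_congr {x x' : AObj (srcCat P)} {b b' : P.obj x.1 ⟶ P.obj x'.1} (e : b = b') (m : Sec D.F x'.1) :
    D.B b m = D.B b' m := by
  rw [e]

lemma B_id (x : AObj (srcCat P)) (m : Sec D.F x.1) : D.B (𝟙 (P.obj x.1)) m = m := by
  rw [← P.map_id, D.B_map, D.F.obj.mapTop_id]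

include D in
/-- An arrow to an object with an arrow from an image, pulled back to images. -/
theorem exists_pull {x w : AObj (srcCat P)} {y : AObj 𝒴} (g : P.obj x.1 ⟶ y.1) (b : P.obj w.1 ⟶ y.1) :
    ∃ (w' : AObj (srcCat P)) (φ : w'.1 ⟶ w.1) (q : P.obj w'.1 ⟶ P.obj x.1), q ≫ g = P.map φ ≫ b ∧
      IsPullback (StMod.bmap 𝒴 (P.map φ)) (StMod.bmap 𝒴 q) (StMod.bmap 𝒴 b) (StMod.bmap 𝒴 g) := by
  haveI : IsAffine (StMod.sch 𝒴 (P.obj x.1)) := x.2
  haveI : IsAffine (StMod.sch 𝒴 (P.obj w.1)) := w.2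
  haveI := y.2
  let f : pullback (StMod.bmap 𝒴 b) (StMod.bmap 𝒴 g) ⟶ StMod.sch (srcCat P) w.1 :=
    pullback.fst (StMod.bmap 𝒴 b) (StMod.bmap 𝒴 g)
  obtain ⟨w', φ, e, hφ⟩ := exists_lift D.hq w.1 f
  have hφ' : StMod.bmap 𝒴 (P.map φ) = e.hom ≫ pullback.fst (StMod.bmap 𝒴 b) (StMod.bmap 𝒴 g) := hφ
  haveI : IsAffine (StMod.sch (srcCat P) w') := IsAffine.of_isIso e.hom
  obtain ⟨q, hq, hq'⟩ := exists_factor D.hp g (P.map φ ≫ b) (e.hom ≫ pullback.snd _ _) (by
    rw [StMod.bmap_comp, hφ', Category.assoc, Category.assoc, pullback.condition])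
  refine ⟨⟨w', inferInstance⟩, φ, q, hq, ?_⟩
  rw [hφ', hq']
  exact IsPullback.of_iso (IsPullback.of_hasPullback _ _) e.symm (Iso.refl _) (Iso.refl _) (Iso.refl _)
    (by simp) (by simp) (by simp) (by simp)

include D in
lemma isCov_of_pull {x w : AObj (srcCat P)} {y : AObj 𝒴} {g : P.obj x.1 ⟶ y.1} {b : P.obj w.1 ⟶ y.1}
    (hg : IsCov g) {w' : AObj (srcCat P)} {φ : w'.1 ⟶ w.1} {q : P.obj w'.1 ⟶ P.obj x.1}
    (hpb : IsPullback (StMod.bmap 𝒴 (P.map φ)) (StMod.bmap 𝒴 q) (StMod.bmap 𝒴 b) (StMod.bmap 𝒴 g)) :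
    IsCov (𝒳 := srcCat P) φ :=
  ⟨w'.2, MorphismProperty.of_isPullback (P := @Flat) hpb.flip hg.2.1,
    MorphismProperty.of_isPullback (P := @Surjective) hpb.flip hg.2.2⟩

/-- The comparison map along any arrow between images is a base change. -/
theorem isBC_B {x x' : AObj (srcCat P)} (b : P.obj x.1 ⟶ P.obj x'.1) : IsBC (fnb P b) (D.B b) := by
  obtain ⟨w, a, e, ha⟩ := exists_lift (𝒳 := srcCat P) D.hq x'.1 (StMod.bmap 𝒴 b)
  haveI := x.2
  haveI : IsAffine (StMod.sch 𝒴 (P.obj x.1)) := x.2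
  haveI hw : IsAffine (StMod.sch (srcCat P) w) := IsAffine.of_isIso e.hom
  let W : AObj (srcCat P) := ⟨w, hw⟩
  obtain ⟨c, hc, hc'⟩ := exists_factor D.hp (P.map a) b e.inv (by
    change e.inv ≫ StMod.bmap (srcCat P) a = _
    rw [ha, Iso.inv_hom_id_assoc])
  obtain ⟨c', hc₁, hc₁'⟩ := exists_factor D.hp b (P.map a) e.hom ha.symm
  have h1 : c ≫ c' = 𝟙 _ := hom_ext_bmap D.hp b (by rw [Category.assoc, hc₁, hc, Category.id_comp])
    (by rw [StMod.bmap_comp, hc', hc₁', StMod.bmap_id]; exact e.inv_hom_id)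
  have h2 : c' ≫ c = 𝟙 _ := hom_ext_bmap D.hp (P.map a) (by rw [Category.assoc, hc, hc₁, Category.id_comp])
    (by rw [StMod.bmap_comp, hc', hc₁', StMod.bmap_id]; exact e.hom_inv_id)
  -- an isomorphism of images gives a base change
  have hiso : IsBC (fnb P (x := x) (x' := W) c) (D.B (x := x) (x' := W) c) := by
    have hb : Function.Bijective (D.B (x := x) (x' := W) c) :=
      Function.bijective_iff_has_inverse.2 ⟨D.B (x := W) (x' := x) c', fun m => by
        rw [← D.B_comp (x := W), D.B_congr (x := W) h2, D.B_id W],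
        fun m => by rw [← D.B_comp (x := x), D.B_congr (x := x) h1, D.B_id x]⟩
    let A := Fn (srcCat P) W.1
    let A' := Fn (srcCat P) x.1
    letI : Algebra A A' := (fnb P (x := x) (x' := W) c).toAlgebra
    letI := Module.compHom (Sec D.F x.1) (fnb P (x := x) (x' := W) c)
    haveI : IsScalarTower A A' (Sec D.F x.1) := .of_algebraMap_smul fun _ _ => rfl
    let L : Sec D.F W.1 →ₗ[A] Sec D.F x.1 :=
      { toFun := D.B (x := x) (x' := W) c, map_add' := map_add _,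
        map_smul' := fun r m => D.B_smul (x := x) (x' := W) c r m }
    have hs : Function.Surjective (algebraMap A A') := fun r =>
      ⟨fnb P (x := W) (x' := x) c' r, by
        refine ((fnMap_comp c c' r).symm.trans ?_)
        rw [h1]
        exact fnMap_id (𝒳 := 𝒴) _ r⟩
    refine isBC_of_tensor (D.B_smul (x := x) (x' := W) c) ⟨L.liftBaseChange A', ?_, fun m => ?_⟩
    · have hmk : Function.Surjective (TensorProduct.mk A A' (Sec D.F W.1) 1) := fun t => by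
        induction t using TensorProduct.induction_on with
        | zero => exact ⟨0, map_zero _⟩
        | add p q hp hq =>
          obtain ⟨p', rfl⟩ := hp
          obtain ⟨q', rfl⟩ := hq
          exact ⟨p' + q', map_add _ _ _⟩
        | tmul r m =>
          obtain ⟨r', rfl⟩ := hs r
          exact ⟨r' • m, by
            rw [TensorProduct.mk_apply, ← TensorProduct.smul_tmul, Algebra.smul_def, mul_one]⟩
      have hval : ∀ m, L.liftBaseChange A' (1 ⊗ₜ m) = L m := fun m =>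
        (LinearMap.liftBaseChange_tmul ..).trans (one_smul A' (L m))
      refine ⟨fun s t hst => ?_, fun n => ?_⟩
      · obtain ⟨s', rfl⟩ := hmk s
        obtain ⟨t', rfl⟩ := hmk t
        exact congrArg _ (hb.1 ((hval s').symm.trans (hst.trans (hval t'))))
      · obtain ⟨m, rfl⟩ := hb.2 n
        exact ⟨1 ⊗ₜ m, hval m⟩
    · exact (LinearMap.liftBaseChange_tmul ..).trans (one_smul A' (L m))
  have h := (isBC_mapTop D.F a hw x'.2).comp hiso
  have e1 : fnb P b = (fnb P (x := x) (x' := W) c).comp (fnMap a) := RingHom.ext fun r => by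
    rw [← hc]
    exact fnMap_comp c (P.map a) r
  rw [e1]
  refine (congrArg (IsBC _) (AddMonoidHom.ext fun m => ?_)).mpr h
  refine (D.B_congr hc.symm m).trans ((D.B_comp (x' := W) c (P.map a) m).trans ?_)
  exact congrArg _ (D.B_map (x := W) a m)

/-- The chosen image over an affine object. -/
def cx (y : AObj 𝒴) : AObj (srcCat P) := (D.cov y).choose

/-- The arrow of the chosen image. -/
def cg (y : AObj 𝒴) : P.obj (D.cx y).1 ⟶ y.1 := (D.cov y).choose_spec.choose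

lemma isCov_cg (y : AObj 𝒴) : IsCov (D.cg y) := (D.cov y).choose_spec.choose_spec

/-- The elements on the chosen image with equal restrictions. -/
def kern (y : AObj 𝒴) : AddSubgroup (Sec D.F (D.cx y).1) where
  carrier := {u | ∀ (ω : AObj (srcCat P)) (p q : P.obj ω.1 ⟶ P.obj (D.cx y).1), p ≫ D.cg y = q ≫ D.cg y →
    D.B p u = D.B q u}
  zero_mem' := fun ω p q _ => by rw [map_zero, map_zero]
  add_mem' := fun {u v} hu hv ω p q h => by rw [map_add, map_add, hu ω p q h, hv ω p q h]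
  neg_mem' := fun {u} hu ω p q h => by rw [map_neg, map_neg, hu ω p q h]

/-- The descended module on an affine object. -/
def Q (y : AObj 𝒴) : Type u := ↥(D.kern y)

instance (y : AObj 𝒴) : AddCommGroup (D.Q y) := inferInstanceAs (AddCommGroup ↥(D.kern y))

variable {D} in
@[ext] lemma Q.ext {y : AObj 𝒴} {u v : D.Q y} (h : u.1 = v.1) : u = v := Subtype.ext h

@[simp] lemma add_val {y : AObj 𝒴} (u v : D.Q y) : (u + v).1 = u.1 + v.1 := rfl

lemma smul_mem_kern {y : AObj 𝒴} (c : Fn 𝒴 y.1) (u : D.Q y) : fnY P (D.cg y) c • u.1 ∈ D.kern y :=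
  fun ω p q h => by
    rw [D.B_smul, D.B_smul, u.2 ω p q h, ← fnY_comp, ← fnY_comp, h]

instance (y : AObj 𝒴) : SMul (Fn 𝒴 y.1) (D.Q y) := ⟨fun c u => ⟨_, D.smul_mem_kern c u⟩⟩

@[simp] lemma smul_val {y : AObj 𝒴} (c : Fn 𝒴 y.1) (u : D.Q y) : (c • u).1 = fnY P (D.cg y) c • u.1 := rfl

instance (y : AObj 𝒴) : Module (Fn 𝒴 y.1) (D.Q y) where
  one_smul u := by ext; simp
  mul_smul a b u := by ext; simp [mul_smul]
  smul_zero a := Q.ext (smul_zero (A := Sec D.F (D.cx y).1) _)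
  smul_add a u v := by ext; simp
  add_smul a b u := by ext; simp [add_smul]
  zero_smul u := by
    refine Q.ext ?_
    rw [smul_val, map_zero, zero_smul]
    rfl

/-- The condition to be the value of a descended element. -/
def IsValAt {y : AObj 𝒴} {x : AObj (srcCat P)} (b : P.obj x.1 ⟶ y.1) (u : D.Q y) (v : Sec D.F x.1) : Prop :=
  ∀ (ω : AObj (srcCat P)) (r : P.obj ω.1 ⟶ P.obj x.1) (q : P.obj ω.1 ⟶ P.obj (D.cx y).1),
    q ≫ D.cg y = r ≫ b → D.B r v = D.B q u.1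

theorem exists_valAt {y : AObj 𝒴} {x : AObj (srcCat P)} (b : P.obj x.1 ⟶ y.1) (u : D.Q y) :
    ∃ v, D.IsValAt b u v ∧ ∀ v', D.IsValAt b u v' → v' = v := by
  obtain ⟨x', φ, q', hq', hpb⟩ := D.exists_pull (D.cg y) b
  have hφ := D.isCov_of_pull (D.isCov_cg y) hpb
  haveI := x.2
  obtain ⟨v, hv⟩ := exists_of_equalizer (F := D.F) D.hq hφ (D.B q' u.1) (fun ζ a c hζ h => by
    rw [← D.B_map (x := ⟨ζ, hζ⟩) a, ← D.B_map (x := ⟨ζ, hζ⟩) c, ← D.B_comp (x := ⟨ζ, hζ⟩),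
      ← D.B_comp (x := ⟨ζ, hζ⟩)]
    exact u.2 ⟨ζ, hζ⟩ _ _ (by
      rw [Category.assoc, Category.assoc, hq', ← Category.assoc, ← Category.assoc, ← P.map_comp, ← P.map_comp, h]))
  refine ⟨v, fun ω r q hq => ?_, fun v' hv' => injective_mapTop_cov (F := D.F) hφ ?_⟩
  · obtain ⟨ω', φ', q'', hq'', hpb'⟩ := D.exists_pull (y := img P x) (P.map φ) r
    have hφc : IsCov (𝒳 := 𝒴) (P.map φ) := ⟨hφ.1, hφ.2.1, hφ.2.2⟩
    have hφ' := D.isCov_of_pull (y := img P x) (g := P.map φ) hφc hpb'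
    haveI := ω.2
    refine injective_mapTop_cov (F := D.F) hφ' ?_
    rw [← D.B_map φ', ← D.B_map φ', ← D.B_comp, ← D.B_comp, D.B_congr hq''.symm, D.B_comp, D.B_map φ, hv,
      ← D.B_comp]
    exact u.2 ω' _ _ (by rw [Category.assoc, hq', ← Category.assoc, hq'', Category.assoc, ← hq, Category.assoc])
  · rw [hv, ← hv' x' (P.map φ) q' hq', D.B_map]

/-- The value of a descended element. -/
def ev {y : AObj 𝒴} {x : AObj (srcCat P)} (b : P.obj x.1 ⟶ y.1) (u : D.Q y) : Sec D.F x.1 :=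
  (D.exists_valAt b u).choose

lemma isValAt_ev {y : AObj 𝒴} {x : AObj (srcCat P)} (b : P.obj x.1 ⟶ y.1) (u : D.Q y) :
    D.IsValAt b u (D.ev b u) :=
  (D.exists_valAt b u).choose_spec.1

lemma eq_ev {y : AObj 𝒴} {x : AObj (srcCat P)} {b : P.obj x.1 ⟶ y.1} {u : D.Q y} {v : Sec D.F x.1}
    (h : D.IsValAt b u v) : v = D.ev b u :=
  (D.exists_valAt b u).choose_spec.2 v h

lemma ev_congr {y : AObj 𝒴} {x : AObj (srcCat P)} {b b' : P.obj x.1 ⟶ y.1} (h : b = b') (u : D.Q y) :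
    D.ev b u = D.ev b' u := by
  subst h; rfl

lemma ev_add {y : AObj 𝒴} {x : AObj (srcCat P)} (b : P.obj x.1 ⟶ y.1) (u u' : D.Q y) :
    D.ev b (u + u') = D.ev b u + D.ev b u' :=
  (D.eq_ev fun ω r q h => by
    rw [map_add, D.isValAt_ev b u ω r q h, D.isValAt_ev b u' ω r q h, add_val, map_add]).symm

lemma ev_smul {y : AObj 𝒴} {x : AObj (srcCat P)} (b : P.obj x.1 ⟶ y.1) (c : Fn 𝒴 y.1) (u : D.Q y) :
    D.ev b (c • u) = fnY P b c • D.ev b u :=
  (D.eq_ev fun ω r q h => by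
    rw [D.B_smul, D.isValAt_ev b u ω r q h, smul_val, D.B_smul, ← fnY_comp, ← fnY_comp, h]).symm

lemma B_ev {y : AObj 𝒴} {x' x : AObj (srcCat P)} (e : P.obj x'.1 ⟶ P.obj x.1) (b : P.obj x.1 ⟶ y.1) (u : D.Q y) :
    D.B e (D.ev b u) = D.ev (e ≫ b) u :=
  D.eq_ev fun ω r q h => by
    rw [← D.B_comp]
    exact D.isValAt_ev b u ω (r ≫ e) q (by rw [h, Category.assoc])

lemma ev_self {y : AObj 𝒴} (u : D.Q y) : D.ev (D.cg y) u = u.1 :=
  (D.eq_ev fun ω r q h => u.2 ω r q h.symm).symm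

lemma ev_mem {y y' : AObj 𝒴} (χ : y'.1 ⟶ y.1) (u : D.Q y) : D.ev (D.cg y' ≫ χ) u ∈ D.kern y' :=
  fun ω p q h => by
    rw [B_ev, B_ev]
    exact D.ev_congr (by rw [reassoc_of% h]) u

/-- The restriction of descended elements. -/
def res {y y' : AObj 𝒴} (χ : y'.1 ⟶ y.1) : D.Q y →+ D.Q y' :=
  AddMonoidHom.mk' (fun u => ⟨_, D.ev_mem χ u⟩) fun u v => Q.ext (D.ev_add _ u v)

lemma res_val {y y' : AObj 𝒴} (χ : y'.1 ⟶ y.1) (u : D.Q y) : (D.res χ u).1 = D.ev (D.cg y' ≫ χ) u := rfl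

lemma ev_res {y y' : AObj 𝒴} {x : AObj (srcCat P)} (b : P.obj x.1 ⟶ y'.1) (χ : y'.1 ⟶ y.1) (u : D.Q y) :
    D.ev b (D.res χ u) = D.ev (b ≫ χ) u :=
  (D.eq_ev fun ω r q h => by
    rw [B_ev, res_val, B_ev]
    exact D.ev_congr (by rw [reassoc_of% h]) u).symm

/-- The value as an additive map. -/
def evH {y : AObj 𝒴} {x : AObj (srcCat P)} (b : P.obj x.1 ⟶ y.1) : D.Q y →+ Sec D.F x.1 :=
  AddMonoidHom.mk' (D.ev b) (D.ev_add b)

end DenseData

end Groth.Agent.H14QCoh
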