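import Groth.Agent.H14QCoh.DenseExt

/-!
# Inverse images along dense functors with locally lifted arrows
-/

set_option autoImplicit false
set_option linter.style.haveILetI false
set_option backward.isDefEq.respectTransparency false
set_option backward.isDefEq.respectTransparency.types false

universe v' w' w v u

open CategoryTheory CategoryTheory.Limits AlgebraicGeometry Opposite TopologicalSpace

noncomputable section

namespace Groth.Agent.H14QCoh

variable {S : Scheme.{u}}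

/-- A bijective natural family on the affine objects comes from an isomorphism. -/
theorem exists_iso_affine {𝒳 : BasedCategory.{v', w'} (Over S)} (hp : FibCat.IsFibGrpd 𝒳.p)
    {F G : StMod.QCoh 𝒳} (f : AffFam F G) (hf : f.Nat) (hb : ∀ ξ hξ, Function.Bijective (f ξ hξ)) :
    ∃ I : F.obj ≅ G.obj, ∀ ξ (hξ : IsAffine (StMod.sch 𝒳 ξ)) (e : Sec F ξ),
      (I.hom.app ξ).app ⊤ e = f ξ hξ e := by
  obtain ⟨u, hu⟩ := exists_hom hp f hf
  let g : AffFam G F := fun ξ hξ => (LinearEquiv.ofBijective (f ξ hξ) (hb ξ hξ)).symm.toLinearMap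
  have hfg : ∀ ξ hξ e, f ξ hξ (g ξ hξ e) = e := fun ξ hξ e =>
    (LinearEquiv.ofBijective (f ξ hξ) (hb ξ hξ)).apply_symm_apply e
  have hg : g.Nat := fun ξ' ξ φ hξ' hξ e => (hb ξ' hξ').1 (by
    rw [hfg, hf φ hξ' hξ, hfg])
  obtain ⟨v, hv⟩ := exists_hom hp g hg
  refine ⟨⟨u, v, hom_ext_affine hp fun ξ hξ e => ?_, hom_ext_affine hp fun ξ hξ e => ?_⟩,
    fun ξ hξ e => hu ξ hξ e⟩
  · change (v.app ξ).app ⊤ ((u.app ξ).app ⊤ e) = e
    rw [hu ξ hξ, hv ξ hξ]
    exact (LinearEquiv.ofBijective (f ξ hξ) (hb ξ hξ)).symm_apply_apply e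
  · change (u.app ξ).app ⊤ ((v.app ξ).app ⊤ e) = e
    rw [hv ξ hξ, hu ξ hξ, hfg]

variable {𝒴 : BasedCategory.{v, w} (Over S)} {X₀ : Type w'} [Category.{v'} X₀] {P : X₀ ⥤ 𝒴.obj}

/-- Sections of the inverse image along the functor. -/
def srcSec (G : StMod.QCoh 𝒴) (x : X₀) :
    Sec G (P.obj x) ≃+ Sec ((StMod.comapQ (srcMap P)).obj G) x :=
  toSec (srcMap P) G x

lemma srcSec_smul (G : StMod.QCoh 𝒴) (x : X₀) (r : Fn 𝒴 (P.obj x)) (m : Sec G (P.obj x)) :
    srcSec G x (r • m) = (show Fn (srcCat P) x from r) • srcSec G x m :=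
  toSec_smul (srcMap P) G x r m

lemma srcSec_mapTop (G : StMod.QCoh 𝒴) {x' x : X₀} (φ : x' ⟶ x) (m : Sec G (P.obj x)) :
    ((StMod.comapQ (srcMap P)).obj G).obj.mapTop (𝒳 := srcCat P) φ (srcSec G x m) =
      srcSec G x' (G.obj.mapTop (P.map φ) m) :=
  comap_mapTop (srcMap P) G φ m

namespace DenseData

variable (D : DenseData P)

/-- The descended module pulls back to the given one. -/
theorem exists_iso : ∃ I : D.F.obj ≅ ((StMod.comapQ (srcMap P)).obj D.G).obj,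
    ∀ (x : AObj (srcCat P)) (s : Sec D.G (P.obj x.1)),
      (I.hom.app x.1).app ⊤ (D.val (y := img P x) (x := x) (𝟙 _) s) = srcSec D.G x.1 s := by
  let v : ∀ x : AObj (srcCat P), Sec D.G (P.obj x.1) ≃+ Sec D.F x.1 := fun x =>
    AddEquiv.ofBijective (D.val (y := img P x) (x := x) (𝟙 _)) (D.bijective_val x)
  have hv : ∀ (x : AObj (srcCat P)) (r : Fn (srcCat P) x.1) (m : Sec D.G (P.obj x.1)),
      v x ((show Fn 𝒴 (P.obj x.1) from r) • m) = r • v x m := fun x r m => by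
    refine (D.val_smul (y := img P x) (x := x) (𝟙 _) r m).trans ?_
    exact congrArg (· • _) (fnMap_id (𝒳 := 𝒴) _ r)
  let f : AffFam D.F ((StMod.comapQ (srcMap P)).obj D.G) := fun x hx =>
    { toFun := fun e => srcSec D.G x ((v ⟨x, hx⟩).symm e)
      map_add' := fun e e' => by rw [map_add, map_add]
      map_smul' := fun r e => by
        rw [RingHom.id_apply]
        refine (congrArg (srcSec D.G x) ?_).trans (srcSec_smul D.G x r _)
        apply (v ⟨x, hx⟩).injective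
        rw [AddEquiv.apply_symm_apply, hv ⟨x, hx⟩, AddEquiv.apply_symm_apply] }
  have hf : f.Nat := fun x' x φ hx' hx e => by
    change srcSec D.G x' _ = ((StMod.comapQ (srcMap P)).obj D.G).obj.mapTop φ (srcSec D.G x _)
    rw [srcSec_mapTop]
    refine congrArg (srcSec D.G x') ((v ⟨x', hx'⟩).injective ?_)
    rw [AddEquiv.apply_symm_apply]
    obtain ⟨m, rfl⟩ := (v ⟨x, hx⟩).surjective e
    rw [AddEquiv.symm_apply_apply]
    change D.F.obj.mapTop φ (D.val (y := img P ⟨x, hx⟩) (x := ⟨x, hx⟩) (𝟙 _) m) =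
      D.val (y := img P ⟨x', hx'⟩) (x := ⟨x', hx'⟩) (𝟙 _) (D.G.obj.mapTop (P.map φ) m)
    rw [← D.B_map (x := ⟨x', hx'⟩) (x' := ⟨x, hx⟩) φ, D.B_val (x' := ⟨x', hx'⟩) (x := ⟨x, hx⟩),
      D.val_mapTop (y' := img P ⟨x', hx'⟩) (y := img P ⟨x, hx⟩) (x := ⟨x', hx'⟩)]
    exact DFunLike.congr_fun (congrArg (D.val (y := img P ⟨x, hx⟩) (x := ⟨x', hx'⟩))
      (show P.map φ ≫ 𝟙 _ = 𝟙 _ ≫ P.map φ by rw [Category.comp_id, Category.id_comp])) m
  obtain ⟨I, hI⟩ := exists_iso_affine D.hq f hf fun x hx =>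
    (srcSec D.G x).bijective.comp (v ⟨x, hx⟩).symm.bijective
  exact ⟨I, fun x s => (hI x.1 x.2 _).trans (congrArg (srcSec D.G x.1) ((v x).symm_apply_apply s))⟩

end DenseData

section Lifted

variable (hp : FibCat.IsFibGrpd 𝒴.p) (hq : FibCat.IsFibGrpd (srcCat P).p)
  (cov : ∀ y : AObj 𝒴, ∃ (x : AObj (srcCat P)) (g : P.obj x.1 ⟶ y.1), IsCov g)
  (lift : ∀ {x x' : AObj (srcCat P)} (b : P.obj x.1 ⟶ P.obj x'.1),
    ∃ (w : AObj (srcCat P)) (φ : w.1 ⟶ x.1) (ψ : w.1 ⟶ x'.1),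
      IsCov (𝒳 := srcCat P) φ ∧ P.map φ ≫ b = P.map ψ)

include hq lift in
/-- The comparison map along an arrow between images, for modules not seeing the kernel of the functor. -/
theorem exists_B (F : StMod.QCoh (srcCat P))
    (inv : ∀ {w x : AObj (srcCat P)} (φ ψ : w.1 ⟶ x.1) (m : Sec F x.1), P.map φ = P.map ψ →
      F.obj.mapTop φ m = F.obj.mapTop ψ m)
    {x x' : AObj (srcCat P)} (b : P.obj x.1 ⟶ P.obj x'.1) (m : Sec F x'.1) :
    ∃! v : Sec F x.1, ∀ (ω : AObj (srcCat P)) (φ : ω.1 ⟶ x.1) (ψ : ω.1 ⟶ x'.1), P.map φ ≫ b = P.map ψ →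
      F.obj.mapTop φ v = F.obj.mapTop ψ m := by
  obtain ⟨w, φ₀, ψ₀, hφ₀, h₀⟩ := lift b
  haveI := x.2
  obtain ⟨v, hv⟩ := exists_of_equalizer (F := F) hq hφ₀ (F.obj.mapTop ψ₀ m) (fun ζ a c hζ h => by
    rw [← F.obj.mapTop_comp, ← F.obj.mapTop_comp]
    refine inv (w := ⟨ζ, hζ⟩) _ _ m ?_
    rw [P.map_comp, P.map_comp, ← h₀, ← Category.assoc, ← Category.assoc, ← P.map_comp, ← P.map_comp, h])
  refine ⟨v, fun ω φ ψ h => ?_, fun v' hv' => injective_mapTop_cov (F := F) hφ₀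
    ((hv' w φ₀ ψ₀ h₀).trans hv.symm)⟩
  haveI := ω.2
  obtain ⟨ω', φ', χ, hφ', hw⟩ := exists_pullback_cov hq hφ₀ φ
  refine injective_mapTop_cov (F := F) hφ' ?_
  rw [← F.obj.mapTop_comp, ← F.obj.mapTop_comp, hw, F.obj.mapTop_comp, hv, ← F.obj.mapTop_comp]
  refine inv (w := ⟨ω', hφ'.1⟩) _ _ m ?_
  rw [P.map_comp, P.map_comp, ← h, ← h₀, ← Category.assoc, ← Category.assoc, ← P.map_comp, ← P.map_comp, hw]

include hp hq cov lift in
/-- Modules not seeing the kernel of the functor are inverse images. -/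
theorem exists_comap_iso (F : StMod.QCoh (srcCat P))
    (inv : ∀ {w x : AObj (srcCat P)} (φ ψ : w.1 ⟶ x.1) (m : Sec F x.1), P.map φ = P.map ψ →
      F.obj.mapTop φ m = F.obj.mapTop ψ m) :
    ∃ G : StMod.QCoh 𝒴, Nonempty (F ≅ (StMod.comapQ (srcMap P)).obj G) := by
  choose B hB hB' using fun (x x' : AObj (srcCat P)) (b : P.obj x.1 ⟶ P.obj x'.1) (m : Sec F x'.1) =>
    exists_B hq lift F inv b m
  have hBadd : ∀ x x' b m m', B x x' b (m + m') = B x x' b m + B x x' b m' := fun x x' b m m' =>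
    (hB' x x' b (m + m') _ fun ω φ ψ h => by
      rw [F.obj.mapTop_add, F.obj.mapTop_add, hB x x' b m ω φ ψ h, hB x x' b m' ω φ ψ h]).symm
  let D : DenseData P :=
    { hp := hp
      hq := hq
      F := F
      cov := cov
      B := fun {x x'} b => AddMonoidHom.mk' (B x x' b) (hBadd x x' b)
      B_smul := fun {x x'} b r m => (hB' x x' b (r • m) _ fun ω φ ψ h => by
        refine (F.obj.mapTop_smul φ _ _).trans ((F.obj.mapTop_smul ψ r m).trans ?_).symm
        refine congrArg₂ (· • ·) ?_ (hB x x' b m ω φ ψ h).symm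
        change fnMap (𝒳 := 𝒴) (P.map ψ) r = fnMap (𝒳 := 𝒴) (P.map φ) (fnMap (𝒳 := 𝒴) b r)
        rw [← fnMap_comp, h]).symm
      B_map := fun {x x'} χ m => (hB' x x' (P.map χ) m _ fun ω φ ψ h => by
        rw [← F.obj.mapTop_comp]
        exact inv _ _ m ((P.map_comp φ χ).trans h)).symm
      B_comp := fun {x x' x''} b b' m => (hB' x x'' (b ≫ b') m _ fun ω φ ψ h => by
        change F.obj.mapTop φ (B x x' b (B x' x'' b' m)) = F.obj.mapTop ψ m
        obtain ⟨w, φ₀, ψ₀, hφ₀, h₀⟩ := lift b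
        haveI := x.2
        haveI := ω.2
        obtain ⟨ω', φ', χ, hφ', hw⟩ := exists_pullback_cov hq hφ₀ φ
        refine injective_mapTop_cov (F := F) hφ' ?_
        rw [← F.obj.mapTop_comp, ← F.obj.mapTop_comp]
        refine (hB x x' b _ ⟨ω', hφ'.1⟩ (φ' ≫ φ) (χ ≫ ψ₀) ?_).trans
          (hB x' x'' b' m ⟨ω', hφ'.1⟩ (χ ≫ ψ₀) (φ' ≫ ψ) ?_)
        · rw [P.map_comp, P.map_comp, ← h₀, ← Category.assoc (P.map χ), ← P.map_comp, ← P.map_comp χ, hw]
        · rw [P.map_comp, P.map_comp, ← h, ← h₀, ← Category.assoc (P.map χ), ← P.map_comp χ, ← hw, P.map_comp]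
          simp only [Category.assoc]).symm }
  obtain ⟨I, -⟩ := D.exists_iso
  exact ⟨D.G, ⟨(StMod.isQCoh (srcCat P)).isoMk I⟩⟩

include hp cov in
/-- Morphisms are determined on the inverse images. -/
theorem hom_ext_of_comap {G G' : StMod.QCoh 𝒴} {f g : G.obj ⟶ G'.obj}
    (h : StMod.Mod.comapMap (srcMap P) f = StMod.Mod.comapMap (srcMap P) g) : f = g := by
  refine hom_ext_affine hp fun y hy e => ?_
  obtain ⟨x, b, hb⟩ := cov ⟨y, hy⟩
  haveI := hy
  refine injective_mapTop_cov (F := G') hb ?_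
  refine (StMod.Mod.mapTop_app f b e).trans (Eq.trans ?_ (StMod.Mod.mapTop_app g b e).symm)
  apply (srcSec (P := P) G' x.1).injective
  have h1 := comapMap_toSec (srcMap P) f x.1 (G.obj.mapTop b e)
  have h2 := comapMap_toSec (srcMap P) g x.1 (G.obj.mapTop b e)
  rw [h] at h1
  exact h1.symm.trans h2

include hp hq cov in
/-- Morphisms of inverse images commuting with the comparison maps between images come from the base. -/
theorem exists_hom_of_comap_of_comm {G G' : StMod.QCoh 𝒴}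
    (u : ((StMod.comapQ (srcMap P)).obj G).obj ⟶ ((StMod.comapQ (srcMap P)).obj G').obj)
    (hu : ∀ {x x' : AObj (srcCat P)} (b : P.obj x.1 ⟶ P.obj x'.1) (m : Sec G (P.obj x'.1)),
      (srcSec G' x.1).symm ((u.app x.1).app ⊤ (srcSec G x.1 (G.obj.mapTop b m))) =
        G'.obj.mapTop b ((srcSec G' x'.1).symm ((u.app x'.1).app ⊤ (srcSec G x'.1 m)))) :
    ∃ f : G.obj ⟶ G'.obj, StMod.Mod.comapMap (srcMap P) f = u := by
  classical
  let U : ∀ x : X₀, Sec G (P.obj x) → Sec G' (P.obj x) := fun x m =>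
    (srcSec G' x).symm ((u.app x).app ⊤ (srcSec G x m))
  have hUadd : ∀ x m m', U x (m + m') = U x m + U x m' := fun x m m' => by
    simp only [U]
    rw [map_add, map_add, map_add]
  have hUsmul : ∀ x (r : Fn 𝒴 (P.obj x)) m, U x (r • m) = r • U x m := fun x r m => by
    apply (srcSec (P := P) G' x).injective
    simp only [U]
    rw [AddEquiv.apply_symm_apply, srcSec_smul, srcSec_smul, AddEquiv.apply_symm_apply]
    exact Scheme.Modules.Hom.app_smul _ _ _
  have key : ∀ {x x' : AObj (srcCat P)} (b : P.obj x.1 ⟶ P.obj x'.1) (m : Sec G (P.obj x'.1)),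
      U x.1 (G.obj.mapTop b m) = G'.obj.mapTop b (U x'.1 m) := fun {x x'} b m => hu b m
  let T : ∀ (y : 𝒴.obj), Sec G y → Sec G' y → Prop := fun y e t =>
    ∀ (x : AObj (srcCat P)) (g : P.obj x.1 ⟶ y), G'.obj.mapTop g t = U x.1 (G.obj.mapTop g e)
  have ex : ∀ (y : 𝒴.obj), IsAffine (StMod.sch 𝒴 y) → ∀ e, ∃ t, T y e t ∧ ∀ t', T y e t' → t' = t := by
    intro y hy e
    obtain ⟨x₀, g₀, hg₀⟩ := cov ⟨y, hy⟩
    haveI := hy
    obtain ⟨t, ht⟩ := exists_of_equalizer (F := G') hp hg₀ (U x₀.1 (G.obj.mapTop g₀ e)) (fun ζ a c hζ h => by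
      obtain ⟨x₁, k, hk⟩ := cov ⟨ζ, hζ⟩
      haveI := hζ
      refine injective_mapTop_cov (F := G') hk ?_
      rw [← G'.obj.mapTop_comp, ← G'.obj.mapTop_comp, ← key (x := x₁) (x' := x₀),
        ← key (x := x₁) (x' := x₀), ← G.obj.mapTop_comp, ← G.obj.mapTop_comp, Category.assoc, Category.assoc, h])
    refine ⟨t, fun x g => ?_, fun t' ht' => injective_mapTop_cov (F := G') hg₀ ((ht' x₀ g₀).trans ht.symm)⟩
    haveI : IsAffine (StMod.sch 𝒴 (P.obj x.1)) := x.2
    obtain ⟨z, a, c, ha, hac⟩ := exists_pullback_cov (η := P.obj x.1) hp hg₀ g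
    obtain ⟨x₁, k, hk⟩ := cov ⟨z, ha.1⟩
    haveI := ha.1
    refine injective_mapTop_cov (F := G') (hk.comp ha) ?_
    rw [← G'.obj.mapTop_comp, Category.assoc, hac, ← Category.assoc, G'.obj.mapTop_comp, ht,
      ← key (x := x₁) (x' := x₀), ← G.obj.mapTop_comp, ← key (x := x₁) (x' := x), ← G.obj.mapTop_comp,
      Category.assoc, Category.assoc, hac]
  choose t ht ht' using ex
  let f : AffFam G G' := fun y hy =>
    { toFun := t y hy
      map_add' := fun p q => (ht' y hy _ _ fun x g => by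
        rw [G'.obj.mapTop_add, G.obj.mapTop_add, hUadd, ht y hy p x g, ht y hy q x g]).symm
      map_smul' := fun r p => (ht' y hy _ _ fun x g => by
        rw [RingHom.id_apply, G'.obj.mapTop_smul, G.obj.mapTop_smul, hUsmul, ht y hy p x g]).symm }
  obtain ⟨v, hv⟩ := exists_hom hp f (fun y' y χ hy' hy e => (ht' y' hy' _ _ fun x g => by
    rw [← G.obj.mapTop_comp, ← G'.obj.mapTop_comp]
    exact ht y hy e x (g ≫ χ)).symm)
  refine ⟨v, hom_ext_affine (F := (StMod.comapQ (srcMap P)).obj G) (G := (StMod.comapQ (srcMap P)).obj G') hq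
    fun x hx e => ?_⟩
  obtain ⟨m, rfl⟩ := (srcSec (P := P) G x).surjective e
  refine (comapMap_toSec (srcMap P) v x m).trans ?_
  have h1 := ht (P.obj x) hx m ⟨x, hx⟩ (𝟙 _)
  rw [G.obj.mapTop_id, G'.obj.mapTop_id] at h1
  refine (congrArg (toSec (srcMap P) G' x) ((hv (P.obj x) hx m).trans h1)).trans ?_
  exact (srcSec G' x).apply_symm_apply _

include hp hq cov lift in
/-- Morphisms of inverse images come from the base. -/
theorem exists_hom_of_comap {G G' : StMod.QCoh 𝒴}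
    (u : ((StMod.comapQ (srcMap P)).obj G).obj ⟶ ((StMod.comapQ (srcMap P)).obj G').obj) :
    ∃ f : G.obj ⟶ G'.obj, StMod.Mod.comapMap (srcMap P) f = u := by
  let U : ∀ x : X₀, Sec G (P.obj x) → Sec G' (P.obj x) := fun x m =>
    (srcSec G' x).symm ((u.app x).app ⊤ (srcSec G x m))
  have hUnat : ∀ {x' x : X₀} (φ : x' ⟶ x) m,
      U x' (G.obj.mapTop (P.map φ) m) = G'.obj.mapTop (P.map φ) (U x m) := fun {x' x} φ m => by
    apply (srcSec (P := P) G' x').injective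
    simp only [U]
    rw [AddEquiv.apply_symm_apply, ← srcSec_mapTop, ← srcSec_mapTop, AddEquiv.apply_symm_apply]
    exact (StMod.Mod.mapTop_app u φ _).symm
  have key : ∀ {x x' : AObj (srcCat P)} (b : P.obj x.1 ⟶ P.obj x'.1) (m : Sec G (P.obj x'.1)),
      U x.1 (G.obj.mapTop b m) = G'.obj.mapTop b (U x'.1 m) := fun {x x'} b m => by
    obtain ⟨w, φ, ψ, hφ, h⟩ := lift b
    haveI : IsAffine (StMod.sch 𝒴 (P.obj x.1)) := x.2
    refine injective_mapTop_cov (F := G') (φ := P.map φ) ⟨hφ.1, hφ.2.1, hφ.2.2⟩ ?_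
    rw [← hUnat, ← G.obj.mapTop_comp, ← G'.obj.mapTop_comp, h, hUnat]
  exact exists_hom_of_comap_of_comm hp hq cov u (fun b m => key b m)

end Lifted

end Groth.Agent.H14QCoh
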