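import Groth.Agent.H14QCoh.DenseData

/-!
# Descent along a dense functor
-/

set_option autoImplicit false
set_option linter.style.haveILetI false
set_option backward.isDefEq.respectTransparency false
set_option backward.isDefEq.respectTransparency.types false

universe v' w' w v u

open CategoryTheory CategoryTheory.Limits AlgebraicGeometry Opposite TopologicalSpace
open scoped TensorProduct

noncomputable section

namespace Groth.Agent.H14QCoh

namespace DenseData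

variable {S : Scheme.{u}} {𝒴 : BasedCategory.{v, w} (Over S)} {X₀ : Type w'} [Category.{v'} X₀]
  {P : X₀ ⥤ 𝒴.obj} (D : DenseData P)

/-- Effectivity of the descent on the chosen image. -/
theorem isBC_incl (y : AObj 𝒴) : IsBC (fnY P (D.cg y)) (D.evH (D.cg y)) := by
  haveI := y.2
  let X := D.cx y
  haveI := X.2
  let g : P.obj X.1 ⟶ y.1 := D.cg y
  have hg : IsCov g := D.isCov_cg y
  obtain ⟨W₂, a₂, p₁, hw₂, hpb₂'⟩ := D.exists_pull (w := X) g g
  have hpb₂ := hpb₂'.flip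
  haveI := W₂.2
  obtain ⟨W₃, a₃, o₁, hw₃, hpb₃'⟩ := D.exists_pull (w := W₂) g (P.map a₂ ≫ g)
  have hpb₃ := hpb₃'.flip
  let p₂ : P.obj W₂.1 ⟶ P.obj X.1 := P.map a₂
  let o₂₃ : P.obj W₃.1 ⟶ P.obj W₂.1 := P.map a₃
  let A := Fn 𝒴 y.1
  let B := Fn (srcCat P) X.1
  letI : Algebra A B := (fnY P g).toAlgebra
  haveI : Module.FaithfullyFlat A B := hg.faithfullyFlat
  letI : Module A (Sec D.F X.1) := Module.compHom _ (fnY P g)
  letI : Module B (Sec D.F W₂.1) := Module.compHom _ (fnb P p₁)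
  letI : Module A (Sec D.F W₂.1) := Module.compHom _ (fnY P (p₂ ≫ g))
  letI : Module B (Sec D.F W₃.1) := Module.compHom _ (fnb P o₁)
  have h₂ : IsBC (fnY P g) (D.B p₂) :=
    (D.isBC_B p₂).sq (isPushout_appTop_of_isPullback (Z := StMod.sch 𝒴 y.1) hpb₂)
  have h₃ : IsBC (fnY P g) (D.B o₂₃) :=
    (D.isBC_B o₂₃).sq (isPushout_appTop_of_isPullback (Z := StMod.sch 𝒴 y.1) hpb₃)
  obtain ⟨θ₂, hθ₂⟩ := h₂.exists_equiv
  obtain ⟨θ₃, hθ₃⟩ := h₃.exists_equiv
  let inc : D.Q y →ₗ[A] Sec D.F X.1 :=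
    { toFun := fun u => u.1, map_add' := fun _ _ => rfl, map_smul' := fun _ _ => rfl }
  have hA : ∀ (c : A), fnb P p₁ (fnY P g c) = fnY P (p₂ ≫ g) c := fun c => by rw [← fnY_comp, hw₂]
  let Dl : Sec D.F X.1 →ₗ[A] Sec D.F W₂.1 :=
    { toFun := fun n => D.B p₁ n - D.B p₂ n
      map_add' := fun m n => by rw [map_add, map_add]; abel
      map_smul' := fun c n => by
        change D.B p₁ (fnY P g c • n) - D.B p₂ (fnY P g c • n) = fnY P (p₂ ≫ g) c • (_ - _)
        rw [D.B_smul, D.B_smul, hA, ← fnY_comp, ← smul_sub] }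
  have hex : Function.Exact inc Dl := by
    intro n
    constructor
    · intro hn
      refine ⟨⟨n, fun ω p q h => ?_⟩, rfl⟩
      obtain ⟨e, he₁, he₂⟩ := exists_lift_square D.hp hw₂ hpb₂ p q h
      rw [← he₁, ← he₂, D.B_comp, D.B_comp, sub_eq_zero.1 hn]
    · rintro ⟨u, rfl⟩
      exact sub_eq_zero.2 (u.2 W₂ p₁ p₂ hw₂)
  let eta : Sec D.F X.1 →ₗ[B] B ⊗[A] Sec D.F X.1 :=
    { toFun := fun n => θ₂.symm (D.B p₁ n)
      map_add' := fun m n => by rw [map_add, map_add]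
      map_smul' := fun c n => by
        rw [D.B_smul, RingHom.id_apply]
        exact θ₂.symm.map_smul c _ }
  let l : B ⊗[A] D.Q y →ₗ[B] Sec D.F X.1 :=
    haveI : IsScalarTower A B (Sec D.F X.1) := .of_algebraMap_smul fun _ _ => rfl
    inc.liftBaseChange B
  have hl : ∀ t, eta (l t) = inc.lTensor B t := by
    intro t
    induction t using TensorProduct.induction_on with
    | zero => simp
    | add a b ha hb => rw [map_add, map_add, map_add, ha, hb]
    | tmul c k =>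
      change eta (c • k.1) = c ⊗ₜ k.1
      rw [map_smul]
      have : eta k.1 = (1 : B) ⊗ₜ k.1 := by
        change θ₂.symm _ = _
        rw [LinearEquiv.symm_apply_eq, hθ₂, one_smul]
        exact k.2 W₂ p₁ p₂ hw₂
      rw [this, TensorProduct.smul_tmul', smul_eq_mul, mul_one]
  refine isBC_of_tensor (fun c u => D.ev_smul (D.cg y) c u) ⟨l, ⟨fun s t hst => ?_, fun n => ?_⟩, fun u => ?_⟩
  · refine Module.Flat.lTensor_preserves_injective_linearMap (M := B) inc (fun a b e => Q.ext e) ?_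
    rw [← hl, ← hl, hst]
  · obtain ⟨e, he₁, he₂⟩ := exists_lift_square D.hp hw₂ hpb₂ (𝟙 _) (𝟙 _) rfl
    obtain ⟨e₁₂, a₁, a₂'⟩ := exists_lift_square D.hp hw₂ hpb₂ o₁ (o₂₃ ≫ p₁) (by rw [Category.assoc, hw₂, hw₃])
    obtain ⟨e₁₃, b₁, b₂⟩ := exists_lift_square D.hp hw₂ hpb₂ o₁ (o₂₃ ≫ p₂) (by rw [Category.assoc, hw₃])
    have hT : ∀ v, θ₃ (Dl.lTensor B v) = D.B e₁₂ (θ₂ v) - D.B e₁₃ (θ₂ v) := by
      intro v
      induction v using TensorProduct.induction_on with
      | zero => simp only [map_zero, sub_zero]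
      | add a b ha hb => rw [map_add, map_add, map_add, map_add, map_add, ha, hb]; abel
      | tmul c m =>
        rw [LinearMap.lTensor_tmul, hθ₃, hθ₂]
        change fnb P o₁ c • D.B o₂₃ (_ - _) = D.B e₁₂ (fnb P p₁ c • D.B p₂ m) - D.B e₁₃ (fnb P p₁ c • D.B p₂ m)
        have k₁ : fnb P e₁₂ (fnb P p₁ c) = fnb P o₁ c :=
          (fnMap_comp (𝒳 := 𝒴) e₁₂ p₁ c).symm.trans (congrArg (fun t => fnb P t c) a₁)
        have k₂ : fnb P e₁₃ (fnb P p₁ c) = fnb P o₁ c :=
          (fnMap_comp (𝒳 := 𝒴) e₁₃ p₁ c).symm.trans (congrArg (fun t => fnb P t c) b₁)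
        rw [map_sub, D.B_smul, D.B_smul, k₁, k₂, smul_sub, ← D.B_comp, ← D.B_comp, ← D.B_comp, ← D.B_comp,
          D.B_congr a₂', D.B_congr b₂]
    have hzero : Dl.lTensor B (eta n) = 0 := by
      refine θ₃.injective ?_
      rw [hT, map_zero, show θ₂ (eta n) = _ from θ₂.apply_symm_apply _, sub_eq_zero, ← D.B_comp, ← D.B_comp]
      exact D.B_congr (a₁.trans b₁.symm) n
    obtain ⟨t, ht⟩ := (Module.Flat.lTensor_exact B hex (eta n)).1 hzero
    refine ⟨t, ?_⟩
    have key : ∀ v : B ⊗[A] D.Q y, D.B e (θ₂ (inc.lTensor B v)) = l v := by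
      intro v
      induction v using TensorProduct.induction_on with
      | zero => simp
      | add a b ha hb => rw [map_add, map_add, map_add, map_add, ha, hb]
      | tmul c k =>
        rw [LinearMap.lTensor_tmul, hθ₂]
        change D.B e (fnb P p₁ c • D.B p₂ k.1) = c • k.1
        have k₁ : fnb P e (fnb P p₁ c) = c :=
          (fnMap_comp (𝒳 := 𝒴) e p₁ c).symm.trans
            ((congrArg (fun t => fnb P t c) he₁).trans (fnMap_id (𝒳 := 𝒴) _ c))
        rw [D.B_smul, k₁, ← D.B_comp, D.B_congr he₂, D.B_id]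
    rw [← key, ht, show θ₂ (eta n) = _ from θ₂.apply_symm_apply _, ← D.B_comp, D.B_congr he₁, D.B_id]
  · change l ((1 : B) ⊗ₜ u) = D.ev (D.cg y) u
    rw [D.ev_self u]
    exact one_smul B u.1

/-- Values are base changes. -/
theorem isBC_ev {y : AObj 𝒴} {x : AObj (srcCat P)} (b : P.obj x.1 ⟶ y.1) : IsBC (fnY P b) (D.evH b) := by
  haveI := x.2
  obtain ⟨x', φ, q, hq, hpb⟩ := D.exists_pull (D.cg y) b
  have hφ := D.isCov_of_pull (D.isCov_cg y) hpb
  refine IsBC.of_ff hφ.faithfullyFlat (D.ev_smul b) (isBC_mapTop D.F φ x'.2 x.2) ?_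
  have h1 := (D.isBC_incl y).comp (D.isBC_B q)
  have e1 : (fnMap φ).comp (fnY P b) = (fnb P q).comp (fnY P (D.cg y)) := RingHom.ext fun r => by
    rw [RingHom.comp_apply, RingHom.comp_apply, ← fnY_comp, hq]
    exact (fnY_comp P (P.map φ) b r).symm
  rw [e1]
  refine (congrArg (IsBC _) (AddMonoidHom.ext fun u => ?_)).mpr h1
  change D.F.obj.mapTop φ (D.ev b u) = D.B q (D.ev (D.cg y) u)
  rw [← D.B_map, B_ev, B_ev]
  exact D.ev_congr hq.symm u

theorem isBC_res {y y' : AObj 𝒴} (χ : y'.1 ⟶ y.1) : IsBC (fnMap χ) (D.res χ) := by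
  haveI := y'.2
  refine IsBC.of_ff (D.isCov_cg y').faithfullyFlat (fun c u => Q.ext ?_) (D.isBC_incl y') ?_
  · rw [res_val, ev_smul, smul_val, res_val, fnY_comp_right]
  · have e1 : (fnY P (D.cg y')).comp (fnMap χ) = fnY P (D.cg y' ≫ χ) :=
      RingHom.ext fun r => (fnY_comp_right P _ _ r).symm
    refine (congrArg (fun r => IsBC r _) e1).mpr ?_
    refine (congrArg (IsBC _) (AddMonoidHom.ext fun u => ?_)).mpr (D.isBC_ev (D.cg y' ≫ χ))
    exact D.ev_res (D.cg y') χ u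

/-- The descended data on the affine objects. -/
def data : AffData 𝒴 where
  P := D.Q
  r := D.res
  r_smul χ := (D.isBC_res χ).smul
  r_id y u := Q.ext (by rw [res_val, D.ev_congr (Category.comp_id _), D.ev_self u])
  r_comp ψ φ u := Q.ext (by
    rw [res_val, res_val, ev_res]
    exact D.ev_congr (Category.assoc _ _ _).symm u)
  bc χ := (D.isBC_res χ).bc

/-- The descended module. -/
def G : StMod.QCoh 𝒴 := D.data.ext D.hp

/-- Sections of the descended module over an affine object read on an image over it. -/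
def val {y : AObj 𝒴} {x : AObj (srcCat P)} (b : P.obj x.1 ⟶ y.1) : Sec D.G y.1 →+ Sec D.F x.1 :=
  AddMonoidHom.mk' (fun s => D.ev b (D.data.toP D.hp y s)) fun s t =>
    (congrArg (D.ev b) (D.data.toP_add D.hp y s t)).trans (D.ev_add b _ _)

lemma val_smul {y : AObj 𝒴} {x : AObj (srcCat P)} (b : P.obj x.1 ⟶ y.1) (c : Fn 𝒴 y.1) (s : Sec D.G y.1) :
    D.val b (c • s) = fnY P b c • D.val b s :=
  (congrArg (D.ev b) (D.data.toP_smul D.hp y c s)).trans (D.ev_smul b c _)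

lemma val_mapTop {y' y : AObj 𝒴} {x : AObj (srcCat P)} (b : P.obj x.1 ⟶ y'.1) (χ : y'.1 ⟶ y.1)
    (s : Sec D.G y.1) : D.val b (D.G.obj.mapTop χ s) = D.val (b ≫ χ) s :=
  (congrArg (D.ev b) (D.data.toP_mapTop D.hp χ s)).trans (D.ev_res b χ _)

lemma B_val {y : AObj 𝒴} {x' x : AObj (srcCat P)} (e : P.obj x'.1 ⟶ P.obj x.1) (b : P.obj x.1 ⟶ y.1)
    (s : Sec D.G y.1) : D.B e (D.val b s) = D.val (e ≫ b) s :=
  D.B_ev e b _

theorem bijective_val (x : AObj (srcCat P)) :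
    Function.Bijective (D.val (y := img P x) (x := x) (𝟙 (P.obj x.1))) := by
  haveI : IsAffine (StMod.sch 𝒴 (P.obj x.1)) := x.2
  have h := D.isBC_ev (y := img P x) (x := x) (𝟙 (P.obj x.1))
  have hff := (isCov_id (𝒳 := 𝒴) (P.obj x.1)).faithfullyFlat
  refine Function.Bijective.comp (g := D.evH (y := img P x) (x := x) (𝟙 (P.obj x.1)))
    ⟨h.injective_of_ff hff, fun v => h.induction
    (P := fun v => ∃ u, D.evH (y := img P x) (x := x) (𝟙 (P.obj x.1)) u = v) v ⟨0, map_zero _⟩ ?_ ?_⟩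
    (D.data.bijective_toP D.hp (img P x))
  · rintro a b ⟨u, rfl⟩ ⟨v, rfl⟩
    exact ⟨u + v, map_add _ _ _⟩
  · intro c u
    exact ⟨(show Fn 𝒴 (img P x).1 from c) • u, by rw [h.smul]; exact congrArg (· • _) (fnMap_id (𝒳 := 𝒴) _ c)⟩

end DenseData

end Groth.Agent.H14QCoh
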