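import Groth.Agent.H14QCoh.AtlasF
import Groth.Agent.H14QCoh.Transfer
import Groth.Agent.H14QCoh.FlatCharts

/-!
# Transfer along functors representable by isomorphisms
-/

set_option autoImplicit false
set_option linter.style.haveILetI false
set_option backward.isDefEq.respectTransparency false
set_option backward.isDefEq.respectTransparency.types false

universe t u

open CategoryTheory CategoryTheory.Limits AlgebraicGeometry

noncomputable section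

namespace Groth.Agent.H14QCoh

variable {S : Scheme.{u}} {𝒳 𝒲 : AlgSt.Cat S} {q : 𝒲 ⥤ᵇ 𝒳}

/-- An arrow over an isomorphism of schemes is an isomorphism. -/
lemma isIso_of_bmap (hw : FibCat.IsFibGrpd 𝒲.p) {z' z : 𝒲.obj} (k : z' ⟶ z) [IsIso (StMod.bmap 𝒲 k)] :
    IsIso k := by
  obtain ⟨c, hc, hcb⟩ := exists_factor hw k (𝟙 z) (inv (StMod.bmap 𝒲 k)) (by simp)
  refine ⟨c, hom_ext_bmap hw k ?_ ?_, hc⟩
  · rw [Category.assoc, hc, Category.comp_id, Category.id_comp]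
  · rw [StMod.bmap_comp, hcb, IsIso.hom_inv_id, StMod.bmap_id]

/-- An atlas pulls back along a functor representable by isomorphisms. -/
theorem AffRep.nonempty_atlas_of_isIso (R : AffRep q) (hR : ∀ ξ, IsIso (StMod.bmap 𝒳 (R.e ξ)))
    (hw : FibCat.IsFibGrpd 𝒲.p) (𝔸 : Atlas 𝒳) : Nonempty (Atlas 𝒲) := by
  have hg : ∀ ξ, IsIso (R.g ξ) := fun ξ => by
    haveI := hR ξ
    exact inferInstanceAs (IsIso (eqToHom _ ≫ StMod.bmap 𝒳 (R.e ξ)))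
  have haff : ∀ ξ, IsAffine (StMod.sch 𝒳 ξ) → IsAffine (StMod.sch 𝒲 (R.z ξ)) := fun ξ hξ =>
    haveI := hg ξ
    IsAffine.of_isIso (R.g ξ)
  have hs : ∀ ζ, ∃ j : R.z (q.obj ζ) ⟶ ζ, q.map j = R.e (q.obj ζ) ∧ IsIso (StMod.bmap 𝒲 j) := by
    intro ζ
    haveI := hg (q.obj ζ)
    haveI : IsIso (StMod.bmap 𝒲 (R.sect ζ) ≫ R.g (q.obj ζ)) := by rw [R.sect_g]; infer_instance
    haveI : IsIso (StMod.bmap 𝒲 (R.sect ζ)) := IsIso.of_isIso_comp_right _ (R.g (q.obj ζ))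
    haveI := isIso_of_bmap hw (R.sect ζ)
    refine ⟨inv (R.sect ζ), ?_, inferInstanceAs
      (IsIso ((𝒲.p ⋙ Over.forget S).map (inv (R.sect ζ))))⟩
    rw [Functor.map_inv, IsIso.inv_eq_of_hom_inv_id]
    exact R.sect_spec ζ
  have hcov : ∀ ζ {ξ' : 𝒳.obj} {φ : ξ' ⟶ q.obj ζ} (j : R.z (q.obj ζ) ⟶ ζ), IsIso (StMod.bmap 𝒲 j) →
      IsCov φ → IsCov (R.c φ ≫ j) := by
    intro ζ ξ' φ j hj hφ
    haveI := hj
    have h := R.isPullback_g φ
    refine ⟨haff _ hφ.1, ?_, ?_⟩ <;> rw [StMod.bmap_comp]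
    · exact MorphismProperty.comp_mem @Flat _ _ (MorphismProperty.of_isPullback (P := @Flat) h.flip hφ.2.1)
        inferInstance
    · exact MorphismProperty.comp_mem @Surjective _ _
        (MorphismProperty.of_isPullback (P := @Surjective) h.flip hφ.2.2) inferInstance
  refine ⟨{
    x := R.z 𝔸.x
    y := R.z 𝔸.y
    a := R.c 𝔸.a
    b := R.c 𝔸.b
    affx := haff _ 𝔸.affx
    affy := haff _ 𝔸.affy
    cov := fun ζ hζ => ?_
    cov₂ := fun ζ α β hζ => ?_ }⟩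
  · obtain ⟨j, -, hj⟩ := hs ζ
    obtain ⟨ξ', φ, hφ, ⟨γ⟩⟩ := 𝔸.cov (q.obj ζ) ((isAffine_obj_iff q ζ).2 hζ)
    exact ⟨R.z ξ', R.c φ ≫ j, hcov ζ j hj hφ, ⟨R.c γ⟩⟩
  · obtain ⟨j, hjq, hj⟩ := hs ζ
    obtain ⟨ξ', φ, c, hφ, h₁, h₂⟩ :=
      𝔸.cov₂ (q.obj ζ) (q.map α ≫ R.e 𝔸.x) (q.map β ≫ R.e 𝔸.x) ((isAffine_obj_iff q ζ).2 hζ)
    have key : ∀ (α : ζ ⟶ R.z 𝔸.x) (a : 𝔸.y ⟶ 𝔸.x), φ ≫ q.map α ≫ R.e 𝔸.x = c ≫ a →
        (R.c φ ≫ j) ≫ α = R.c c ≫ R.c a := by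
      intro α a h
      refine (R.existsUnique 𝔸.x _ (R.e ξ' ≫ c ≫ a)).unique ?_ ?_
      · rw [q.map_comp, q.map_comp, hjq, R.c_spec, Category.assoc, Category.assoc, h]
      · rw [q.map_comp, Category.assoc, R.c_spec, ← Category.assoc, R.c_spec, Category.assoc]
    exact ⟨R.z ξ', R.c φ ≫ j, R.c c, hcov ζ j hj hφ, key α 𝔸.a h₁, key β 𝔸.b h₂⟩

/-- Generation by the structure sheaf pulls back along an affine representable functor. -/
theorem AffRep.isGenFam_O (R : AffRep q) (hp : FibCat.IsFibGrpd 𝒳.p) (hw : FibCat.IsFibGrpd 𝒲.p)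
    (h : StMod.IsGenFam fun _ : PUnit.{u + 1} => StMod.OQ 𝒳) :
    StMod.IsGenFam fun _ : PUnit.{u + 1} => StMod.OQ 𝒲 :=
  isGenFam_congr (E := fun _ : PUnit.{u + 1} => (StMod.comapQ q).obj (StMod.OQ 𝒳))
    (E' := fun _ : PUnit.{u + 1} => StMod.OQ 𝒲) (fun _ => (StMod.comapOIso q).symm)
    (R.isGenFam_comapQ hp hw _ h)

end Groth.Agent.H14QCoh
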