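import Groth.Agent.H14QCoh.FlatCharts
import Groth.Agent.H14AlgSt.FieldPoint

/-!
# From base changes to stacks to the categories over objects
-/

set_option autoImplicit false
set_option linter.style.haveILetI false
set_option backward.isDefEq.respectTransparency false
set_option backward.isDefEq.respectTransparency.types false

universe t u

open CategoryTheory CategoryTheory.Limits AlgebraicGeometry

noncomputable section

namespace Groth.Agent.H14QCoh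

open H14Fib H14AlgSt H14Stk

variable {S : Scheme.{u}} {𝒳 𝒴 𝒲 : AlgSt.Cat S} (f : 𝒳 ⥤ᵇ 𝒴) (g : 𝒲 ⥤ᵇ 𝒴) (θ : 𝒲.obj)

/-- The arrow to `g θ` of an object of the fibre product over `θ`. -/
def stArrow (ω : (StMod.fibCat (FibCat.fpSnd f g) θ).obj) : f.obj ω.left.obj.fst ⟶ g.obj θ :=
  ω.left.obj.iso.hom ≫ g.map ω.hom

lemma stArrow_nat {ω' ω : (StMod.fibCat (FibCat.fpSnd f g) θ).obj} (m : ω' ⟶ ω) :
    f.map m.left.hom.fst ≫ stArrow f g θ ω = stArrow f g θ ω' := by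
  have hw : f.map m.left.hom.fst ≫ ω.left.obj.iso.hom = ω'.left.obj.iso.hom ≫ g.map m.left.hom.snd := m.left.hom.w
  have hm : m.left.hom.snd ≫ ω.hom = ω'.hom := CostructuredArrow.w m
  rw [stArrow, stArrow, reassoc_of% hw, ← g.map_comp, hm]

variable (h𝒴 : FibCat.IsFibGrpd 𝒴.p) (h𝒲 : FibCat.IsFibGrpd 𝒲.p)

include h𝒲 in
lemma st_ext_fst {ω' ω : (StMod.fibCat (FibCat.fpSnd f g) θ).obj} {m n : ω' ⟶ ω}
    (h : m.left.hom.fst = n.left.hom.fst) : m = n := by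
  refine CostructuredArrow.hom_ext _ _ (fp_hom_ext h ?_)
  have key := fun k : ω'.left ⟶ ω.left => Functor.congr_hom (FibCat.fpSnd f g).w k
  have hm := key m.left
  have hn := key n.left
  change 𝒲.p.map m.left.hom.snd = _ ≫ 𝒳.p.map m.left.hom.fst ≫ _ at hm
  change 𝒲.p.map n.left.hom.snd = _ ≫ 𝒳.p.map n.left.hom.fst ≫ _ at hn
  refine hom_ext_bmap h𝒲 (show ω.left.obj.snd ⟶ θ from ω.hom) ?_ ?_
  · exact (CostructuredArrow.w m).trans (CostructuredArrow.w n).symm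
  · change (𝒲.p.map m.left.hom.snd).left = (𝒲.p.map n.left.hom.snd).left
    rw [hm, hn, h]

include h𝒴 h𝒲 in
theorem st_full {ω' ω : (StMod.fibCat (FibCat.fpSnd f g) θ).obj} (b : ω'.left.obj.fst ⟶ ω.left.obj.fst)
    (hb : f.map b ≫ stArrow f g θ ω = stArrow f g θ ω') : ∃ m : ω' ⟶ ω, m.left.hom.fst = b := by
  let γ : ω.left.obj.snd ⟶ θ := ω.hom
  let γ' : ω'.left.obj.snd ⟶ θ := ω'.hom
  have e : 𝒲.p.obj ω.left.obj.snd = 𝒳.p.obj ω.left.obj.fst := (FibCat.fpSnd f g).w_obj ω.left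
  have e' : 𝒲.p.obj ω'.left.obj.snd = 𝒳.p.obj ω'.left.obj.fst := (FibCat.fpSnd f g).w_obj ω'.left
  let hR : 𝒳.p.obj ω.left.obj.fst ⟶ 𝒲.p.obj θ := eqToHom e.symm ≫ 𝒲.p.map γ
  let hR' : 𝒳.p.obj ω'.left.obj.fst ⟶ 𝒲.p.obj θ := eqToHom e'.symm ≫ 𝒲.p.map γ'
  have hγ : 𝒲.p.IsHomLift hR γ := IsHomLift.of_fac _ _ _ e rfl (by simp [hR])
  have hγ' : 𝒲.p.IsHomLift hR' γ' := IsHomLift.of_fac _ _ _ e' rfl (by simp [hR'])
  have hgγ : 𝒴.p.IsHomLift hR (g.map γ) := @BasedFunctor.preserves_isHomLift _ _ _ _ g _ _ _ _ hR γ hγ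
  have hgγ' : 𝒴.p.IsHomLift hR' (g.map γ') := @BasedFunctor.preserves_isHomLift _ _ _ _ g _ _ _ _ hR' γ' hγ'
  have hi : 𝒴.p.IsHomLift (𝟙 (𝒳.p.obj ω.left.obj.fst)) ω.left.obj.iso.hom := ω.left.property
  have hi' : 𝒴.p.IsHomLift (𝟙 (𝒳.p.obj ω'.left.obj.fst)) ω'.left.obj.iso.hom := ω'.left.property
  have hfb : 𝒴.p.IsHomLift (𝒳.p.map b) (f.map b) :=
    @BasedFunctor.preserves_isHomLift _ _ _ _ f _ _ _ _ (𝒳.p.map b) b (IsHomLift.map 𝒳.p b)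
  have l1 : 𝒴.p.IsHomLift (𝒳.p.map b ≫ 𝟙 (𝒳.p.obj ω.left.obj.fst) ≫ hR) (f.map b ≫ stArrow f g θ ω) :=
    homLift_comp' hfb (homLift_comp' hi hgγ)
  have l2 : 𝒴.p.IsHomLift (𝟙 (𝒳.p.obj ω'.left.obj.fst) ≫ hR') (stArrow f g θ ω') := homLift_comp' hi' hgγ'
  rw [hb] at l1
  have hRR : 𝒳.p.map b ≫ hR = hR' := by
    have h1 := IsHomLift.fac 𝒴.p (𝒳.p.map b ≫ 𝟙 (𝒳.p.obj ω.left.obj.fst) ≫ hR) (stArrow f g θ ω')
    have h2 := IsHomLift.fac 𝒴.p (𝟙 (𝒳.p.obj ω'.left.obj.fst) ≫ hR') (stArrow f g θ ω')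
    simpa using h1.trans h2.symm
  have := sc_of_fibGrpd h𝒲 hR γ
  let c : ω'.left.obj.snd ⟶ ω.left.obj.snd :=
    CategoryTheory.Functor.IsStronglyCartesian.map 𝒲.p hR γ (g := 𝒳.p.map b) hRR.symm γ'
  have hc : 𝒲.p.IsHomLift (𝒳.p.map b) c := CategoryTheory.Functor.IsStronglyCartesian.map_isHomLift _ _ _ _ _
  have hce : c ≫ γ = γ' := CategoryTheory.Functor.IsStronglyCartesian.fac _ _ _ _ _
  have hgc : 𝒴.p.IsHomLift (𝒳.p.map b) (g.map c) :=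
    @BasedFunctor.preserves_isHomLift _ _ _ _ g _ _ _ _ (𝒳.p.map b) c hc
  have hw : f.map b ≫ ω.left.obj.iso.hom = ω'.left.obj.iso.hom ≫ g.map c := by
    have h3 : 𝒴.p.IsHomLift (𝒳.p.map b) (f.map b ≫ ω.left.obj.iso.hom) := by simpa using homLift_comp' hfb hi
    have h4 : 𝒴.p.IsHomLift (𝒳.p.map b) (ω'.left.obj.iso.hom ≫ g.map c) := by simpa using homLift_comp' hi' hgc
    have := sc_of_fibGrpd h𝒴 hR (g.map γ)
    refine CategoryTheory.Functor.IsStronglyCartesian.ext 𝒴.p hR (g.map γ) (𝒳.p.map b) ?_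
    rw [Category.assoc, Category.assoc, ← g.map_comp, hce]
    exact hb
  exact ⟨CostructuredArrow.homMk (fpHom b c hw) hce, rfl⟩

include h𝒴 h𝒲 in
theorem exists_st_obj (x : (StMod.fibCat f (g.obj θ)).obj) :
    ∃ (t : 𝒲.obj) (γ : t ⟶ θ) (χ : f.obj x.left ≅ g.obj t),
      𝒴.p.IsHomLift (𝟙 (𝒳.p.obj x.left)) χ.hom ∧ χ.hom ≫ g.map γ = x.hom := by
  let R := 𝒳.p.obj x.left
  let α : f.obj x.left ⟶ g.obj θ := x.hom
  let hR : R ⟶ 𝒲.p.obj θ := eqToHom (f.w_obj x.left).symm ≫ 𝒴.p.map α ≫ eqToHom (g.w_obj θ)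
  have hα : 𝒴.p.IsHomLift hR α := IsHomLift.of_fac _ _ _ (f.w_obj x.left) (g.w_obj θ) rfl
  obtain ⟨t, γ, hγ⟩ := h𝒲.exists_lift (x := θ) hR
  have hgγ : 𝒴.p.IsHomLift hR (g.map γ) := @BasedFunctor.preserves_isHomLift _ _ _ _ g _ _ _ _ hR γ hγ
  have := sc_of_fibGrpd h𝒴 hR (g.map γ)
  let χ : f.obj x.left ⟶ g.obj t := CategoryTheory.Functor.IsStronglyCartesian.map 𝒴.p hR (g.map γ) (g := 𝟙 R)
    (Category.id_comp hR).symm α
  have hχ : 𝒴.p.IsHomLift (𝟙 R) χ := CategoryTheory.Functor.IsStronglyCartesian.map_isHomLift _ _ _ _ _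
  have hχe : χ ≫ g.map γ = α := CategoryTheory.Functor.IsStronglyCartesian.fac _ _ _ _ _
  have := isIso_of_fibGrpd h𝒴 (𝟙 R) χ
  exact ⟨t, γ, asIso χ, hχ, hχe⟩

/-- The point of the fibre product of an object over `g θ`. -/
def toStPt (x : (StMod.fibCat f (g.obj θ)).obj) : (FibCat.fp f g).obj :=
  ⟨{ fst := x.left
     snd := (exists_st_obj f g θ h𝒴 h𝒲 x).choose
     iso := (exists_st_obj f g θ h𝒴 h𝒲 x).choose_spec.choose_spec.choose },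
    (exists_st_obj f g θ h𝒴 h𝒲 x).choose_spec.choose_spec.choose_spec.1⟩

/-- The object of the fibre product over `θ` of an object over `g θ`. -/
def toStObj (x : (StMod.fibCat f (g.obj θ)).obj) : (StMod.fibCat (FibCat.fpSnd f g) θ).obj :=
  CostructuredArrow.mk (show (FibCat.fpSnd f g).toFunctor.obj (toStPt f g θ h𝒴 h𝒲 x) ⟶ θ from
    (exists_st_obj f g θ h𝒴 h𝒲 x).choose_spec.choose)

lemma stArrow_toStObj (x : (StMod.fibCat f (g.obj θ)).obj) :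
    stArrow f g θ (toStObj f g θ h𝒴 h𝒲 x) = x.hom :=
  (exists_st_obj f g θ h𝒴 h𝒲 x).choose_spec.choose_spec.choose_spec.2

lemma toSt_map_exists {x' x : (StMod.fibCat f (g.obj θ)).obj} (m : x' ⟶ x) :
    ∃ k : toStObj f g θ h𝒴 h𝒲 x' ⟶ toStObj f g θ h𝒴 h𝒲 x, k.left.hom.fst = m.left :=
  st_full f g θ h𝒴 h𝒲 (ω' := toStObj f g θ h𝒴 h𝒲 x') (ω := toStObj f g θ h𝒴 h𝒲 x) m.left
    (by rw [stArrow_toStObj, stArrow_toStObj]; exact CostructuredArrow.w m)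

/-- The category over `g θ` mapped to the category of the base change over `θ`. -/
def toSt : StMod.fibCat f (g.obj θ) ⥤ᵇ StMod.fibCat (FibCat.fpSnd f g) θ where
  toFunctor :=
    { obj := toStObj f g θ h𝒴 h𝒲
      map := fun m => CostructuredArrow.homMk (fpHom m.left (toSt_map_exists f g θ h𝒴 h𝒲 m).choose.left.hom.snd (by
        have hw := (toSt_map_exists f g θ h𝒴 h𝒲 m).choose.left.hom.w
        rw [(toSt_map_exists f g θ h𝒴 h𝒲 m).choose_spec] at hw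
        exact hw)) (CostructuredArrow.w (toSt_map_exists f g θ h𝒴 h𝒲 m).choose)
      map_id := fun _ => st_ext_fst f g θ h𝒲 rfl
      map_comp := fun _ _ => st_ext_fst f g θ h𝒲 rfl }
  w := rfl

lemma idStArrow (ω : (StMod.fibCat (FibCat.fpSnd f g) θ).obj) :
    f.map (𝟙 ω.left.obj.fst) ≫ stArrow f g θ ω =
      stArrow f g θ (toStObj f g θ h𝒴 h𝒲 (CostructuredArrow.mk (stArrow f g θ ω))) :=
  ((congrArg (· ≫ stArrow f g θ ω) (f.map_id _)).trans (Category.id_comp _)).trans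
    (stArrow_toStObj f g θ h𝒴 h𝒲 (CostructuredArrow.mk (stArrow f g θ ω))).symm

/-- The universal arrow of an object of the base change over `θ`. -/
def toStUniv (ω : (StMod.fibCat (FibCat.fpSnd f g) θ).obj) :
    toStObj f g θ h𝒴 h𝒲 (CostructuredArrow.mk (stArrow f g θ ω)) ⟶ ω :=
  (st_full f g θ h𝒴 h𝒲 (ω' := toStObj f g θ h𝒴 h𝒲 (CostructuredArrow.mk (stArrow f g θ ω))) (ω := ω)
    (𝟙 ω.left.obj.fst) (idStArrow f g θ h𝒴 h𝒲 ω)).choose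

lemma toStUniv_fst (ω : (StMod.fibCat (FibCat.fpSnd f g) θ).obj) :
    (toStUniv f g θ h𝒴 h𝒲 ω).left.hom.fst = 𝟙 ω.left.obj.fst :=
  (st_full f g θ h𝒴 h𝒲 (ω' := toStObj f g θ h𝒴 h𝒲 (CostructuredArrow.mk (stArrow f g θ ω))) (ω := ω)
    (𝟙 ω.left.obj.fst) (idStArrow f g θ h𝒴 h𝒲 ω)).choose_spec

lemma isIso_bmap_toStUniv (ω : (StMod.fibCat (FibCat.fpSnd f g) θ).obj) :
    IsIso (StMod.bmap (StMod.fibCat (FibCat.fpSnd f g) θ) (toStUniv f g θ h𝒴 h𝒲 ω)) := by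
  change IsIso (StMod.bmap 𝒳 (toStUniv f g θ h𝒴 h𝒲 ω).left.hom.fst)
  rw [toStUniv_fst]
  change IsIso (StMod.bmap 𝒳 (𝟙 ω.left.obj.fst))
  rw [StMod.bmap_id]
  infer_instance

/-- The comparison is representable by affine morphisms. -/
def toStAffRep : AffRep (toSt f g θ h𝒴 h𝒲) where
  z ω := CostructuredArrow.mk (stArrow f g θ ω)
  e ω := toStUniv f g θ h𝒴 h𝒲 ω
  isAffineHom ω :=
    haveI := isIso_bmap_toStUniv f g θ h𝒴 h𝒲 ω
    inferInstance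
  existsUnique ω x α := by
    refine ⟨CostructuredArrow.homMk α.left.hom.fst ?_, st_ext_fst f g θ h𝒲 ?_, fun c hc => ?_⟩
    · exact (stArrow_nat f g θ α).trans (stArrow_toStObj f g θ h𝒴 h𝒲 x)
    · exact (congrArg (α.left.hom.fst ≫ ·) (toStUniv_fst f g θ h𝒴 h𝒲 ω)).trans (Category.comp_id _)
    · refine CostructuredArrow.hom_ext _ _ ?_
      have := congrArg (fun k => k.left.hom.fst) hc
      exact ((congrArg (c.left ≫ ·) (toStUniv_fst f g θ h𝒴 h𝒲 ω)).trans (Category.comp_id _)).symm.trans this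
  cart {ω' ω} φ c h :=
    @IsPullback.of_vert_isIso _ _ _ _ _ _ _ _ _ _ (isIso_bmap_toStUniv f g θ h𝒴 h𝒲 ω')
      (isIso_bmap_toStUniv f g θ h𝒴 h𝒲 ω) ⟨by rw [← StMod.bmap_comp, ← StMod.bmap_comp, h]⟩

/-- Generation relative to a base change gives generation over an object mapping to the image of an affine object. -/
theorem isGenFam_of_stack (h𝒳 : FibCat.IsFibGrpd 𝒳.p) (h𝒴 : FibCat.IsFibGrpd 𝒴.p) (h𝒲 : FibCat.IsFibGrpd 𝒲.p)
    {ι : Type t} (E : ι → StMod.QCoh 𝒳)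
    (hgen : StMod.IsRelGenFam (FibCat.fpSnd f g) (fun j => (StMod.comapQ (FibCat.fpFst f g)).obj (E j)))
    (hθ : IsAffine (StMod.sch 𝒲 θ)) {η' : 𝒴.obj} (hη' : IsAffine (StMod.sch 𝒴 η')) (β : η' ⟶ g.obj θ) :
    StMod.IsGenFam (fun j => (StMod.comapQ (StMod.fibFst f η')).obj (E j)) := by
  have hT : IsAffine (StMod.sch 𝒴 (g.obj θ)) := (isAffine_obj_iff g θ).2 hθ
  have h0 := hgen θ hθ
  have h1 := (toStAffRep f g θ h𝒴 h𝒲).isGenFam_comapQ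
    (fibCat_fibGrpd (FibCat.fpSnd f g) θ (fp_fibGrpd (F := f) (G := g) h𝒳 h𝒲 h𝒴))
    (fibCat_fibGrpd f _ h𝒳) _ h0
  let π := BasedFunctor.comp (StMod.fibFst (FibCat.fpSnd f g) θ) (FibCat.fpFst f g)
  have h2 : StMod.IsGenFam (fun j => (StMod.comapQ (StMod.fibFst f (g.obj θ))).obj (E j)) :=
    isGenFam_congr (E := fun j => (StMod.comapQ (toSt f g θ h𝒴 h𝒲)).obj
      ((StMod.comapQ (StMod.fibFst (FibCat.fpSnd f g) θ)).obj ((StMod.comapQ (FibCat.fpFst f g)).obj (E j))))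
      (fun j => StMod.comapCompIso π (toSt f g θ h𝒴 h𝒲) (E j).obj ≪≫
        (StMod.comapFunctor (toSt f g θ h𝒴 h𝒲)).mapIso
          (StMod.comapCompIso (FibCat.fpFst f g) (StMod.fibFst (FibCat.fpSnd f g) θ) (E j).obj)) h1
  have h3 := (bcAffRep f β h𝒳 h𝒴 hη' hT).isGenFam_comapQ (fibCat_fibGrpd f _ h𝒳) (fibCat_fibGrpd f _ h𝒳) _ h2
  exact isGenFam_congr
    (E := fun j => (StMod.comapQ (bcFun f β)).obj ((StMod.comapQ (StMod.fibFst f (g.obj θ))).obj (E j)))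
    (fun j => StMod.comapCompIso (StMod.fibFst f (g.obj θ)) (bcFun f β) (E j).obj) h3

/-- The category over objects of a base is covered by objects over an atlas of a flat morphism to it. -/
theorem exists_affine_objects (h𝒴 : AlgSt.IsAlgStack Scheme.fppfPrecoverage 𝒴) {A : Type u} {𝒲 : A → AlgSt.Cat S}
    (h𝒲 : ∀ a, FibCat.IsFibGrpd (𝒲 a).p) (g : ∀ a, 𝒲 a ⥤ᵇ 𝒴) (hfl : ∀ a, AlgSt.LocQ (AlgSp.LocP @Flat) (g a))
    (hsurj : ∀ p : AlgSt.Points 𝒴, ∃ (a : A) (q : AlgSt.Points (𝒲 a)), AlgSt.Points.map (g a) q = p)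
    (η : 𝒴.obj) :
    ∃ (κ : Type u) (η' : κ → 𝒴.obj) (β : ∀ k, η' k ⟶ η),
      (∀ k, IsAffine (StMod.sch 𝒴 (η' k))) ∧ (∀ k, Flat (StMod.bmap 𝒴 (β k))) ∧
      (∀ p : StMod.sch 𝒴 η, ∃ k q, StMod.bmap 𝒴 (β k) q = p) ∧
      ∀ k, ∃ (a : A) (θ : (𝒲 a).obj), IsAffine (StMod.sch (𝒲 a) θ) ∧ Nonempty (η' k ⟶ (g a).obj θ) := by
  choose U V x y h i hx hxs hy hh using hfl
  have hrep : ∀ a, AlgSt.RepByAlgSpWith (AlgSp.LocP @Flat) (BasedFunctor.comp (x a) (g a)) := fun a =>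
    repWith_of_iso (i a).symm (repWith_locP_comp H12AlgSp.etLocal_flat (fibGrpd_overCat (U a))
      (fibGrpd_overCat (V a)) (repWith_overMap H12AlgSp.etLocal_flat (h a) (AlgSp.locP_yon_map (hh a)))
      (repWith_locP_mono smooth_le_flat (hy a)))
  have hs : ∀ p : AlgSt.Points 𝒴, ∃ (a : A) (t : (U a).left),
      AlgSt.Points.ofChart (BasedFunctor.comp (x a) (g a)) t = p := fun p => by
    obtain ⟨a, q, hq⟩ := hsurj p
    obtain ⟨t, ht⟩ := ofChart_surjective (h𝒲 a) (hxs a) q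
    exact ⟨a, t, by rw [ofChart_comp, ht, hq]⟩
  obtain ⟨κ, η', β, a, haff, hflat, hcov, hm⟩ := exists_affine_charts h𝒴.isStack.1 _ hrep hs η
  refine ⟨κ, η', β, haff, hflat, hcov, fun k => ⟨a k, ?_⟩⟩
  obtain ⟨m⟩ := hm k
  let w := BasedFunctor.comp (x (a k)) (g (a k))
  obtain ⟨s, χ, es, -, -⟩ := exists_vertical h𝒴.isStack.1 w m
  refine ⟨(x (a k)).obj s, ?_, ⟨χ.inv⟩⟩
  rw [show StMod.sch (𝒲 (a k)) ((x (a k)).obj s) = StMod.sch 𝒴 (η' k) from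
    congrArg (fun t => t.left) (((x (a k)).w_obj s).trans es)]
  exact haff k

end Groth.Agent.H14QCoh
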