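import Groth.Agent.H14QCoh.Gen
import Groth.Agent.H14QCoh.EquivRep
import Groth.Agent.H14QCoh.AtlasFExists
import Groth.Agent.H14QCoh.StackCharts
import Groth.Agent.H14AlgSt.QC
import Groth.Agent.H14AlgSt.Diag2

/-!
# The categories over objects of a factor as base changes of the diagonal
-/

set_option autoImplicit false
set_option linter.style.haveILetI false
set_option backward.isDefEq.respectTransparency false
set_option backward.isDefEq.respectTransparency.types false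

universe t u

open CategoryTheory CategoryTheory.Limits AlgebraicGeometry

noncomputable section

namespace Groth.Agent.H14QCoh

open H14Fib H14AlgSt H14Stk

variable {S : Scheme.{u}} {𝒳 𝒴 𝒵 : AlgSt.Cat S}

local notation "K₀" => Scheme.fppfPrecoverage

/-- The diagonal of a quasi-separated morphism is quasi-compact and quasi-separated. -/
theorem diag_qc_qs (h𝒴 : AlgSt.IsAlgStack K₀ 𝒴) (h𝒵 : AlgSt.IsAlgStack K₀ 𝒵) (g : 𝒴 ⥤ᵇ 𝒵)
    (hg : AlgSt.IsQuasiSeparatedMor g) :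
    AlgSt.IsQuasiCompactMor K₀ (FibCat.diag g) ∧ AlgSt.IsQuasiSeparatedMor (FibCat.diag g) := by
  have hP := isAlgStack_fp' h𝒴 h𝒴 h𝒵 g g
  obtain ⟨h1, h2⟩ := (isQuasiSeparatedMor_iff h𝒴 h𝒵 g).1 hg
  refine ⟨isQCMor_of_repWith h𝒴 hP h1, (isQuasiSeparatedMor_iff h𝒴 hP (FibCat.diag g)).2 ⟨h2, ?_⟩⟩
  refine repWith_diag_of_repWith (isMono_diag_of_rep1 (repByAlgSp1_of_with h1))
    fun G T π _ hπ U V a fst v sq => ?_
  haveI : Mono π := hπ
  haveI : IsIso ((AlgSp.yon S).map v) := MorphismProperty.of_isPullback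
    (P := MorphismProperty.isomorphisms (AlgSp.Sp S)) sq (inferInstanceAs (IsIso (pullback.diagonal π)))
  haveI : IsIso v := isIso_of_fully_faithful (AlgSp.yon S) v
  exact (isQuasiCompactMor_yon_iff v).2 inferInstance

/-- The morphism of schemes under the image of an arrow. -/
lemma bmap_map_eq (F : 𝒳 ⥤ᵇ 𝒴) {z' z : 𝒳.obj} (k : z' ⟶ z) : StMod.bmap 𝒴 (F.map k) =
    eqToHom (StMod.sch_obj_eq F z') ≫ StMod.bmap 𝒳 k ≫ eqToHom (StMod.sch_obj_eq F z).symm := by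
  rw [← cancel_mono (eqToHom (StMod.sch_obj_eq F z)), StMod.bmap_map_comm F k rfl]
  simp

variable (f : 𝒳 ⥤ᵇ 𝒴) (g : 𝒴 ⥤ᵇ 𝒵)

/-- The category over an object mapped to the category of the composite over its image. -/
def fibPush (η : 𝒴.obj) : StMod.fibCat f η ⥤ᵇ StMod.fibCat (BasedFunctor.comp f g) (g.obj η) where
  toFunctor :=
    { obj := fun (z : (StMod.fibCat f η).obj) =>
        CostructuredArrow.mk (S := (BasedFunctor.comp f g).toFunctor) (Y := z.left)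
          (show g.obj (f.obj z.left) ⟶ g.obj η from g.map z.hom)
      map := fun {z z'} k => CostructuredArrow.homMk k.left (by
        change g.map (f.map k.left) ≫ g.map z'.hom = g.map z.hom
        rw [← g.map_comp, CostructuredArrow.w k])
      map_id := fun _ => rfl
      map_comp := fun _ _ => rfl }
  w := rfl

variable {η : 𝒴.obj} (h𝒴 : FibCat.IsFibGrpd 𝒴.p) (h𝒵 : FibCat.IsFibGrpd 𝒵.p)
  (x : (StMod.fibCat (BasedFunctor.comp f g) (g.obj η)).obj)

/-- The arrow of `x` as an object over `g η`. -/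
def ptArrow : (StMod.fibCat g (g.obj η)).obj :=
  CostructuredArrow.mk (show g.obj (f.obj x.left) ⟶ g.obj η from x.hom)

/-- The point of the fibre product of `g` with itself under `x`. -/
def diagPt : (FibCat.fp g g).obj := toStPt g g η h𝒵 h𝒴 (ptArrow f g x)

/-- The arrow to `η` of the second component. -/
def diagPr : (diagPt f g h𝒴 h𝒵 x).obj.snd ⟶ η := (exists_st_obj g g η h𝒵 h𝒴 (ptArrow f g x)).choose_spec.choose

lemma diagPt_spec : (diagPt f g h𝒴 h𝒵 x).obj.iso.hom ≫ g.map (diagPr f g h𝒴 h𝒵 x) =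
    (show g.obj (f.obj x.left) ⟶ g.obj η from x.hom) :=
  (exists_st_obj g g η h𝒵 h𝒴 (ptArrow f g x)).choose_spec.choose_spec.choose_spec.2

lemma diag_iso_hom (t : 𝒴.obj) : ((FibCat.diag g).obj t).obj.iso.hom = 𝟙 (g.obj t) := rfl

/-- Arrows to the point are determined by the first component and the arrow to `η`. -/
lemma diagPt_ext {Q : (FibCat.fp g g).obj} {k k' : Q ⟶ diagPt f g h𝒴 h𝒵 x} (h₁ : k.hom.fst = k'.hom.fst)
    (h₂ : k.hom.snd ≫ diagPr f g h𝒴 h𝒵 x = k'.hom.snd ≫ diagPr f g h𝒴 h𝒵 x) : k = k' := by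
  refine fp_hom_ext h₁ (hom_ext_bmap h𝒴 _ h₂ ?_)
  have a := StMod.bmap_map_comm (FibCat.fpSnd g g) k rfl
  have b := StMod.bmap_map_comm (FibCat.fpSnd g g) k' rfl
  have e : StMod.bmap (FibCat.fp g g) k = StMod.bmap (FibCat.fp g g) k' := congrArg (StMod.bmap 𝒴) h₁
  rw [e, ← b] at a
  exact (cancel_mono _).1 a

/-- An object over `x` gives an arrow to the point. -/
theorem exists_diag_arrow (z : (StMod.fibCat (fibPush f g η) x).obj) :
    ∃ k : (FibCat.diag g).obj (f.obj z.left.left) ⟶ diagPt f g h𝒴 h𝒵 x,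
      k.hom.fst = f.map z.hom.left ∧ k.hom.snd ≫ diagPr f g h𝒴 h𝒵 x = z.left.hom := by
  let P := diagPt f g h𝒴 h𝒵 x
  let pr := diagPr f g h𝒴 h𝒵 x
  let α : f.obj z.left.left ⟶ η := z.left.hom
  let φ : z.left.left ⟶ x.left := z.hom.left
  have hw : g.map (f.map φ) ≫ P.obj.iso.hom ≫ g.map pr = g.map α := by
    rw [diagPt_spec]
    exact CostructuredArrow.w z.hom
  have esn : StMod.sch 𝒴 P.obj.snd = StMod.sch 𝒴 (f.obj x.left) := StMod.sch_obj_eq (FibCat.fpSnd g g) P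
  have hi : StMod.bmap 𝒵 P.obj.iso.hom = eqToHom
      (((StMod.sch_obj_eq g (f.obj x.left)).trans esn.symm).trans (StMod.sch_obj_eq g P.obj.snd).symm) := by
    have h1 : 𝒵.p.IsHomLift (𝟙 (𝒴.p.obj (f.obj x.left))) P.obj.iso.hom := P.property
    refine (congrArg (fun m => m.left) (IsHomLift.fac' 𝒵.p (𝟙 (𝒴.p.obj (f.obj x.left))) P.obj.iso.hom)).trans ?_
    simp
  obtain ⟨u, hu, hub⟩ := exists_factor h𝒴 pr α (StMod.bmap 𝒴 (f.map φ) ≫ eqToHom esn.symm) (by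
    have := congrArg (StMod.bmap 𝒵) hw
    rw [StMod.bmap_comp, StMod.bmap_comp, hi] at this
    rw [← cancel_epi (eqToHom (StMod.sch_obj_eq g (f.obj z.left.left))), ← StMod.bmap_map_comm g α rfl, ← this]
    simp [bmap_map_eq g])
  refine ⟨fpHom (f.map φ) u ?_, rfl, hu⟩
  refine Eq.trans ?_ ((congrArg (· ≫ g.map u) (diag_iso_hom g (f.obj z.left.left))).trans
    (Category.id_comp (g.map u))).symm
  refine hom_ext_bmap h𝒵 (g.map pr) ?_ ?_
  · exact (Category.assoc _ _ _).trans (hw.trans ((congrArg g.toFunctor.map hu.symm).trans (g.map_comp u pr)))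
  · refine (StMod.bmap_comp _ _).trans ((congrArg (StMod.bmap 𝒵 (g.map (f.map φ)) ≫ ·) hi).trans ?_)
    rw [bmap_map_eq g, bmap_map_eq g, hub]
    simp

/-- The arrow to the point of an object over `x`. -/
def diagArrow (z : (StMod.fibCat (fibPush f g η) x).obj) :
    (FibCat.diag g).obj (f.obj z.left.left) ⟶ diagPt f g h𝒴 h𝒵 x :=
  (exists_diag_arrow f g h𝒴 h𝒵 x z).choose

lemma diagArrow_fst (z : (StMod.fibCat (fibPush f g η) x).obj) :
    (diagArrow f g h𝒴 h𝒵 x z).hom.fst = f.map z.hom.left :=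
  (exists_diag_arrow f g h𝒴 h𝒵 x z).choose_spec.1

lemma diagArrow_snd (z : (StMod.fibCat (fibPush f g η) x).obj) :
    (diagArrow f g h𝒴 h𝒵 x z).hom.snd ≫ diagPr f g h𝒴 h𝒵 x = z.left.hom :=
  (exists_diag_arrow f g h𝒴 h𝒵 x z).choose_spec.2

/-- The category over `x` mapped to the base change of the diagonal. -/
def toDiag : StMod.fibCat (fibPush f g η) x ⥤ᵇ StMod.fibCat (FibCat.diag g) (diagPt f g h𝒴 h𝒵 x) where
  toFunctor :=
    { obj := fun (z : (StMod.fibCat (fibPush f g η) x).obj) =>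
        CostructuredArrow.mk (S := (FibCat.diag g).toFunctor) (Y := f.obj z.left.left) (diagArrow f g h𝒴 h𝒵 x z)
      map := fun {z z'} m => CostructuredArrow.homMk (f.map m.left.left) (diagPt_ext f g h𝒴 h𝒵 x (by
          change f.map m.left.left ≫ (diagArrow f g h𝒴 h𝒵 x z').hom.fst = (diagArrow f g h𝒴 h𝒵 x z).hom.fst
          rw [diagArrow_fst, diagArrow_fst, ← f.map_comp]
          exact congrArg f.toFunctor.map (congrArg CommaMorphism.left (CostructuredArrow.w m))) (by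
          change (f.map m.left.left ≫ (diagArrow f g h𝒴 h𝒵 x z').hom.snd) ≫ _ =
            (diagArrow f g h𝒴 h𝒵 x z).hom.snd ≫ _
          rw [Category.assoc, diagArrow_snd, diagArrow_snd]
          exact CostructuredArrow.w m.left))
      map_id := fun z => CostructuredArrow.hom_ext _ _ (f.map_id z.left.left)
      map_comp := fun k l => CostructuredArrow.hom_ext _ _ (f.map_comp k.left.left l.left.left) }
  w := CategoryTheory.Functor.ext (fun (z : (StMod.fibCat (fibPush f g η) x).obj) => f.w_obj z.left.left)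
    fun z z' k => Functor.congr_hom f.w (CommaMorphism.left (CommaMorphism.left k))

variable (h𝒳 : FibCat.IsFibGrpd 𝒳.p)

include h𝒳 in
/-- An object of the base change of the diagonal comes from an object over `x`. -/
theorem exists_diag_lift (Q : (StMod.fibCat (FibCat.diag g) (diagPt f g h𝒴 h𝒵 x)).obj) :
    ∃ (z : (StMod.fibCat (fibPush f g η) x).obj) (e : (toDiag f g h𝒴 h𝒵 x).obj z ⟶ Q), IsIso e.left := by
  obtain ⟨ξ', γ, χ, -, hχ⟩ := exists_st_obj (BasedFunctor.id 𝒴) f x.left h𝒴 h𝒳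
    (CostructuredArrow.mk (S := (BasedFunctor.id 𝒴).toFunctor) (Y := Q.left)
      (show Q.left ⟶ f.obj x.left from Q.hom.hom.fst))
  let χ' : Q.left ≅ f.obj ξ' := χ
  have hχ' : χ'.hom ≫ f.map γ = Q.hom.hom.fst := hχ
  let α : f.obj ξ' ⟶ η := χ'.inv ≫ Q.hom.hom.snd ≫ diagPr f g h𝒴 h𝒵 x
  have hw : g.map (f.map γ) ≫ (show g.obj (f.obj x.left) ⟶ g.obj η from x.hom) = g.map α := by
    have w : g.map Q.hom.hom.fst ≫ (diagPt f g h𝒴 h𝒵 x).obj.iso.hom =
        𝟙 (g.obj Q.left) ≫ g.map Q.hom.hom.snd := Q.hom.hom.w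
    have e : f.map γ = χ'.inv ≫ Q.hom.hom.fst := (Iso.eq_inv_comp χ').2 hχ'
    rw [e, g.map_comp, Category.assoc, ← diagPt_spec f g h𝒴 h𝒵 x, reassoc_of% w, ← g.map_comp, ← g.map_comp]
  let z₀ : (StMod.fibCat f η).obj := CostructuredArrow.mk α
  let z : (StMod.fibCat (fibPush f g η) x).obj := CostructuredArrow.mk (S := (fibPush f g η).toFunctor) (Y := z₀)
    (show (fibPush f g η).obj z₀ ⟶ x from CostructuredArrow.homMk γ hw)
  refine ⟨z, CostructuredArrow.homMk χ'.inv (diagPt_ext f g h𝒴 h𝒵 x ?_ ?_), ?_⟩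
  · change χ'.inv ≫ Q.hom.hom.fst = (diagArrow f g h𝒴 h𝒵 x z).hom.fst
    rw [diagArrow_fst]
    exact ((Iso.eq_inv_comp χ').2 hχ').symm
  · change (χ'.inv ≫ Q.hom.hom.snd) ≫ _ = (diagArrow f g h𝒴 h𝒵 x z).hom.snd ≫ _
    rw [diagArrow_snd, Category.assoc]
    rfl
  · exact (inferInstance : IsIso χ'.inv)

include h𝒳 in
lemma toDiag_fullyFaithful {ζ z : (StMod.fibCat (fibPush f g η) x).obj}
    (a : (toDiag f g h𝒴 h𝒵 x).obj ζ ⟶ (toDiag f g h𝒴 h𝒵 x).obj z) :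
    ∃! c : ζ ⟶ z, (toDiag f g h𝒴 h𝒵 x).map c = a := by
  let φ : ζ.left.left ⟶ x.left := ζ.hom.left
  let φ' : z.left.left ⟶ x.left := z.hom.left
  let b : f.obj ζ.left.left ⟶ f.obj z.left.left := a.left
  have hw1 : (FibCat.diag g).map b ≫ diagArrow f g h𝒴 h𝒵 x z = diagArrow f g h𝒴 h𝒵 x ζ := CostructuredArrow.w a
  have hb : b ≫ f.map φ' = f.map φ := by
    have := congrArg (fun k : (FibCat.diag g).obj (f.obj ζ.left.left) ⟶ diagPt f g h𝒴 h𝒵 x => k.hom.fst) hw1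
    refine Eq.trans ?_ (this.trans (diagArrow_fst f g h𝒴 h𝒵 x ζ))
    exact congrArg (b ≫ ·) (diagArrow_fst f g h𝒴 h𝒵 x z).symm
  have hb2 : b ≫ z.left.hom = ζ.left.hom := by
    have := congrArg (fun k : (FibCat.diag g).obj (f.obj ζ.left.left) ⟶ diagPt f g h𝒴 h𝒵 x =>
      k.hom.snd ≫ diagPr f g h𝒴 h𝒵 x) hw1
    refine Eq.trans ?_ (this.trans (diagArrow_snd f g h𝒴 h𝒵 x ζ))
    refine Eq.trans ?_ (Category.assoc b _ _).symm
    exact congrArg (b ≫ ·) (diagArrow_snd f g h𝒴 h𝒵 x z).symm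
  let m : StMod.sch 𝒳 ζ.left.left ⟶ StMod.sch 𝒳 z.left.left :=
    eqToHom (StMod.sch_obj_eq f _).symm ≫ StMod.bmap 𝒴 b ≫ eqToHom (StMod.sch_obj_eq f _)
  obtain ⟨c₀, hc, hcb⟩ := exists_factor h𝒳 φ' φ m (by
    have := congrArg (StMod.bmap 𝒴) hb
    rw [StMod.bmap_comp] at this
    rw [← cancel_epi (eqToHom (StMod.sch_obj_eq f ζ.left.left)), ← StMod.bmap_map_comm f φ rfl, ← this]
    simp [m, StMod.bmap_map_comm f φ' rfl])
  have hfc : f.map c₀ = b := by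
    refine hom_ext_bmap h𝒴 (f.map φ') (by rw [← f.map_comp, hc, hb]) ?_
    rw [← cancel_mono (eqToHom (StMod.sch_obj_eq f z.left.left)), StMod.bmap_map_comm f c₀ rfl, hcb]
    simp [m]
  refine ⟨CostructuredArrow.homMk (CostructuredArrow.homMk c₀ (by rw [hfc]; exact hb2))
    (CostructuredArrow.hom_ext _ _ hc), CostructuredArrow.hom_ext _ _ hfc, fun d hd => ?_⟩
  refine CostructuredArrow.hom_ext _ _ (CostructuredArrow.hom_ext _ _ (hom_ext_bmap h𝒳 φ' ?_ ?_))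
  · exact (congrArg CommaMorphism.left (CostructuredArrow.w d)).trans hc.symm
  · have h1 : f.map d.left.left = b := congrArg CommaMorphism.left hd
    change StMod.bmap 𝒳 d.left.left = StMod.bmap 𝒳 c₀
    rw [← cancel_epi (eqToHom (StMod.sch_obj_eq f ζ.left.left)), ← StMod.bmap_map_comm f _ rfl,
      ← StMod.bmap_map_comm f _ rfl, h1, hfc]

lemma isIso_bmap_left {Q Q' : (StMod.fibCat (FibCat.diag g) (diagPt f g h𝒴 h𝒵 x)).obj} (e : Q' ⟶ Q)
    [IsIso e.left] : IsIso (StMod.bmap (StMod.fibCat (FibCat.diag g) (diagPt f g h𝒴 h𝒵 x)) e) :=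
  inferInstanceAs (IsIso ((𝒴.p ⋙ Over.forget S).map e.left))

/-- The category over `x` is equivalent to the base change of the diagonal. -/
def toDiagAffRep : AffRep (toDiag f g h𝒴 h𝒵 x) where
  z Q := (exists_diag_lift f g h𝒴 h𝒵 x h𝒳 Q).choose
  e Q := (exists_diag_lift f g h𝒴 h𝒵 x h𝒳 Q).choose_spec.choose
  isAffineHom Q := by
    haveI := (exists_diag_lift f g h𝒴 h𝒵 x h𝒳 Q).choose_spec.choose_spec
    haveI := isIso_bmap_left f g h𝒴 h𝒵 x (exists_diag_lift f g h𝒴 h𝒵 x h𝒳 Q).choose_spec.choose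
    infer_instance
  existsUnique Q ζ a := by
    obtain ⟨hiso, he⟩ : ∃ e : (toDiag f g h𝒴 h𝒵 x).obj (exists_diag_lift f g h𝒴 h𝒵 x h𝒳 Q).choose ≅ Q,
        e.hom = (exists_diag_lift f g h𝒴 h𝒵 x h𝒳 Q).choose_spec.choose := by
      haveI := (exists_diag_lift f g h𝒴 h𝒵 x h𝒳 Q).choose_spec.choose_spec
      haveI := isIso_bmap_left f g h𝒴 h𝒵 x (exists_diag_lift f g h𝒴 h𝒵 x h𝒳 Q).choose_spec.choose
      haveI := isIso_of_bmap (fibCat_fibGrpd (FibCat.diag g) _ h𝒴)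
        (exists_diag_lift f g h𝒴 h𝒵 x h𝒳 Q).choose_spec.choose
      exact ⟨asIso (exists_diag_lift f g h𝒴 h𝒵 x h𝒳 Q).choose_spec.choose, rfl⟩
    obtain ⟨c, hc, hu⟩ := toDiag_fullyFaithful f g h𝒴 h𝒵 x h𝒳 (a ≫ hiso.inv)
    refine ⟨c, ?_, fun d hd => hu d ((Iso.eq_comp_inv hiso).2 ?_)⟩
    · change (toDiag f g h𝒴 h𝒵 x).map c ≫ _ = a
      rw [hc, ← he, Category.assoc, Iso.inv_hom_id, Category.comp_id]
    · rw [he]
      exact hd
  cart {Q' Q} φ c h := by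
    haveI := (exists_diag_lift f g h𝒴 h𝒵 x h𝒳 Q).choose_spec.choose_spec
    haveI := (exists_diag_lift f g h𝒴 h𝒵 x h𝒳 Q').choose_spec.choose_spec
    haveI := isIso_bmap_left f g h𝒴 h𝒵 x (exists_diag_lift f g h𝒴 h𝒵 x h𝒳 Q).choose_spec.choose
    haveI := isIso_bmap_left f g h𝒴 h𝒵 x (exists_diag_lift f g h𝒴 h𝒵 x h𝒳 Q').choose_spec.choose
    exact IsPullback.of_vert_isIso ⟨(StMod.bmap_comp _ _).symm.trans
      ((congrArg (StMod.bmap (StMod.fibCat (FibCat.diag g) (diagPt f g h𝒴 h𝒵 x))) h).trans (StMod.bmap_comp _ _))⟩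

lemma isIso_toDiagAffRep (Q : (StMod.fibCat (FibCat.diag g) (diagPt f g h𝒴 h𝒵 x)).obj) :
    IsIso (StMod.bmap _ ((toDiagAffRep f g h𝒴 h𝒵 x h𝒳).e Q)) := by
  haveI := (exists_diag_lift f g h𝒴 h𝒵 x h𝒳 Q).choose_spec.choose_spec
  exact isIso_bmap_left f g h𝒴 h𝒵 x (exists_diag_lift f g h𝒴 h𝒵 x h𝒳 Q).choose_spec.choose

/-- Generation over an object from generation of the composite and of the structure sheaf relative to the diagonal. -/
theorem isGenFam_of_comp_diag (hX : AlgSt.IsAlgStack K₀ 𝒳) (hY : AlgSt.IsAlgStack K₀ 𝒴)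
    (hZ : AlgSt.IsAlgStack K₀ 𝒵) (hfqc : AlgSt.IsQuasiCompactMor K₀ f) (hfqs : AlgSt.IsQuasiSeparatedMor f)
    (hgqc : AlgSt.IsQuasiCompactMor K₀ g) (hgqs : AlgSt.IsQuasiSeparatedMor g) {ι : Type t}
    (E : ι → StMod.QCoh 𝒳) (hE : StMod.IsRelGenFam (BasedFunctor.comp f g) E)
    (hO : StMod.IsRelGenFam (FibCat.diag g) fun _ : PUnit.{u + 1} => StMod.OQ 𝒴) :
    StMod.IsRelGenFam f E := by
  intro η hη
  have hgη : IsAffine (StMod.sch 𝒵 (g.obj η)) := (isAffine_obj_iff g η).2 hη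
  have hpX := hX.isStack.1
  have hpY := hY.isStack.1
  have hpZ := hZ.isStack.1
  obtain ⟨𝔸⟩ := nonempty_atlasF_fibCat hX hZ (BasedFunctor.comp f g) (isQCMor_comp hX hY hZ hfqc hgqc)
    (qs_comp hX hY hfqs hgqs) (g.obj η) hgη
  let P := diagPt f g hpY hpZ 𝔸.x
  have hPaff : IsAffine (StMod.sch (FibCat.fp g g) P) := (isAffine_obj_iff f 𝔸.x.left).2 𝔸.affx
  obtain ⟨hdqc, hdqs⟩ := diag_qc_qs hY hZ g hgqs
  obtain ⟨𝔹⟩ := nonempty_atlas_fibCat hY (isAlgStack_fp' hY hY hZ g g) (FibCat.diag g) hdqc hdqs P hPaff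
  let R := toDiagAffRep f g hpY hpZ 𝔸.x hpX
  have hpW := fibCat_fibGrpd (fibPush f g η) 𝔸.x (fibCat_fibGrpd f η hpX)
  obtain ⟨𝔹'⟩ := R.nonempty_atlas_of_isIso (isIso_toDiagAffRep f g hpY hpZ 𝔸.x hpX) hpW 𝔹
  have hOP : StMod.IsGenFam fun _ : PUnit.{u + 1} => StMod.OQ (StMod.fibCat (FibCat.diag g) P) :=
    isGenFam_congr (E := fun _ : PUnit.{u + 1} => fibMod (FibCat.diag g) P (StMod.OQ 𝒴))
      (E' := fun _ : PUnit.{u + 1} => StMod.OQ (StMod.fibCat (FibCat.diag g) P))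
      (fun _ => (StMod.comapOIso (StMod.fibFst (FibCat.diag g) P)).symm) (hO P hPaff)
  have hOW : StMod.IsGenFam fun _ : PUnit.{u + 1} => fibMod (fibPush f g η) 𝔸.x (StMod.OQ (StMod.fibCat f η)) :=
    isGenFam_congr (E := fun _ : PUnit.{u + 1} => StMod.OQ (StMod.fibCat (fibPush f g η) 𝔸.x))
      (E' := fun _ : PUnit.{u + 1} => fibMod (fibPush f g η) 𝔸.x (StMod.OQ (StMod.fibCat f η)))
      (fun _ => StMod.comapOIso (StMod.fibFst (fibPush f g η) 𝔸.x))
      (R.isGenFam_O (fibCat_fibGrpd (FibCat.diag g) P hpY) hpW hOP)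
  exact isGenFam_congr
    (E := fun i => (StMod.comapQ (fibPush f g η)).obj (fibMod (BasedFunctor.comp f g) (g.obj η) (E i)))
    (E' := fun i => fibMod f η (E i))
    (fun i => StMod.comapCompIso (StMod.fibFst (BasedFunctor.comp f g) (g.obj η)) (fibPush f g η) (E i).obj)
    (isGenFam_comapQ_of_fib (f := fibPush f g η) (fibCat_fibGrpd f η hpX)
      (fibCat_fibGrpd (BasedFunctor.comp f g) (g.obj η) hpX) 𝔸 𝔹' hOW _ (hE (g.obj η) hgη))

end Groth.Agent.H14QCoh
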