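import Groth.Agent.H14QCoh.ExtendBasic

/-!
# The module on the scheme of an object and the extension of its sections to all affine objects over it
-/

set_option autoImplicit false
set_option linter.style.haveILetI false
set_option backward.isDefEq.respectTransparency false
set_option backward.isDefEq.respectTransparency.types false

universe w v u

open CategoryTheory CategoryTheory.Limits AlgebraicGeometry Opposite TopologicalSpace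

noncomputable section

namespace Groth.Agent.H14QCoh

variable {S : Scheme.{u}} {𝒳 : BasedCategory.{v, w} (Over S)}

lemma resFn_comp_app {ζ ξ' ξ : 𝒳.obj} (χ : ζ ⟶ ξ') (φ : ξ' ⟶ ξ) {g : StMod.sch 𝒳 ξ' ⟶ StMod.sch 𝒳 ξ}
    (hg : StMod.bmap 𝒳 φ = g) {W : (StMod.sch 𝒳 ξ).Opens} (h : ⊤ ≤ StMod.bmap 𝒳 χ ⁻¹ᵁ (g ⁻¹ᵁ W))
    (h' : ⊤ ≤ StMod.bmap 𝒳 (χ ≫ φ) ⁻¹ᵁ W) (a : Γ(StMod.sch 𝒳 ξ, W)) :
    resFn χ (g ⁻¹ᵁ W) h (g.app W a) = resFn (χ ≫ φ) W h' a := by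
  subst hg
  change ((StMod.bmap 𝒳 φ).app W ≫ (StMod.bmap 𝒳 χ).appLE _ ⊤ h) a = _
  rw [Scheme.Hom.app_eq_appLE, Scheme.Hom.appLE_comp_appLE]
  change _ = ((StMod.bmap 𝒳 (χ ≫ φ)).appLE W ⊤ h') a
  simp only [StMod.bmap_comp]

namespace AffData

variable (D : AffData 𝒳) (hp : FibCat.IsFibGrpd 𝒳.p) (ξ : 𝒳.obj)

/-- The compatible families on the affine opens inside an open. -/
def sect (W : (StMod.sch 𝒳 ξ).Opens) :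
    AddSubgroup (∀ N : {N : (StMod.sch 𝒳 ξ).affineOpens // N.1 ≤ W}, D.P (lo hp N.1)) where
  carrier := {s | ∀ (M N : (StMod.sch 𝒳 ξ).affineOpens) (h : M.1 ≤ N.1) (hN : N.1 ≤ W),
    D.r (fac hp (li hp M) (li_le' hp h)) (s ⟨N, hN⟩) = s ⟨M, h.trans hN⟩}
  zero_mem' := fun M N h hN => map_zero _
  add_mem' := fun {a b} ha hb M N h hN => by simp only [Pi.add_apply, map_add, ha M N h hN, hb M N h hN]
  neg_mem' := fun {a} ha M N h hN => by simp only [Pi.neg_apply, map_neg, ha M N h hN]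

/-- The sections over an open. -/
def Sect (W : (StMod.sch 𝒳 ξ).Opens) : Type u := ↥(D.sect hp ξ W)

instance (W : (StMod.sch 𝒳 ξ).Opens) : AddCommGroup (D.Sect hp ξ W) :=
  inferInstanceAs (AddCommGroup ↥(D.sect hp ξ W))

variable {D hp ξ} {W : (StMod.sch 𝒳 ξ).Opens}

@[ext] lemma Sect.ext {s t : D.Sect hp ξ W} (h : ∀ N hN, s.1 ⟨N, hN⟩ = t.1 ⟨N, hN⟩) : s = t :=
  Subtype.ext (funext fun N => h N.1 N.2)

@[simp] lemma Sect.add_val (s t : D.Sect hp ξ W) (N) (hN) : (s + t).1 ⟨N, hN⟩ = s.1 ⟨N, hN⟩ + t.1 ⟨N, hN⟩ := rfl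

@[simp] lemma Sect.zero_val (N) (hN) : (0 : D.Sect hp ξ W).1 ⟨N, hN⟩ = 0 := rfl

lemma smul_mem_sect (a : Γ(StMod.sch 𝒳 ξ, W)) (s : D.Sect hp ξ W) :
    (fun N => resFn (li hp N.1) W (li_le' hp N.2) a • s.1 N) ∈ D.sect hp ξ W := fun M N h hN => by
  change D.r _ (_ • s.1 ⟨N, hN⟩) = _
  rw [D.r_smul, fnMap_resFn, resFn_congr (fac_li hp _ _) _ (li_le' hp (h.trans hN)), s.2 M N h hN]

instance : SMul Γ(StMod.sch 𝒳 ξ, W) (D.Sect hp ξ W) := ⟨fun a s => ⟨_, smul_mem_sect a s⟩⟩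

@[simp] lemma Sect.smul_val (a : Γ(StMod.sch 𝒳 ξ, W)) (s : D.Sect hp ξ W) (N) (hN) :
    (a • s).1 ⟨N, hN⟩ = resFn (li hp N) W (li_le' hp hN) a • s.1 ⟨N, hN⟩ := rfl

instance : Module Γ(StMod.sch 𝒳 ξ, W) (D.Sect hp ξ W) where
  one_smul s := by ext; simp
  mul_smul a b s := by ext; simp [mul_smul]
  smul_zero a := by ext; simp
  smul_add a s t := by ext; simp
  add_smul a b s := by ext; simp [add_smul]
  zero_smul s := by ext; simp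

/-- Restriction of families. -/
def Sect.restr {V : (StMod.sch 𝒳 ξ).Opens} (h : V ≤ W) : D.Sect hp ξ W →+ D.Sect hp ξ V where
  toFun s := ⟨fun N => s.1 ⟨N.1, N.2.trans h⟩, fun M N h' hN => s.2 M N h' (hN.trans h)⟩
  map_zero' := rfl
  map_add' _ _ := rfl

variable (D hp ξ)

/-- The presheaf of abelian groups of an object. -/
def abPre : TopCat.Presheaf AddCommGrpCat.{u} (StMod.sch 𝒳 ξ).carrier where
  obj W := AddCommGrpCat.of (D.Sect hp ξ W.unop)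
  map i := AddCommGrpCat.ofHom (Sect.restr i.unop.le)
  map_id _ := rfl
  map_comp _ _ := rfl

theorem abPre_isSheaf : TopCat.Presheaf.IsSheaf (D.abPre hp ξ) := by
  rw [TopCat.Presheaf.isSheaf_iff_isSheaf_comp (forget AddCommGrpCat.{u})]
  have h := H15Site.BasisSheaf.ext_isSheaf (F := D.pre hp ξ) (StMod.sch 𝒳 ξ).isBasis_affineOpens
    (D.isSheaf_pre hp ξ)
  refine TopCat.Presheaf.isSheaf_of_iso ?_ h
  exact NatIso.ofComponents (fun W =>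
    (Equiv.toIso ({ toFun := fun s => ⟨fun N => s.1 N.1 N.2, fun M N h hN => s.2 M N h hN⟩
                    invFun := fun s => ⟨fun N hN => s.1 ⟨N, hN⟩, fun M N h hN => s.2 M N h hN⟩
                    left_inv := fun _ => rfl
                    right_inv := fun _ => rfl } :
      (H15Site.BasisSheaf.ext (D.pre hp ξ)).obj W ≃ D.Sect hp ξ W.unop))) (fun _ => rfl)

/-- The module on the scheme of an object. -/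
def objMod : (StMod.sch 𝒳 ξ).Modules :=
  letI : ∀ W, Module ((StMod.sch 𝒳 ξ).ringCatSheaf.obj.obj W) ((D.abPre hp ξ).obj W) := fun W =>
    inferInstanceAs (Module Γ(StMod.sch 𝒳 ξ, W.unop) (D.Sect hp ξ W.unop))
  { val := PresheafOfModules.ofPresheaf (R := (StMod.sch 𝒳 ξ).ringCatSheaf.obj) (D.abPre hp ξ) (by
      intro W V i a (s : D.Sect hp ξ W.unop)
      refine Sect.ext (D := D) fun N hN => ?_
      exact (congrArg (· • s.1 ⟨N, hN.trans i.unop.le⟩) (resFn_res (li hp N) i.unop.le (li_le' hp hN) a)).symm)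
    isSheaf := D.abPre_isSheaf hp ξ }

section Ev

variable {D hp ξ}

/-- Equality at small opens. -/
lemma ext_small {ζ : AObj 𝒳} {x y : D.P ζ}
    (h : ∀ p : StMod.sch 𝒳 ζ.1, ∃ M : (StMod.sch 𝒳 ζ.1).affineOpens,
      p ∈ M.1 ∧ D.r (li hp M) x = D.r (li hp M) y) : x = y := by
  haveI := ζ.2
  let T : (StMod.sch 𝒳 ζ.1).affineOpens := ⟨⊤, isAffineOpen_top _⟩
  let c := fac hp (𝟙 ζ.1) (U := T) (fun z _ => trivial)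
  have hc : ∀ z, D.r c (D.r (li hp T) z) = z := fun z => by rw [← D.r_comp, D.r_congr (fac_li hp _ _), D.r_id]
  rw [← hc x, ← hc y]
  refine congrArg _ (H15Site.BasisSheaf.IsSheaf.sep (StMod.sch 𝒳 ζ.1).isBasis_affineOpens (D.isSheaf_pre hp ζ.1) T
    (D.r (li hp T) x) (D.r (li hp T) y) fun p _ => ?_)
  obtain ⟨M, hM, e⟩ := h p
  refine ⟨M, fun z _ => trivial, hM, ?_⟩
  change D.r _ _ = D.r _ _
  rw [← D.r_comp, ← D.r_comp, D.r_congr (fac_li hp _ _) x, D.r_congr (fac_li hp _ _) y, e]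

lemma exists_mem_affine {X : Scheme.{u}} {p : X} {W : X.Opens} (hp : p ∈ W) :
    ∃ M : X.affineOpens, p ∈ M.1 ∧ M.1 ≤ W := by
  obtain ⟨M, hM, hpM, hle⟩ := exists_isAffineOpen_mem_and_subset hp
  exact ⟨⟨M, hM⟩, hpM, hle⟩

lemma top_le_comp_li {ζ : AObj 𝒳} (χ : ζ.1 ⟶ ξ) {U : (StMod.sch 𝒳 ξ).Opens}
    {M : (StMod.sch 𝒳 ζ.1).affineOpens} (h : M.1 ≤ StMod.bmap 𝒳 χ ⁻¹ᵁ U) :
    ⊤ ≤ StMod.bmap 𝒳 (li hp M ≫ χ) ⁻¹ᵁ U :=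
  (preimage_comp_le χ (li hp M)).2 (li_le' hp h)

variable (s : D.Sect hp ξ W)

/-- The values of a family do not depend on the affine open. -/
lemma indep {ζ : AObj 𝒳} (χ : ζ.1 ⟶ ξ) {N₁ N₂ : (StMod.sch 𝒳 ξ).affineOpens} (h₁ : N₁.1 ≤ W) (h₂ : N₂.1 ≤ W)
    (k₁ : ⊤ ≤ StMod.bmap 𝒳 χ ⁻¹ᵁ N₁.1) (k₂ : ⊤ ≤ StMod.bmap 𝒳 χ ⁻¹ᵁ N₂.1) :
    D.r (fac hp χ k₁) (s.1 ⟨N₁, h₁⟩) = D.r (fac hp χ k₂) (s.1 ⟨N₂, h₂⟩) := by
  refine ext_small (hp := hp) fun p => ?_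
  obtain ⟨K, hpK, hK⟩ := exists_mem_affine (p := StMod.bmap 𝒳 χ p) (W := N₁.1 ⊓ N₂.1)
    ⟨k₁ (Set.mem_univ p), k₂ (Set.mem_univ p)⟩
  obtain ⟨M, hpM, hM⟩ := exists_mem_affine (p := p) (W := StMod.bmap 𝒳 χ ⁻¹ᵁ K.1) hpK
  refine ⟨M, hpM, ?_⟩
  have key : ∀ (N : (StMod.sch 𝒳 ξ).affineOpens) (hN : N.1 ≤ W) (hKN : K.1 ≤ N.1)
      (k : ⊤ ≤ StMod.bmap 𝒳 χ ⁻¹ᵁ N.1), D.r (li hp M) (D.r (fac hp χ k) (s.1 ⟨N, hN⟩)) =
        D.r (fac hp (li hp M ≫ χ) (top_le_comp_li χ hM)) (s.1 ⟨K, hKN.trans hN⟩) := by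
    intro N hN hKN k
    rw [← s.2 K N hKN hN, ← D.r_comp, ← D.r_comp]
    exact D.r_eq (by simp) _
  rw [key N₁ h₁ (hK.trans inf_le_left) k₁, key N₂ h₂ (hK.trans inf_le_right) k₂]

/-- The value of a family at an affine object mapping into the open. -/
def IsVal {ζ : AObj 𝒳} (χ : ζ.1 ⟶ ξ) (t : D.P ζ) : Prop :=
  ∀ (M : (StMod.sch 𝒳 ζ.1).affineOpens) (N : (StMod.sch 𝒳 ξ).affineOpens) (hN : N.1 ≤ W)
    (hM : M.1 ≤ StMod.bmap 𝒳 χ ⁻¹ᵁ N.1),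
    D.r (li hp M) t = D.r (fac hp (li hp M ≫ χ) (top_le_comp_li χ hM)) (s.1 ⟨N, hN⟩)

variable {s} in
lemma IsVal.unique {ζ : AObj 𝒳} {χ : ζ.1 ⟶ ξ} (h : ⊤ ≤ StMod.bmap 𝒳 χ ⁻¹ᵁ W) {t t' : D.P ζ}
    (ht : IsVal s χ t) (ht' : IsVal s χ t') : t = t' := by
  refine ext_small (hp := hp) fun p => ?_
  obtain ⟨N, hpN, hN⟩ := exists_mem_affine (p := StMod.bmap 𝒳 χ p) (W := W) (h (Set.mem_univ p))
  obtain ⟨M, hpM, hM⟩ := exists_mem_affine (p := p) (W := StMod.bmap 𝒳 χ ⁻¹ᵁ N.1) hpN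
  exact ⟨M, hpM, (ht M N hN hM).trans (ht' M N hN hM).symm⟩

theorem exists_isVal {ζ : AObj 𝒳} (χ : ζ.1 ⟶ ξ) (h : ⊤ ≤ StMod.bmap 𝒳 χ ⁻¹ᵁ W) : ∃ t, IsVal s χ t := by
  haveI := ζ.2
  let T : (StMod.sch 𝒳 ζ.1).affineOpens := ⟨⊤, isAffineOpen_top _⟩
  let c := fac hp (𝟙 ζ.1) (U := T) (fun z _ => trivial)
  let ι' := {M : (StMod.sch 𝒳 ζ.1).affineOpens //
    ∃ N : (StMod.sch 𝒳 ξ).affineOpens, N.1 ≤ W ∧ M.1 ≤ StMod.bmap 𝒳 χ ⁻¹ᵁ N.1}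
  choose Nf hNf hMf using fun M : ι' => M.2
  let v : ∀ M : ι', D.P (lo hp M.1) := fun M =>
    D.r (fac hp (li hp M.1 ≫ χ) (top_le_comp_li χ (hMf M))) (s.1 ⟨Nf M, hNf M⟩)
  have hv : ∀ (M : ι') (K : (StMod.sch 𝒳 ζ.1).affineOpens) (hK : K.1 ≤ M.1.1) (N : (StMod.sch 𝒳 ξ).affineOpens)
      (hN : N.1 ≤ W) (hKN : K.1 ≤ StMod.bmap 𝒳 χ ⁻¹ᵁ N.1),
      D.r (fac hp (li hp K) (li_le' hp hK)) (v M) =
        D.r (fac hp (li hp K ≫ χ) (top_le_comp_li χ hKN)) (s.1 ⟨N, hN⟩) := by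
    intro M K hK N hN hKN
    rw [← D.r_comp, ← indep s (li hp K ≫ χ) (hNf M) hN (top_le_comp_li χ (hK.trans (hMf M))) (top_le_comp_li χ hKN)]
    refine D.r_eq ?_ _
    rw [Category.assoc, fac_li, ← Category.assoc, fac_li, fac_li]
  obtain ⟨t, ht⟩ := H15Site.BasisSheaf.IsSheaf.glue (StMod.sch 𝒳 ζ.1).isBasis_affineOpens (D.isSheaf_pre hp ζ.1)
    T ι' (fun M => M.1) (fun _ _ _ => trivial) (fun p _ => by
      obtain ⟨N, hpN, hN⟩ := exists_mem_affine (p := StMod.bmap 𝒳 χ p) (W := W) (h (Set.mem_univ p))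
      obtain ⟨M, hpM, hM⟩ := exists_mem_affine (p := p) (W := StMod.bmap 𝒳 χ ⁻¹ᵁ N.1) hpN
      exact Opens.mem_iSup.2 ⟨⟨M, N, hN, hM⟩, hpM⟩) v
    (fun i j K h₁ h₂ => (hv i K h₁ (Nf i) (hNf i) (h₁.trans (hMf i))).trans
      (hv j K h₂ (Nf i) (hNf i) (h₁.trans (hMf i))).symm)
  refine ⟨D.r c t, fun M N hN hM => ?_⟩
  rw [← D.r_comp]
  refine Eq.trans ?_ ((hv ⟨M, N, hN, hM⟩ M le_rfl N hN hM))
  rw [← ht ⟨M, N, hN, hM⟩]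
  change _ = D.r _ (D.r _ t)
  rw [← D.r_comp]
  exact D.r_eq (by simp [c]) _

/-- The value. -/
def ev {ζ : AObj 𝒳} (χ : ζ.1 ⟶ ξ) (h : ⊤ ≤ StMod.bmap 𝒳 χ ⁻¹ᵁ W) : D.P ζ := (exists_isVal s χ h).choose

lemma isVal_ev {ζ : AObj 𝒳} (χ : ζ.1 ⟶ ξ) (h : ⊤ ≤ StMod.bmap 𝒳 χ ⁻¹ᵁ W) : IsVal s χ (ev s χ h) :=
  (exists_isVal s χ h).choose_spec

lemma eq_ev {ζ : AObj 𝒳} {χ : ζ.1 ⟶ ξ} (h : ⊤ ≤ StMod.bmap 𝒳 χ ⁻¹ᵁ W) {t : D.P ζ} (ht : IsVal s χ t) :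
    t = ev s χ h :=
  ht.unique h (isVal_ev s χ h)

lemma ev_congr {ζ : AObj 𝒳} {χ χ' : ζ.1 ⟶ ξ} (e : χ = χ') (h : ⊤ ≤ StMod.bmap 𝒳 χ ⁻¹ᵁ W)
    (h' : ⊤ ≤ StMod.bmap 𝒳 χ' ⁻¹ᵁ W) : ev s χ h = ev s χ' h' := by
  subst e; rfl

/-- The value on objects mapping into an affine open. -/
lemma ev_eq {ζ : AObj 𝒳} (χ : ζ.1 ⟶ ξ) (h : ⊤ ≤ StMod.bmap 𝒳 χ ⁻¹ᵁ W) {N : (StMod.sch 𝒳 ξ).affineOpens}
    (hN : N.1 ≤ W) (k : ⊤ ≤ StMod.bmap 𝒳 χ ⁻¹ᵁ N.1) : ev s χ h = D.r (fac hp χ k) (s.1 ⟨N, hN⟩) := by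
  refine (eq_ev s h fun M N' hN' hM => ?_).symm
  rw [← D.r_comp, indep s (li hp M ≫ χ) hN' hN (top_le_comp_li χ hM) (top_le_comp χ (li hp M) k)]
  exact D.r_eq (by simp) _

lemma ev_li (N : (StMod.sch 𝒳 ξ).affineOpens) (hN : N.1 ≤ W) : ev s (li hp N) (li_le' hp hN) = s.1 ⟨N, hN⟩ := by
  rw [ev_eq s (li hp N) _ hN (li_le hp N), D.r_eq (c' := 𝟙 _) (by simp), D.r_id]

lemma r_ev {ζ' ζ : AObj 𝒳} (d : ζ'.1 ⟶ ζ.1) (χ : ζ.1 ⟶ ξ) (h : ⊤ ≤ StMod.bmap 𝒳 χ ⁻¹ᵁ W) :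
    D.r d (ev s χ h) = ev s (d ≫ χ) (top_le_comp χ d h) := by
  refine eq_ev s _ fun M' N' hN' hM' => ext_small (hp := hp) fun p => ?_
  let q := StMod.bmap 𝒳 (li hp M' ≫ d) p
  obtain ⟨N, hqN, hN⟩ := exists_mem_affine (p := StMod.bmap 𝒳 χ q) (W := W) (h (Set.mem_univ q))
  obtain ⟨M, hqM, hM⟩ := exists_mem_affine (p := q) (W := StMod.bmap 𝒳 χ ⁻¹ᵁ N.1) hqN
  obtain ⟨L, hpL, hL⟩ := exists_mem_affine (p := p) (W := StMod.bmap 𝒳 (li hp M' ≫ d) ⁻¹ᵁ M.1) hqM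
  refine ⟨L, hpL, ?_⟩
  have hd : ⊤ ≤ StMod.bmap 𝒳 (li hp L ≫ li hp M' ≫ d) ⁻¹ᵁ M.1 :=
    top_le_comp_li (ζ := lo hp M') (li hp M' ≫ d) hL
  rw [← D.r_comp, ← D.r_comp, ← D.r_comp]
  have e1 : D.r ((li hp L ≫ li hp M') ≫ d) (ev s χ h) =
      D.r (fac hp (li hp L ≫ li hp M' ≫ d) hd) (D.r (li hp M) (ev s χ h)) := by
    rw [← D.r_comp]
    exact D.r_congr (by simp) _
  refine e1.trans ?_
  rw [isVal_ev s χ h M N hN hM, ← D.r_comp]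
  have k : ⊤ ≤ StMod.bmap 𝒳 (fac hp (li hp L ≫ li hp M' ≫ d) hd ≫ li hp M ≫ χ) ⁻¹ᵁ N.1 :=
    top_le_comp _ _ (top_le_comp_li χ hM)
  have k' : ⊤ ≤ StMod.bmap 𝒳 (fac hp (li hp L ≫ li hp M' ≫ d) hd ≫ li hp M ≫ χ) ⁻¹ᵁ N'.1 := by
    rw [← Category.assoc, fac_li, Category.assoc, Category.assoc]
    exact top_le_comp _ _ (top_le_comp_li (d ≫ χ) hM')
  rw [D.r_eq (c' := fac hp _ k) (by simp), indep s _ hN hN' k k']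
  exact D.r_eq (by simp) _

lemma ev_add (t : D.Sect hp ξ W) {ζ : AObj 𝒳} (χ : ζ.1 ⟶ ξ) (h : ⊤ ≤ StMod.bmap 𝒳 χ ⁻¹ᵁ W) :
    ev (s + t) χ h = ev s χ h + ev t χ h := by
  refine (eq_ev (s + t) h fun M N hN hM => ?_).symm
  rw [map_add, Sect.add_val, map_add, isVal_ev s χ h M N hN hM, isVal_ev t χ h M N hN hM]

lemma ev_smul (a : Γ(StMod.sch 𝒳 ξ, W)) {ζ : AObj 𝒳} (χ : ζ.1 ⟶ ξ) (h : ⊤ ≤ StMod.bmap 𝒳 χ ⁻¹ᵁ W) :
    ev (a • s) χ h = resFn χ W h a • ev s χ h := by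
  refine (eq_ev (a • s) h fun M N hN hM => ?_).symm
  rw [D.r_smul, Sect.smul_val, D.r_smul, isVal_ev s χ h M N hN hM, fnMap_resFn, fnMap_resFn]
  exact congrArg (· • _) (resFn_congr (fac_li hp _ _).symm _ _ a)

lemma ev_restr {V : (StMod.sch 𝒳 ξ).Opens} (hV : V ≤ W) {ζ : AObj 𝒳} (χ : ζ.1 ⟶ ξ)
    (h : ⊤ ≤ StMod.bmap 𝒳 χ ⁻¹ᵁ V) :
    ev (Sect.restr hV s) χ h = ev s χ (h.trans ((StMod.bmap 𝒳 χ).preimage_mono hV)) :=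
  (eq_ev (Sect.restr hV s) h fun M N hN hM => isVal_ev s χ _ M N (hN.trans hV) hM).symm

end Ev

end AffData

end Groth.Agent.H14QCoh
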