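import Groth.Agent.H14QCoh.StackCharts
import Groth.Agent.H14QCoh.LocFree
import Groth.Agent.H8Props.FinLocFree.Sheaf
import Groth.Agent.H12AlgSp.BCMod.ProjLocal

/-!
# Finite local freeness descends along fppf families of objects
-/

set_option autoImplicit false
set_option linter.style.haveILetI false
set_option backward.isDefEq.respectTransparency false
set_option backward.isDefEq.respectTransparency.types false

universe t u

open CategoryTheory CategoryTheory.Limits AlgebraicGeometry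
open scoped TensorProduct

noncomputable section

namespace Groth.Agent.H14QCoh

open H14Fib H14AlgSt H14Stk

variable {S : Scheme.{u}} {𝒳 𝒴 : AlgSt.Cat S}

/-- An fppf cover of the fibre product of a chart with an fppf one. -/
theorem exists_fp_fppf {U V : Over S} {𝒵 : AlgSt.Cat S} (h𝒵 : FibCat.IsFibGrpd 𝒵.p) {x : FibCat.overCat U ⥤ᵇ 𝒵}
    (h1 : AlgSt.RepByAlgSpWith (AlgSp.LocP @Flat) x)
    (h2 : AlgSt.RepByAlgSpWith (AlgSp.LocP @LocallyOfFinitePresentation) x) (z : FibCat.overCat V ⥤ᵇ 𝒵) :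
    ∃ (A : Over S) (c : A ⟶ V) (v : A ⟶ U), Flat c.left ∧ LocallyOfFinitePresentation c.left ∧
      (∀ t b, AlgSt.Points.ofChart z t = AlgSt.Points.ofChart x b → ∃ s, c.left s = t) ∧
      Nonempty (BasedFunctor.comp (AlgSt.overMap c) z ≅ BasedFunctor.comp (AlgSt.overMap v) x) := by
  obtain ⟨F, e, he, hσf⟩ := h1 V z
  let q := BasedFunctor.comp e (FibCat.fpFst z x)
  let σ := AlgSt.spMapOfOver q
  obtain ⟨k⟩ := spMapOfOver_eq q
  have hσl : AlgSp.LocP @LocallyOfFinitePresentation σ :=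
    prop_of_repData (sourceIsoInv_locP _) (h2 V z) he k
  obtain ⟨A, p, hpe, hps⟩ := F.property.atlas
  obtain ⟨c, hc⟩ := (AlgSp.yon S).map_surjective (p ≫ σ)
  have key : ∀ {Q : MorphismProperty Scheme.{u}}, H12AlgSp.EtLocal Q → AlgSp.LocP Q σ → Q c.left :=
    fun {Q} hQ h => AlgSp.locP_yon_map (hc ▸ H12AlgSp.locP_comp hQ (AlgSp.IsAlgSpace.yon_obj A)
      F.property (AlgSp.IsAlgSpace.yon_obj V) (H12AlgSp.locP_mono hQ.etale_le
        (H12AlgSp.locP_of_repWith H12AlgSp.etLocal_etale hpe)) h)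
  let a := BasedFunctor.comp (BasedFunctor.comp (AlgSt.ofOverCat A) (AlgSt.ofSpMap p)) e
  have hU := (isFibSetoid_of_rep (repByAlgSp_overCat U)).1
  have hV := (isFibSetoid_of_rep (repByAlgSp_overCat V)).1
  have hF := fp_fibGrpd (F := z) (G := x) hV hU h𝒵
  have ha := surjective_of_repWith hF ((repWith_comp_equiv_iff he).2
    ((repWith_equiv_comp_iff (ofOverCat_isEquivOver A)).1 (repWith_surjective_of_repWith p hps)))
  let m : BasedFunctor.comp (BasedFunctor.comp (AlgSt.ofOverCat A) (AlgSt.ofSpMap (p ≫ σ)))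
      (AlgSt.toOverCat V) ≅ AlgSt.overMap c := by
    rw [← hc]
    exact mkIso (fun s => Iso.refl _)
      (fun {_ _} φ => (Category.comp_id _).trans ((Category.id_comp _).trans
        (Over.OverMorphism.ext rfl)).symm)
      (fun s => IsHomLift.id rfl)
  let i₁ : BasedFunctor.comp a (FibCat.fpFst z x) ≅ AlgSt.overMap c :=
    (Stk.restr (BasedFunctor.comp (AlgSt.ofOverCat A) (AlgSt.ofSpMap p)) _).mapIso k ≪≫ m
  obtain ⟨v, ⟨i₂⟩⟩ := exists_overMap_iso (BasedFunctor.comp a (FibCat.fpSnd z x))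
  refine ⟨A, c, v, key H12AlgSp.etLocal_flat hσf, key H12AlgSp.etLocal_lfp hσl, fun t b h => ?_,
    ⟨(H14Stk.post _ z).mapIso i₁.symm ≪≫ (Stk.restr a _).mapIso (FibCat.fpIso z x) ≪≫
      (H14Stk.post _ x).mapIso i₂⟩⟩
  rw [ofChart_eq_map z, ofChart_eq_map x] at h
  obtain ⟨w, hw1, -⟩ := exists_points_fp hV hU h𝒵 h
  obtain ⟨s, rfl⟩ := ha w
  exact ⟨chartPoint s, by rw [← chartPoint_overMap, ← points_map_iso i₁, points_map_comp, hw1, chartPoint_ofChart]⟩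

/-- A morphism flat on atlases and from a representable flat chart: the category over an object of an affine scheme. -/
theorem exists_fppf_charts (h𝒴 : FibCat.IsFibGrpd 𝒴.p) {A : Type u} {T : A → Over S}
    (y : ∀ a, FibCat.overCat (T a) ⥤ᵇ 𝒴) (hfl : ∀ a, AlgSt.RepByAlgSpWith (AlgSp.LocP @Flat) (y a))
    (hlfp : ∀ a, AlgSt.RepByAlgSpWith (AlgSp.LocP @LocallyOfFinitePresentation) (y a))
    (hsurj : ∀ p : AlgSt.Points 𝒴, ∃ (a : A) (t : (T a).left), AlgSt.Points.ofChart (y a) t = p)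
    (η : 𝒴.obj) :
    ∃ (κ : Type u) (η' : κ → 𝒴.obj) (β : ∀ k, η' k ⟶ η) (a : κ → A),
      (∀ k, IsAffine (StMod.sch 𝒴 (η' k))) ∧ (∀ k, Flat (StMod.bmap 𝒴 (β k))) ∧ (∀ k, LocallyOfFinitePresentation (StMod.bmap 𝒴 (β k))) ∧
      (∀ p : StMod.sch 𝒴 η, ∃ k q, StMod.bmap 𝒴 (β k) q = p) ∧
      ∀ k, Nonempty (η' k ⟶ (y (a k)).obj (topObj (T (a k)))) := by
  have := isFibered_of_fibGrpd h𝒴
  obtain ⟨z, ez, -, hez⟩ := exists_fromOver (𝒳 := 𝒴) (x := η) rfl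
  choose B c v hcf hcp hcl i using fun a => exists_fp_fppf h𝒴 (hfl a) (hlfp a) z
  let κ := Σ a, (B a).left.affineOpens
  let s : ∀ k : κ, (FibCat.overCat (B k.1)).obj := fun k =>
    Over.mk (Over.homMk k.2.1.ι rfl : Over.mk (k.2.1.ι ≫ (B k.1).hom) ⟶ B k.1)
  let β : ∀ k : κ, z.obj ((AlgSt.overMap (c k.1)).obj (s k)) ⟶ η := fun k => z.map (toTop _) ≫ ez.hom
  have hez' : StMod.bmap 𝒴 ez.hom = eqToHom (congrArg (fun t => t.left) (z.w_obj (topObj (𝒴.p.obj η)))) := by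
    have := congrArg (fun m => m.left) (IsHomLift.fac' 𝒴.p (𝟙 (𝒴.p.obj η)) ez.hom)
    refine this.trans ?_
    simp
  let e0 : ∀ k : κ, StMod.sch 𝒴 (z.obj ((AlgSt.overMap (c k.1)).obj (s k))) = k.2.1.toScheme := fun k =>
    congrArg (fun t => t.left) (z.w_obj ((AlgSt.overMap (c k.1)).obj (s k)))
  have hb : ∀ k : κ, StMod.bmap 𝒴 (β k) = eqToHom (e0 k) ≫ k.2.1.ι ≫ (c k.1).left := fun k => by
    have h1 := StMod.bmap_map_comm z (toTop ((AlgSt.overMap (c k.1)).obj (s k))) rfl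
    rw [StMod.bmap_comp, hez']
    exact h1.trans rfl
  refine ⟨κ, _, β, fun k => k.1, fun k => (e0 k).symm ▸ k.2.2, fun k => ?_, fun k => ?_, fun p => ?_, fun k =>
    ⟨(appIso (i k.1).some (s k)).hom ≫ (y k.1).map (toTop _)⟩⟩
  · haveI := hcf k.1
    rw [hb k]
    infer_instance
  · haveI := hcp k.1
    rw [hb k]
    infer_instance
  · obtain ⟨a, t, ht⟩ := hsurj (AlgSt.Points.ofChart z p)
    obtain ⟨q, hq⟩ := hcl a p t ht.symm
    obtain ⟨V, hV, hqV, -⟩ := exists_isAffineOpen_mem_and_subset (x := q) (U := ⊤) trivial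
    let k : κ := ⟨a, ⟨V, hV⟩⟩
    refine ⟨k, (eqToHom (e0 k).symm) ⟨q, hqV⟩, ?_⟩
    rw [← Scheme.Hom.comp_apply, hb k, eqToHom_trans_assoc, eqToHom_refl, Category.id_comp,
      Scheme.Hom.comp_apply]
    exact hq

/-- Finite local freeness of the sections over an object is local for fppf families. -/
theorem isFinLocFree_of_cover (E : StMod.QCoh 𝒳) (ξ : 𝒳.obj)
    (hs : ∀ p : StMod.sch 𝒳 ξ, ∃ (ξ' : 𝒳.obj) (φ : ξ' ⟶ ξ), Flat (StMod.bmap 𝒳 φ) ∧
      LocallyOfFinitePresentation (StMod.bmap 𝒳 φ) ∧ (∃ q, StMod.bmap 𝒳 φ q = p) ∧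
        FlatMod.IsFinLocFree (E.obj.obj ξ')) :
    FlatMod.IsFinLocFree (E.obj.obj ξ) := by
  classical
  refine H8Props.FinLocFree.isFinLocFree_of_sections _ (E.property.2 ξ) fun x => ?_
  obtain ⟨U, hU, hxU, -⟩ := exists_isAffineOpen_mem_and_subset (X := StMod.sch 𝒳 ξ) (x := x) (U := ⊤) trivial
  choose ξ' φ hfl hlfp hq hfree using fun p : U => hs p.1
  choose q hq using hq
  have hP : ∀ p : U, ∃ P : (StMod.sch 𝒳 (ξ' p)).Opens,
      IsAffineOpen P ∧ P ≤ StMod.bmap 𝒳 (φ p) ⁻¹ᵁ U ∧ q p ∈ P := fun p => by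
    obtain ⟨P, h1, h2, h3⟩ := exists_isAffineOpen_mem_and_subset (U := StMod.bmap 𝒳 (φ p) ⁻¹ᵁ U) (x := q p)
      (show StMod.bmap 𝒳 (φ p) (q p) ∈ U from (hq p).symm ▸ p.2)
    exact ⟨P, h1, h3, h2⟩
  choose P hPa hPle hPq using hP
  obtain ⟨s, hs⟩ := hU.isCompact.elim_finite_subcover
    (fun p : U => StMod.bmap 𝒳 (φ p) '' (P p : Set (StMod.sch 𝒳 (ξ' p))))
    (fun p => haveI := hfl p; haveI := hlfp p; (StMod.bmap 𝒳 (φ p)).isOpenMap _ (P p).isOpen)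
    (fun y hy => Set.mem_iUnion.2 ⟨⟨y, hy⟩, q ⟨y, hy⟩, hPq _, hq _⟩)
  let R := Γ(StMod.sch 𝒳 ξ, U)
  let R' : s → Type u := fun p => Γ(StMod.sch 𝒳 (ξ' p.1), P p.1)
  letI : ∀ p : s, Algebra R (R' p) := fun p =>
    ((StMod.bmap 𝒳 (φ p.1)).appLE U (P p.1) (hPle p.1)).hom.toAlgebra
  haveI : ∀ p : s, Module.Flat R (R' p) := fun p =>
    HasRingHomProperty.appLE (P := @Flat) (StMod.bmap 𝒳 (φ p.1)) (hfl p.1) ⟨U, hU⟩ ⟨P p.1, hPa p.1⟩ (hPle p.1)
  have hbc : ∀ p : s, Module.Finite (R' p) (R' p ⊗[R] Γ(E.obj.obj ξ, U)) ∧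
      Module.Projective (R' p) (R' p ⊗[R] Γ(E.obj.obj ξ, U)) := fun p => by
    letI := Module.compHom Γ(E.obj.obj (ξ' p.1), P p.1)
      ((StMod.bmap 𝒳 (φ p.1)).appLE U (P p.1) (hPle p.1)).hom
    haveI : IsScalarTower R (R' p) Γ(E.obj.obj (ξ' p.1), P p.1) := .of_algebraMap_smul fun _ _ => rfl
    have e := (isBaseChange_resLin E (φ p.1) (hPle p.1) hU (hPa p.1)).equiv
    obtain ⟨i1, i2⟩ := H8Props.FinLocFree.finite_projective_sections _ (hfree p.1) (hPa p.1)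
    exact ⟨Module.Finite.equiv e.symm, Module.Projective.of_equiv e.symm⟩
  obtain ⟨h1, h2⟩ := H12AlgSp.BCMod.finite_projective_of_family Γ(E.obj.obj ξ, U)
    (fun i : Fin s.card => R' (s.equivFin.symm i)) (fun a => by
    have haU : hU.fromSpec a ∈ U := hU.range_fromSpec.subset ⟨a, rfl⟩
    obtain ⟨p, hp, t, ht, hta⟩ := Set.mem_iUnion₂.1 (hs haU)
    obtain ⟨i, hi⟩ := s.equivFin.symm.surjective ⟨p, hp⟩
    refine ⟨i, ?_⟩
    rw [hi]
    refine ⟨(hPa p).primeIdealOf ⟨t, ht⟩, hU.fromSpec.isOpenEmbedding.injective ?_⟩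
    change (Spec.map ((StMod.bmap 𝒳 (φ p)).appLE U (P p) (hPle p)) ≫ hU.fromSpec) _ = _
    rw [IsAffineOpen.SpecMap_appLE_fromSpec _ hU (hPa p) (hPle p), Scheme.Hom.comp_apply,
      IsAffineOpen.fromSpec_primeIdealOf]
    exact hta) (fun i => (hbc _).1) (fun i => (hbc _).2)
  exact ⟨U, hU, hxU, Module.finitePresentation_of_projective _ _, inferInstance⟩

/-- Modules locally free of finite type on the base changes along an fppf family are finite locally free. -/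
theorem isFinLocFree_of_fppf_family (h𝒳 : AlgSt.IsAlgStack Scheme.fppfPrecoverage 𝒳)
    (h𝒴 : AlgSt.IsAlgStack Scheme.fppfPrecoverage 𝒴) (f : 𝒳 ⥤ᵇ 𝒴) {A : Type u} {𝒲 : A → AlgSt.Cat S}
    (h𝒲 : ∀ a, FibCat.IsFibGrpd (𝒲 a).p) (g : ∀ a, 𝒲 a ⥤ᵇ 𝒴)
    (hfl : ∀ a, AlgSt.LocQ (AlgSp.LocP (@Flat ⊓ @LocallyOfFinitePresentation)) (g a))
    (hsurj : ∀ p : AlgSt.Points 𝒴, ∃ (a : A) (q : AlgSt.Points (𝒲 a)), AlgSt.Points.map (g a) q = p)
    (E : StMod.QCoh 𝒳) (hlf : ∀ a, ((StMod.comapQ (FibCat.fpFst f (g a))).obj E).obj.IsLocFree ∧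
      ((StMod.comapQ (FibCat.fpFst f (g a))).obj E).obj.IsFinType)
    (ξ : 𝒳.obj) : FlatMod.IsFinLocFree (E.obj.obj ξ) := by
  choose U V x y h i hx hxs hy hh using hfl
  have hh1 : ∀ a, Flat (h a).left ∧ LocallyOfFinitePresentation (h a).left := fun a => AlgSp.locP_yon_map (hh a)
  have hrep : ∀ a, AlgSt.RepByAlgSpWith (AlgSp.LocP @Flat) (BasedFunctor.comp (x a) (g a)) := fun a =>
    repWith_of_iso (i a).symm (repWith_locP_comp H12AlgSp.etLocal_flat (fibGrpd_overCat (U a))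
      (fibGrpd_overCat (V a)) (repWith_overMap H12AlgSp.etLocal_flat (h a) (hh1 a).1)
      (repWith_locP_mono smooth_le_flat (hy a)))
  have hrep' : ∀ a, AlgSt.RepByAlgSpWith (AlgSp.LocP @LocallyOfFinitePresentation)
      (BasedFunctor.comp (x a) (g a)) := fun a =>
    repWith_of_iso (i a).symm (repWith_locP_comp H12AlgSp.etLocal_lfp (fibGrpd_overCat (U a))
      (fibGrpd_overCat (V a)) (repWith_overMap H12AlgSp.etLocal_lfp (h a) (hh1 a).2)
      (repWith_locP_mono smooth_le_lfp (hy a)))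
  have hs : ∀ p : AlgSt.Points 𝒴, ∃ (a : A) (t : (U a).left),
      AlgSt.Points.ofChart (BasedFunctor.comp (x a) (g a)) t = p := fun p => by
    obtain ⟨a, q, hq⟩ := hsurj p
    obtain ⟨t, ht⟩ := ofChart_surjective (h𝒲 a) (hxs a) q
    exact ⟨a, t, by rw [ofChart_comp, ht, hq]⟩
  obtain ⟨κ, η', β, a, -, hflat, hlfp, hcov, hm⟩ :=
    exists_fppf_charts h𝒴.isStack.1 _ hrep hrep' hs (f.obj ξ)
  refine isFinLocFree_of_cover E ξ fun p => ?_
  let z : (StMod.fibCat f (f.obj ξ)).obj := CostructuredArrow.mk (𝟙 (f.obj ξ))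
  obtain ⟨k, q, hq⟩ := hcov (pr f z p)
  obtain ⟨z', e, hpb, -⟩ := exists_bc f (β k) h𝒳.isStack.1 h𝒴.isStack.1 z
  obtain ⟨r, -, hr⟩ := Scheme.exists_preimage_of_isPullback hpb q p hq
  obtain ⟨m⟩ := hm k
  let ω := toStPt f (g (a k)) ((x (a k)).obj (topObj (U (a k)))) h𝒴.isStack.1 (h𝒲 (a k))
    (CostructuredArrow.mk (z'.hom ≫ m))
  exact ⟨z'.left, e.left, MorphismProperty.of_isPullback hpb (hflat k),
    MorphismProperty.of_isPullback hpb (hlfp k), ⟨r, hr⟩,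
    isFinLocFree_of_isLocallyFree _ (E.property.2 z'.left) ((hlf (a k)).1 ω) ((hlf (a k)).2 ω)⟩

end Groth.Agent.H14QCoh
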