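import Groth.Agent.H14QCoh.Basic
import Groth.Agent.H14AlgSt.SigmaChart
import Groth.Agent.H14AlgSt.DisjointGlue
import Groth.Agent.H14AlgSt.Descent
import Groth.Agent.H14AlgSt.DiagLFT
import Groth.Agent.H14Stk.Gerbe
import Groth.Agent.H14Stk.Local
import Groth.Agent.H14Quot.Etale
import Groth.Agent.H14QCoh.Cast

/-!
# Local lifts of objects over affine schemes give lifts on affine faithfully flat covers
-/

set_option autoImplicit false
set_option linter.style.haveILetI false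
set_option backward.isDefEq.respectTransparency false
set_option backward.isDefEq.respectTransparency.types false

universe u

open CategoryTheory CategoryTheory.Functor CategoryTheory.Limits AlgebraicGeometry

noncomputable section

namespace Groth.Agent.H14QCoh

open H14Fib H14AlgSt H14Stk H14Quot

variable {S : Scheme.{u}} {𝒳 𝒴 : AlgSt.Cat S}

lemma bmap_of_lift {a b : 𝒴.obj} {U V : Over S} (k : V ⟶ U) (φ : a ⟶ b) (hφ : 𝒴.p.IsHomLift k φ)
    (ha : 𝒴.p.obj a = V) (hb : 𝒴.p.obj b = U) :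
    StMod.bmap 𝒴 φ = eqToHom (congrArg (fun t => t.left) ha) ≫ k.left ≫
      eqToHom (congrArg (fun t => t.left) hb).symm := by
  have h := congrArg (fun m => m.left) (@IsHomLift.fac' _ _ _ _ 𝒴.p _ _ _ _ k φ hφ)
  refine h.trans ?_
  simp

/-- Local lifting of objects gives a lift on an affine fppf cover of an affine scheme. -/
theorem exists_cov_lfp_of_locSurjObj (h𝒳 : Stk.IsStack (QuotSh.J Scheme.fppfPrecoverage S) 𝒳)
    (h𝒴 : Stk.IsStack (QuotSh.J Scheme.fppfPrecoverage S) 𝒴) {π : 𝒳 ⥤ᵇ 𝒴}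
    (hπ : Gerb.LocSurjObj (QuotSh.J Scheme.fppfPrecoverage S) π) (y : 𝒴.obj)
    (hy : IsAffine (StMod.sch 𝒴 y)) :
    ∃ (x : 𝒳.obj) (g : π.obj x ⟶ y), IsAffine (StMod.sch 𝒳 x) ∧ IsCov g ∧
      LocallyOfFinitePresentation (StMod.bmap 𝒴 g) := by
  classical
  have hK : Scheme.etalePrecoverage.{u} ≤ Scheme.fppfPrecoverage := etale_le_fppf_pre
  haveI := isFibered_of_fibGrpd h𝒳.1
  haveI := isFibered_of_fibGrpd h𝒴.1
  obtain ⟨R, hR, hloc⟩ := hπ y
  obtain ⟨C, c, hc1, hc2, hc3, hcR⟩ := exists_fppf_family (R := R) hR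
  haveI : IsAffine (𝒴.p.obj y).left := hy
  choose i w hw using fun v => (⟨(hc3 v).choose, (hc3 v).choose_spec.choose, (hc3 v).choose_spec.choose_spec⟩ :
    ∃ (i : (𝒴.p.obj y).left) (w : (C i).left), (c i).left w = v)
  choose W hW hwW _ using fun v => exists_isAffineOpen_mem_and_subset (X := (C (i v)).left) (x := w v) (U := ⊤)
    trivial
  obtain ⟨t, ht⟩ := (isAffineOpen_top (𝒴.p.obj y).left).isCompact.elim_finite_subcover
    (fun v => (c (i v)).left '' (W v : Set (C (i v)).left))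
    (fun v => haveI := hc1 (i v); haveI := hc2 (i v); (c (i v)).left.isOpenMap _ (W v).isOpen)
    (fun v _ => Set.mem_iUnion.2 ⟨v, w v, hwW v, hw v⟩)
  let ι' : Type u := {v // v ∈ t}
  let V : ι' → Over S := fun j => Over.mk ((W j.1).ι ≫ (C (i j.1)).hom)
  let l : ∀ j : ι', V j ⟶ C (i j.1) := fun j => Over.homMk (W j.1).ι rfl
  let k : ∀ j : ι', V j ⟶ 𝒴.p.obj y := fun j => l j ≫ c (i j.1)
  choose x g hg using fun j : ι' => hloc (k j) (R.downward_closed (hcR (i j.1)) (l j))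
  have hxV : ∀ j, 𝒳.p.obj (x j) = V j := fun j => haveI := hg j; obj_over_of_lift (f := k j) (g j)
  choose p e hp he using fun j => exists_fromOver (𝒳 := 𝒳) (x := x j) (hxV j)
  obtain ⟨z, ez, hz, hez⟩ := exists_fromOver (𝒳 := 𝒴) (x := y) rfl
  obtain ⟨P, hP⟩ := exists_sigma_glue hK h𝒳 p
  let d : sigmaOver V ⟶ 𝒴.p.obj y :=
    Over.homMk (Sigma.desc fun j => (k j).left) (Sigma.hom_ext _ _ fun j => by
      rw [Sigma.ι_desc_assoc, Over.w]
      exact (Sigma.ι_desc (fun j => (V j).hom) j).symm)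
  have hd : ∀ j, sigmaIncl V j ≫ d = k j := fun j => Over.OverMorphism.ext (Sigma.ι_desc _ _)
  have hJ : ∀ j, Nonempty (BasedFunctor.comp (AlgSt.overMap (sigmaIncl V j)) (BasedFunctor.comp P π) ≅
      BasedFunctor.comp (AlgSt.overMap (sigmaIncl V j)) (BasedFunctor.comp (AlgSt.overMap d) z)) := by
    intro j
    obtain ⟨a⟩ := hP j
    obtain ⟨b⟩ := overMap_comp_iso (sigmaIncl V j) d z h𝒴.1
    rw [hd j] at b
    let G₁ := BasedFunctor.comp (p j) π
    let G₂ := BasedFunctor.comp (AlgSt.overMap (k j)) z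
    let φ₁ : G₁.obj (topObj (V j)) ⟶ y := π.map (e j).hom ≫ g j
    let φ₂ : G₂.obj (topObj (V j)) ⟶ y := z.map (toTop _) ≫ ez.hom
    have h₁ : 𝒴.p.IsHomLift (k j) φ₁ := by
      have h0 : 𝒴.p.IsHomLift (𝟙 (V j)) (π.map (e j).hom) :=
        @BasedFunctor.preserves_isHomLift _ _ _ _ π _ _ _ _ _ _ (he j)
      have := hg j
      exact IsHomLift.comp_lift_id_left' 𝒴.p (V j) _ (k j) (g j)
    have h₂ : 𝒴.p.IsHomLift (k j) φ₂ := by
      have h0 : 𝒴.p.IsHomLift (k j)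
          (z.map (toTop ((AlgSt.overMap (k j)).obj (topObj (V j))))) := by
        have h1 := over_map_toTop_lift z ((AlgSt.overMap (k j)).obj (topObj (V j)))
        have e1 : ((AlgSt.overMap (k j)).obj (topObj (V j))).hom = k j := Category.id_comp _
        exact e1 ▸ h1
      exact IsHomLift.comp_lift_id_right' 𝒴.p (k j) _ (𝒴.p.obj y) ez.hom
    obtain ⟨κ, hκ, -⟩ := exists_vertIso h𝒴.1 (k j) φ₁ φ₂
    let m : G₁ ≅ G₂ := isoOfTop (topSC_of_fibGrpd h𝒴.1 _) (topSC_of_fibGrpd h𝒴.1 _) κ hκ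
    exact ⟨(Stk.restr (BasedFunctor.id _) _).mapIso ((post (FibCat.overCat (V j)) π).mapIso a ≪≫ m ≪≫ b.symm)⟩
  obtain ⟨J⟩ := nonempty_iso_of_sigma hK h𝒴 (fun j => (hJ j).some)
  let σ := sigmaOver V
  let g₀ : π.obj (P.obj (topObj σ)) ⟶ y :=
    (isoApp J (topObj σ)).hom ≫ z.map (toTop ((AlgSt.overMap d).obj (topObj σ))) ≫ ez.hom
  haveI : ∀ j : ι', IsAffine (V j).left := fun j => hW j.1
  have hσ : IsAffine σ.left := inferInstanceAs (IsAffine (∐ fun j => (V j).left))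
  have hx0 : StMod.sch 𝒳 (P.obj (topObj σ)) = σ.left := congrArg (fun t => t.left) (P.w_obj _)
  have hg₀ : 𝒴.p.IsHomLift d g₀ := by
    have h0 : 𝒴.p.IsHomLift d (z.map (toTop ((AlgSt.overMap d).obj (topObj σ)))) := by
      have h1 := over_map_toTop_lift z ((AlgSt.overMap d).obj (topObj σ))
      have e1 : ((AlgSt.overMap d).obj (topObj σ)).hom = d := Category.id_comp _
      exact e1 ▸ h1
    have h1 : 𝒴.p.IsHomLift (𝟙 σ) (isoApp J (topObj σ)).hom := BasedNatTrans.isHomLift J.hom rfl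
    have h2 : 𝒴.p.IsHomLift d (z.map (toTop ((AlgSt.overMap d).obj (topObj σ))) ≫ ez.hom) :=
      IsHomLift.comp_lift_id_right' 𝒴.p d _ (𝒴.p.obj y) ez.hom
    exact IsHomLift.comp_lift_id_left' 𝒴.p σ _ d _
  have hdf : Flat d.left := by
    change Flat (Sigma.desc fun j => (k j).left)
    refine IsZariskiLocalAtSource.sigmaDesc fun j => ?_
    haveI := hc1 (i j.1)
    change Flat ((W j.1).ι ≫ (c (i j.1)).left)
    infer_instance
  have hds : Surjective d.left := ⟨fun v => by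
    obtain ⟨v', hv', q, hq, hqv⟩ := Set.mem_iUnion₂.1 (ht (Set.mem_univ v))
    refine ⟨(Sigma.ι (fun j => (V j).left) ⟨v', hv'⟩) ⟨q, hq⟩, ?_⟩
    refine (Scheme.Hom.comp_apply _ _ _).symm.trans ?_
    change (Sigma.ι (fun j => (V j).left) ⟨v', hv'⟩ ≫ Sigma.desc fun j => (k j).left) _ = v
    rw [Sigma.ι_desc]
    exact hqv⟩
  have hdl : LocallyOfFinitePresentation d.left := by
    change LocallyOfFinitePresentation (Sigma.desc fun j => (k j).left)
    refine IsZariskiLocalAtSource.sigmaDesc fun j => ?_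
    haveI := hc2 (i j.1)
    change LocallyOfFinitePresentation ((W j.1).ι ≫ (c (i j.1)).left)
    infer_instance
  refine ⟨P.obj (topObj σ), g₀, hx0 ▸ hσ, ⟨?_, ?_, ?_⟩, ?_⟩
  · rw [StMod.sch_obj_eq π]
    exact hx0 ▸ hσ
  all_goals
    rw [bmap_of_lift d g₀ hg₀ ((BasedFunctor.comp P π).w_obj _) rfl]
    infer_instance

/-- Local lifting of objects gives a lift on an affine faithfully flat cover of an affine scheme. -/
theorem exists_cov_of_locSurjObj (h𝒳 : Stk.IsStack (QuotSh.J Scheme.fppfPrecoverage S) 𝒳)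
    (h𝒴 : Stk.IsStack (QuotSh.J Scheme.fppfPrecoverage S) 𝒴) {π : 𝒳 ⥤ᵇ 𝒴}
    (hπ : Gerb.LocSurjObj (QuotSh.J Scheme.fppfPrecoverage S) π) (y : 𝒴.obj)
    (hy : IsAffine (StMod.sch 𝒴 y)) :
    ∃ (x : 𝒳.obj) (g : π.obj x ⟶ y), IsAffine (StMod.sch 𝒳 x) ∧ IsCov g := by
  obtain ⟨x, g, h1, h2, -⟩ := exists_cov_lfp_of_locSurjObj h𝒳 h𝒴 hπ y hy
  exact ⟨x, g, h1, h2⟩

end Groth.Agent.H14QCoh
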