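import Groth.Agent.H14QCoh.DenseEquiv
import Groth.Agent.H14QCoh.LocCov
import Groth.Agent.H14QCoh.StackCharts
import Groth.Agent.H14Stk.Gerbe2
import Groth.Prelude.Def_TwSh

/-!
# Gerbes are dense functors with locally lifted arrows
-/

set_option autoImplicit false
set_option linter.style.haveILetI false
set_option backward.isDefEq.respectTransparency false
set_option backward.isDefEq.respectTransparency.types false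

universe u

open CategoryTheory CategoryTheory.Limits AlgebraicGeometry Opposite

noncomputable section

namespace Groth.Agent.H14QCoh

open H14Fib H14AlgSt H14Stk

variable {S : Scheme.{u}} {𝒳 𝒴 : AlgSt.Cat S}

local notation "J₀" => QuotSh.J Scheme.fppfPrecoverage S

/-- Local lifting of arrows is local lifting of objects along the diagonal. -/
theorem locSurjObj_diag {π : 𝒳 ⥤ᵇ 𝒴} (h : Gerb.LocSurjHom J₀ π) : Gerb.LocSurjObj J₀ (FibCat.diag π) := by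
  intro ω
  obtain ⟨R, hR, hRl⟩ := h ω.obj.fst ω.obj.snd ω.obj.iso.hom ω.property
  refine ⟨R, hR, fun V f hf => ?_⟩
  obtain ⟨x₀, φ, ψ, hφ, hψ, e⟩ := hRl f hf
  refine ⟨x₀, ObjectProperty.homMk { fst := φ, snd := ψ, w := e.trans (Category.id_comp _).symm }, ?_⟩
  exact IsHomLift.of_fac' _ _ _
    (show 𝒳.p.obj x₀ = V from @IsHomLift.domain_eq _ _ _ _ 𝒳.p _ _ _ _ f φ hφ) rfl
    (@IsHomLift.fac' _ _ _ _ 𝒳.p _ _ _ _ f φ hφ)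

/-- Arrows between images lift on affine covers. -/
theorem exists_lift_of_gerbe (h𝒳 : AlgSt.IsAlgStack Scheme.fppfPrecoverage 𝒳)
    (h𝒴 : AlgSt.IsAlgStack Scheme.fppfPrecoverage 𝒴) {π : 𝒳 ⥤ᵇ 𝒴} (hπ : Gerb.IsGerbeOver J₀ π)
    {x x' : 𝒳.obj} (hx : IsAffine (StMod.sch 𝒳 x)) (b : π.obj x ⟶ π.obj x') :
    ∃ (w : 𝒳.obj) (φ : w ⟶ x) (ψ : w ⟶ x'), IsCov φ ∧ π.map φ ≫ b = π.map ψ := by
  let f : 𝒳.p.obj x ⟶ 𝒳.p.obj x' := eqToHom (π.w_obj x).symm ≫ 𝒴.p.map b ≫ eqToHom (π.w_obj x')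
  obtain ⟨x₁, a, ha⟩ := h𝒳.isStack.1.exists_lift f
  have hx₁ : 𝒳.p.obj x₁ = 𝒳.p.obj x := @IsHomLift.domain_eq _ _ _ _ 𝒳.p _ _ _ _ f a ha
  have hfb : 𝒴.p.IsHomLift f b :=
    IsHomLift.of_fac' 𝒴.p f b (π.w_obj x) (π.w_obj x') (by simp [f])
  have hfa : 𝒴.p.IsHomLift f (π.map a) :=
    @BasedFunctor.preserves_isHomLift _ _ _ _ π _ _ _ _ _ _ ha
  obtain ⟨κ, hκ, hκb⟩ := exists_vertIso h𝒴.isStack.1 f b (π.map a)
  let ω : (FibCat.fp π π).obj := ⟨{ fst := x, snd := x₁, iso := κ }, hκ⟩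
  have hF : AlgSt.IsAlgStack Scheme.fppfPrecoverage (FibCat.fp π π) := isAlgStack_fp' h𝒳 h𝒳 h𝒴 π π
  obtain ⟨w, g, hw, hg⟩ := exists_cov_of_locSurjObj h𝒳.isStack hF.isStack (locSurjObj_diag hπ.2) ω hx
  refine ⟨w, g.hom.fst, g.hom.snd ≫ a, ⟨hw, hg.2.1, hg.2.2⟩, ?_⟩
  have e : π.map g.hom.fst ≫ κ.hom = 𝟙 (π.obj w) ≫ π.map g.hom.snd := g.hom.w
  rw [π.map_comp, ← hκb, ← Category.assoc, e, Category.id_comp]

/-- A module with trivial inertial action of a band does not see the kernel of the gerbe. -/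
theorem mapTop_eq_of_zero_twisted (h𝒳 : AlgSt.IsAlgStack Scheme.fppfPrecoverage 𝒳)
    (h𝒴 : FibCat.IsFibGrpd 𝒴.p) {A : (Over S)ᵒᵖ ⥤ GrpCat.{u}} (χ : A ⟶ TwSh.GmPsh S) (π : 𝒳 ⥤ᵇ 𝒴)
    (ι' : TwSh.BandHom 𝒳 A) (hπ : TwSh.IsBandedGerbe J₀ π ι') (F : StMod.Mod 𝒳)
    (hF : TwSh.IsTwisted F ι' χ 0) {w x : 𝒳.obj} (φ ψ : w ⟶ x) (m : Γ(F.obj x, ⊤)) (h : π.map φ = π.map ψ) :
    F.mapTop φ m = F.mapTop ψ m := by
  have hb : StMod.bmap 𝒳 φ = StMod.bmap 𝒳 ψ := by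
    have h1 := StMod.bmap_map_comm π φ rfl
    have h2 := StMod.bmap_map_comm π ψ rfl
    rw [h] at h1
    exact (cancel_epi (eqToHom (StMod.sch_obj_eq π w))).1 (h1.symm.trans h2)
  have hp : 𝒳.p.map φ = 𝒳.p.map ψ := Over.OverMorphism.ext hb
  have hφ : 𝒳.p.IsHomLift (𝒳.p.map φ) φ := inferInstance
  have hψ : 𝒳.p.IsHomLift (𝒳.p.map φ) ψ := hp ▸ inferInstance
  obtain ⟨e, he, hee⟩ := exists_vertIso h𝒳.isStack.1 (𝒳.p.map φ) φ ψ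
  let α : Gerb.AutO w := autMk e he
  have hα : α.hom.1 = e.hom := autMk_hom e he
  have hker : π.map α.hom.1 = 𝟙 _ := by
    refine hom_ext_bmap h𝒴 (π.map ψ) ?_ ?_
    · rw [Category.id_comp, ← π.map_comp, hα, hee, h]
    · rw [StMod.bmap_id, ← cancel_mono (eqToHom (StMod.sch_obj_eq π w)), Category.id_comp]
      refine (StMod.bmap_map_comm π α.hom.1 rfl).trans ?_
      rw [TwSh.bmap_autO]
      exact Category.comp_id _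
  have hmem : α ∈ (Gerb.autMap π w).ker := by
    rw [MonoidHom.mem_ker]
    exact autO_ext hker
  rw [← (hπ.2 w).2] at hmem
  obtain ⟨a, ha⟩ := hmem
  have h0 : (TwSh.inert F w α).app ⊤ (F.mapTop ψ m) = F.mapTop ψ m := by
    rw [← ha, hF w a ⊤ (F.mapTop ψ m), zpow_zero, inv_one, Units.val_one]
    erw [map_one]
    exact one_smul _ _
  rw [TwSh.inert_app_top, hα, ← F.mapTop_comp, hee] at h0
  exact h0

theorem exists_cov_of_gerbe (h𝒳 : AlgSt.IsAlgStack Scheme.fppfPrecoverage 𝒳)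
    (h𝒴 : AlgSt.IsAlgStack Scheme.fppfPrecoverage 𝒴) {π : 𝒳 ⥤ᵇ 𝒴} (hπ : Gerb.IsGerbeOver J₀ π)
    (y : AObj 𝒴) : ∃ (x : AObj 𝒳) (g : π.obj x.1 ⟶ y.1), IsCov g := by
  obtain ⟨x, g, hx, hg⟩ := exists_cov_of_locSurjObj h𝒳.isStack h𝒴.isStack hπ.1 y.1 y.2
  exact ⟨⟨x, hx⟩, g, hg⟩

/-- Inverse images along a functor lifting objects and arrows locally are fully faithful on modules. -/
theorem full_faithful_comapQ (h𝒳 : FibCat.IsFibGrpd 𝒳.p) (h𝒴 : FibCat.IsFibGrpd 𝒴.p) (π : 𝒳 ⥤ᵇ 𝒴)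
    (cov : ∀ y : AObj 𝒴, ∃ (x : AObj 𝒳) (g : π.obj x.1 ⟶ y.1), IsCov g)
    (lift : ∀ {x x' : AObj 𝒳} (b : π.obj x.1 ⟶ π.obj x'.1),
      ∃ (w : AObj 𝒳) (φ : w.1 ⟶ x.1) (ψ : w.1 ⟶ x'.1), IsCov φ ∧ π.map φ ≫ b = π.map ψ) :
    (StMod.comapQ π).Full ∧ (StMod.comapQ π).Faithful := by
  obtain @⟨X0, inst, p⟩ := 𝒳
  obtain ⟨P, w⟩ := π
  revert cov lift
  change X0 ⥤ 𝒴.obj at P
  change P ⋙ 𝒴.p = p at w
  subst w
  intro cov lift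
  refine ⟨⟨fun {G G'} u => ?_⟩, ⟨fun {G G' f g} h => ?_⟩⟩
  · obtain ⟨f, hf⟩ := exists_hom_of_comap (P := P) h𝒴 h𝒳 cov lift u.hom
    exact ⟨⟨f⟩, ObjectProperty.hom_ext _ hf⟩
  · exact ObjectProperty.hom_ext _ (hom_ext_of_comap (P := P) h𝒴 cov (congrArg (fun t => t.hom) h))

/-- Modules not seeing the kernel of a functor lifting objects and arrows locally are inverse images. -/
theorem exists_iso_comapQ (h𝒳 : FibCat.IsFibGrpd 𝒳.p) (h𝒴 : FibCat.IsFibGrpd 𝒴.p) (π : 𝒳 ⥤ᵇ 𝒴)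
    (cov : ∀ y : AObj 𝒴, ∃ (x : AObj 𝒳) (g : π.obj x.1 ⟶ y.1), IsCov g)
    (lift : ∀ {x x' : AObj 𝒳} (b : π.obj x.1 ⟶ π.obj x'.1),
      ∃ (w : AObj 𝒳) (φ : w.1 ⟶ x.1) (ψ : w.1 ⟶ x'.1), IsCov φ ∧ π.map φ ≫ b = π.map ψ)
    (F : StMod.QCoh 𝒳)
    (inv : ∀ {w x : AObj 𝒳} (φ ψ : w.1 ⟶ x.1) (m : Sec F x.1), π.map φ = π.map ψ →
      F.obj.mapTop φ m = F.obj.mapTop ψ m) :
    ∃ G : StMod.QCoh 𝒴, Nonempty (F ≅ (StMod.comapQ π).obj G) := by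
  obtain @⟨X0, inst, p⟩ := 𝒳
  obtain ⟨P, w⟩ := π
  revert cov lift
  change X0 ⥤ 𝒴.obj at P
  change P ⋙ 𝒴.p = p at w
  revert inv
  subst w
  intro inv cov lift
  exact exists_comap_iso (P := P) h𝒴 h𝒳 cov lift F inv

theorem exists_lift_of_gerbe' (h𝒳 : AlgSt.IsAlgStack Scheme.fppfPrecoverage 𝒳)
    (h𝒴 : AlgSt.IsAlgStack Scheme.fppfPrecoverage 𝒴) {π : 𝒳 ⥤ᵇ 𝒴} (hπ : Gerb.IsGerbeOver J₀ π)
    {x x' : AObj 𝒳} (b : π.obj x.1 ⟶ π.obj x'.1) :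
    ∃ (w : AObj 𝒳) (φ : w.1 ⟶ x.1) (ψ : w.1 ⟶ x'.1), IsCov φ ∧ π.map φ ≫ b = π.map ψ := by
  obtain ⟨w, φ, ψ, h1, h2⟩ := exists_lift_of_gerbe h𝒳 h𝒴 hπ x.2 b
  exact ⟨⟨w, h1.1⟩, φ, ψ, h1, h2⟩

end Groth.Agent.H14QCoh
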