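import Groth.Agent.H14QCoh.Presentation
import Groth.Agent.H14QCoh.LocFree
import Groth.Agent.H14QCoh.Cast
import Groth.Agent.H14QCoh.ExtendBasic
import Groth.Agent.H29Omega.SheafFinite
import Groth.Prelude.Def_StMod3
import Mathlib.RingTheory.Finiteness.Descent

/-!
# Finite type, finite presentation and finite local freeness descend along covers by images
-/

set_option autoImplicit false
set_option linter.style.haveILetI false
set_option backward.isDefEq.respectTransparency false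
set_option backward.isDefEq.respectTransparency.types false

universe v' w' w v u

open CategoryTheory CategoryTheory.Limits AlgebraicGeometry Opposite TopologicalSpace
open scoped TensorProduct

noncomputable section

namespace Groth.Agent.H14QCoh

section Alg

variable {A B : Type u} [CommRing A] [CommRing B] [Algebra A B] [Module.FaithfullyFlat A B]
  (M : Type u) [AddCommGroup M] [Module A M]

/-- Finite presentation of modules descends along faithfully flat maps. -/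
theorem finitePresentation_of_ff [Module.FinitePresentation B (B ⊗[A] M)] : Module.FinitePresentation A M := by
  haveI : Module.Finite A M := Module.Finite.of_finite_tensorProduct_of_faithfullyFlat B
  obtain ⟨n, f, hf⟩ := Module.Finite.exists_fin' A M
  let K := LinearMap.ker f
  let g := f.baseChange B
  have hg : Function.Surjective g := LinearMap.lTensor_surjective B hf
  have hk : (LinearMap.ker g).FG := Module.FinitePresentation.fg_ker g hg
  have hr : LinearMap.range (K.subtype.baseChange B) = LinearMap.ker g := by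
    refine le_antisymm ?_ fun z hz => ?_
    · rintro _ ⟨t, rfl⟩
      rw [LinearMap.mem_ker, ← LinearMap.comp_apply, ← LinearMap.baseChange_comp,
        show f ∘ₗ K.subtype = 0 from LinearMap.comp_ker_subtype f, LinearMap.baseChange_zero]
      rfl
    · obtain ⟨t, ht⟩ := ((Module.Flat.lTensor_exact B (f := K.subtype) (g := f)
        (LinearMap.exact_subtype_ker_map f)) z).1 hz
      exact ⟨t, ht⟩
  haveI : Module.Finite B (LinearMap.ker g) := Module.Finite.iff_fg.2 hk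
  have hinj : Function.Injective (K.subtype.baseChange B) :=
    Module.Flat.lTensor_preserves_injective_linearMap (M := B) K.subtype K.injective_subtype
  let e : B ⊗[A] K ≃ₗ[B] LinearMap.ker g := (LinearEquiv.ofInjective _ hinj).trans (LinearEquiv.ofEq _ _ hr)
  haveI : Module.Finite B (B ⊗[A] K) := Module.Finite.equiv e.symm
  haveI : Module.Finite A K := Module.Finite.of_finite_tensorProduct_of_faithfullyFlat B
  exact Module.finitePresentation_of_surjective f hf (Module.Finite.iff_fg.1 ‹_›)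

end Alg

variable {S : Scheme.{u}}

section CastMod

variable {X T : Scheme.{u}} (e : X = T) (M : X.Modules)

lemma isFT_castMod : SheafOfModules.IsFiniteType (R := T.ringCatSheaf) (StMod.castMod e M) ↔
    SheafOfModules.IsFiniteType (R := X.ringCatSheaf) M := by
  subst e; exact Iff.rfl

lemma isFP_castMod : SheafOfModules.IsFinitePresentation (R := T.ringCatSheaf) (StMod.castMod e M) ↔
    SheafOfModules.IsFinitePresentation (R := X.ringCatSheaf) M := by
  subst e; exact Iff.rfl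

lemma isLF_castMod : SheafOfModules.IsLocallyFree (R := T.ringCatSheaf) (StMod.castMod e M) ↔
    SheafOfModules.IsLocallyFree (R := X.ringCatSheaf) M := by
  subst e; exact Iff.rfl

end CastMod

variable {𝒴 : BasedCategory.{v, w} (Over S)}

/-- The sections over an affine open as the sections over an object, and their descent along a cover. -/
theorem exists_open_cov {𝒳 : BasedCategory.{v', w'} (Over S)} (π : 𝒳 ⥤ᵇ 𝒴) (hp : FibCat.IsFibGrpd 𝒴.p)
    (cov : ∀ y : AObj 𝒴, ∃ (x : AObj 𝒳) (g : π.obj x.1 ⟶ y.1), IsCov g)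
    (G : StMod.QCoh 𝒴) (ξ : 𝒴.obj) (U : (StMod.sch 𝒴 ξ).affineOpens) :
    ∃ (ξU : 𝒴.obj) (x : AObj 𝒳) (g : π.obj x.1 ⟶ ξU), IsAffine (StMod.sch 𝒴 ξU) ∧ IsCov g ∧
      ∃ (σ : Γ(StMod.sch 𝒴 ξ, U.1) →+* Fn 𝒴 ξU) (e : Γ(G.obj.obj ξ, U.1) →+ Sec G ξU),
        Function.Bijective σ ∧ Function.Bijective e ∧ ∀ a m, e (a • m) = σ a • e m := by
  obtain ⟨ξU, φ, hA, hI, hR⟩ := exists_open_lift hp ξ U.1 U.2
  obtain ⟨x, g, hg⟩ := cov ⟨ξU, hA⟩
  have hle : ⊤ ≤ StMod.bmap 𝒴 φ ⁻¹ᵁ U.1 := fun y _ => hR.le ⟨y, rfl⟩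
  haveI : IsIso ((StMod.bmap 𝒴 φ).app U.1) := (StMod.bmap 𝒴 φ).isIso_app U.1 hR.ge
  have e : StMod.bmap 𝒴 φ ⁻¹ᵁ U.1 = ⊤ := top_le_iff.1 hle
  haveI : IsIso ((StMod.sch 𝒴 ξU).presheaf.map (homOfLE hle).op) := by
    rw [show (homOfLE hle) = eqToHom e.symm from Subsingleton.elim _ _]
    infer_instance
  haveI : IsIso ((StMod.bmap 𝒴 φ).appLE U.1 ⊤ hle) := by rw [Scheme.Hom.appLE]; infer_instance
  exact ⟨ξU, x, g, hA, hg, resFn φ U.1 hle, AddMonoidHom.mk' (res G.obj φ U.1 hle) (res_add φ hle),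
    ConcreteCategory.bijective_of_isIso ((StMod.bmap 𝒴 φ).appLE U.1 ⊤ hle),
    bijective_res_open φ hle G U.2 hR, res_smul φ hle⟩

/-- Sections over an object and their base change to a cover. -/
theorem exists_cov_equiv (G : StMod.QCoh 𝒴) {z ξU : 𝒴.obj} (hξ : IsAffine (StMod.sch 𝒴 ξU)) (g : z ⟶ ξU)
    (hg : IsCov g) : letI := (fnMap g).toAlgebra
    Module.FaithfullyFlat (Fn 𝒴 ξU) (Fn 𝒴 z) ∧
      Nonempty ((Fn 𝒴 z) ⊗[Fn 𝒴 ξU] Sec G ξU ≃ₗ[Fn 𝒴 z] Sec G z) := by
  letI := (fnMap g).toAlgebra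
  haveI := hξ
  letI := secModule G g
  haveI : IsScalarTower (Fn 𝒴 ξU) (Fn 𝒴 z) (Sec G z) := .of_algebraMap_smul fun _ _ => rfl
  exact ⟨hg.faithfullyFlat, ⟨(isBaseChange_mapTop G g hg.1 hξ).equiv⟩⟩

variable {𝒳 : BasedCategory.{v', w'} (Over S)} (π : 𝒳 ⥤ᵇ 𝒴) (hp : FibCat.IsFibGrpd 𝒴.p)
  (cov : ∀ y : AObj 𝒴, ∃ (x : AObj 𝒳) (g : π.obj x.1 ⟶ y.1), IsCov g) (G : StMod.QCoh 𝒴)

include hp cov in
theorem isFinType_of_comap (h : ((StMod.comapQ π).obj G).obj.IsFinType) : G.obj.IsFinType := by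
  intro ξ
  haveI := G.property.2 ξ
  refine (H10Coh.isFT_isFP_of_affineCover (G.obj.obj ξ) (fun U : (StMod.sch 𝒴 ξ).affineOpens => U.1)
    (iSup_affineOpens_eq_top _) (fun U => U.2) fun U => ?_).1
  obtain ⟨ξU, x, g, hA, hg, σ, e, hσ, he, hse⟩ := exists_open_cov π hp cov G ξ U
  letI := (fnMap g).toAlgebra
  obtain ⟨hff, ⟨E⟩⟩ := exists_cov_equiv G hA g hg
  haveI := G.property.2 (π.obj x.1)
  haveI : IsAffine (StMod.sch 𝒴 (π.obj x.1)) := hg.1
  haveI : Module.Finite (Fn 𝒴 (π.obj x.1)) (Sec G (π.obj x.1)) :=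
    H10Coh.finite_sections (G.obj.obj (π.obj x.1)) ((isFT_castMod _ _).1 (h x.1)) (isAffineOpen_top _)
  haveI : Module.Finite (Fn 𝒴 (π.obj x.1)) (Fn 𝒴 (π.obj x.1) ⊗[Fn 𝒴 ξU] Sec G ξU) := Module.Finite.equiv E.symm
  haveI : Module.Finite (Fn 𝒴 ξU) (Sec G ξU) :=
    Module.Finite.of_finite_tensorProduct_of_faithfullyFlat (Fn 𝒴 (π.obj x.1))
  exact H10Coh.finite_of_semilinear (RingEquiv.ofBijective σ hσ).symm.toRingHom
    (AddEquiv.ofBijective e he).symm.toAddMonoidHom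
    (fun a m => by
      obtain ⟨m', rfl⟩ := (AddEquiv.ofBijective e he).surjective m
      obtain ⟨a', rfl⟩ := (RingEquiv.ofBijective σ hσ).surjective a
      apply (AddEquiv.ofBijective e he).injective
      simp [hse]
      exact congrArg (· • e m') ((RingEquiv.ofBijective σ hσ).apply_symm_apply (σ a')).symm) (AddEquiv.ofBijective e he).symm.surjective

include hp cov in
theorem finitePresentation_of_comap (h : ((StMod.comapQ π).obj G).obj.IsFinPres) (ξ : 𝒴.obj)
    (U : (StMod.sch 𝒴 ξ).affineOpens) :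
    Module.FinitePresentation Γ(StMod.sch 𝒴 ξ, U.1) Γ(G.obj.obj ξ, U.1) := by
  obtain ⟨ξU, x, g, hA, hg, σ, e, hσ, he, hse⟩ := exists_open_cov π hp cov G ξ U
  letI := (fnMap g).toAlgebra
  obtain ⟨hff, ⟨E⟩⟩ := exists_cov_equiv G hA g hg
  haveI : IsAffine (StMod.sch 𝒴 (π.obj x.1)) := hg.1
  haveI : Module.FinitePresentation (Fn 𝒴 (π.obj x.1)) (Sec G (π.obj x.1)) :=
    H8Props.FinLocFree.finitePresentation_sections (G.obj.obj (π.obj x.1)) ((isFP_castMod _ _).1 (h x.1))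
      (isAffineOpen_top _)
  haveI : Module.FinitePresentation (Fn 𝒴 (π.obj x.1)) (Fn 𝒴 (π.obj x.1) ⊗[Fn 𝒴 ξU] Sec G ξU) :=
    Module.FinitePresentation.of_equiv E.symm
  haveI := finitePresentation_of_ff (A := Fn 𝒴 ξU) (B := Fn 𝒴 (π.obj x.1)) (Sec G ξU)
  exact H29Fitt.finitePresentation_of_semilinear (RingEquiv.ofBijective σ hσ).symm.toRingHom
    (RingEquiv.ofBijective σ hσ).symm.bijective
    (AddEquiv.ofBijective e he).symm.toAddMonoidHom
    (fun a m => by
      obtain ⟨m', rfl⟩ := (AddEquiv.ofBijective e he).surjective m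
      obtain ⟨a', rfl⟩ := (RingEquiv.ofBijective σ hσ).surjective a
      apply (AddEquiv.ofBijective e he).injective
      simp [hse]
      exact congrArg (· • e m') ((RingEquiv.ofBijective σ hσ).apply_symm_apply (σ a')).symm) (AddEquiv.ofBijective e he).symm.bijective

include hp cov in
theorem isFinPres_of_comap (h : ((StMod.comapQ π).obj G).obj.IsFinPres) : G.obj.IsFinPres := by
  intro ξ
  haveI := G.property.2 ξ
  exact H29Omega.isFP_of_affineCover (G.obj.obj ξ) (fun U : (StMod.sch 𝒴 ξ).affineOpens => U.1)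
    (iSup_affineOpens_eq_top _) (fun U => U.2) (finitePresentation_of_comap π hp cov G h ξ)

include hp cov in
theorem isLocFree_of_comap (h : ((StMod.comapQ π).obj G).obj.IsLocFree)
    (h' : ((StMod.comapQ π).obj G).obj.IsFinType) : G.obj.IsLocFree ∧ G.obj.IsFinType := by
  have hfl : ∀ x : 𝒳.obj, FlatMod.IsFinLocFree (G.obj.obj (π.obj x)) := fun x =>
    isFinLocFree_of_isLocallyFree _ (G.property.2 (π.obj x)) ((isLF_castMod _ _).1 (h x))
      ((isFT_castMod _ _).1 (h' x))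
  have hfp : ((StMod.comapQ π).obj G).obj.IsFinPres := fun x =>
    (isFP_castMod _ _).2 (H8Props.FinLocFree.isFP_of_isFinLocFree _ (hfl x))
  have key : ∀ ξ, FlatMod.IsFinLocFree (G.obj.obj ξ) := fun ξ => by
    refine H8Props.FinLocFree.isFinLocFree_of_sections _ (G.property.2 ξ) fun p => ?_
    obtain ⟨U, hU, hp', -⟩ := exists_isAffineOpen_mem_and_subset (X := StMod.sch 𝒴 ξ) (x := p) (U := ⊤) trivial
    refine ⟨U, hU, hp', finitePresentation_of_comap π hp cov G hfp ξ ⟨U, hU⟩, ?_⟩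
    obtain ⟨ξU, x, g, hA, hg, σ, e, hσ, he, hse⟩ := exists_open_cov π hp cov G ξ ⟨U, hU⟩
    letI := (fnMap g).toAlgebra
    obtain ⟨hff, ⟨E⟩⟩ := exists_cov_equiv G hA g hg
    haveI : IsAffine (StMod.sch 𝒴 (π.obj x.1)) := hg.1
    obtain ⟨-, hpr⟩ := H8Props.FinLocFree.finite_projective_sections _ (hfl x.1) (isAffineOpen_top _)
    haveI : Module.Projective (Fn 𝒴 (π.obj x.1)) (Sec G (π.obj x.1)) := hpr
    haveI : Module.Flat (Fn 𝒴 (π.obj x.1)) (Fn 𝒴 (π.obj x.1) ⊗[Fn 𝒴 ξU] Sec G ξU) :=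
      Module.Flat.of_linearEquiv E
    haveI : Module.Flat (Fn 𝒴 ξU) (Sec G ξU) :=
      Module.Flat.of_flat_tensorProduct (Fn 𝒴 ξU) (Sec G ξU) (Fn 𝒴 (π.obj x.1))
    let τ := RingEquiv.ofBijective σ hσ
    letI : RingHomInvPair (σ : Γ(StMod.sch 𝒴 ξ, U) →+* Fn 𝒴 ξU) τ.symm.toRingHom :=
      ⟨RingHom.ext τ.symm_apply_apply, RingHom.ext τ.apply_symm_apply⟩
    letI : RingHomInvPair τ.symm.toRingHom (σ : Γ(StMod.sch 𝒴 ξ, U) →+* Fn 𝒴 ξU) :=
      ⟨RingHom.ext τ.apply_symm_apply, RingHom.ext τ.symm_apply_apply⟩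
    letI := σ.toAlgebra
    letI := Module.compHom (Sec G ξU) σ
    haveI : IsScalarTower Γ(StMod.sch 𝒴 ξ, U) (Fn 𝒴 ξU) (Sec G ξU) := .of_algebraMap_smul fun _ _ => rfl
    haveI : Module.Flat Γ(StMod.sch 𝒴 ξ, U) (Fn 𝒴 ξU) :=
      RingHom.flat_algebraMap_iff.1 (RingHom.Flat.of_bijective (f := σ) hσ)
    haveI : Module.Flat Γ(StMod.sch 𝒴 ξ, U) (Sec G ξU) := Module.Flat.trans _ (Fn 𝒴 ξU) _
    let eL : Γ(G.obj.obj ξ, U) ≃ₗ[Γ(StMod.sch 𝒴 ξ, U)] Sec G ξU :=
      { AddEquiv.ofBijective e he with map_smul' := fun a m => hse a m }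
    exact Module.Flat.of_linearEquiv eL
  exact ⟨fun ξ => (isLocallyFree_of_isFinLocFree _ (key ξ)).1, fun ξ => (isLocallyFree_of_isFinLocFree _ (key ξ)).2⟩

end Groth.Agent.H14QCoh
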