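import Groth.Agent.H14QCoh.PointSection
import Groth.Agent.H14QCoh.Transfer
import Groth.Agent.H14QCoh.TypeDescent
import Groth.Agent.H14AlgSt.PointsSpace
import Mathlib.AlgebraicGeometry.Morphisms.Finite
import Mathlib.RingTheory.Jacobson.Ring

/-!
# A nonzero twisted module of finite type on a gerbe over a noetherian scheme
-/

set_option autoImplicit false
set_option linter.style.haveILetI false
set_option backward.isDefEq.respectTransparency false
set_option backward.isDefEq.respectTransparency.types false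

universe u

open CategoryTheory CategoryTheory.Limits AlgebraicGeometry Opposite TopologicalSpace
open scoped TensorProduct

noncomputable section

namespace Groth.Agent.H14QCoh

open H14Fib H14AlgSt H14Stk

variable {S : Scheme.{u}}

/-- A scheme locally of finite type over a field has a finite point. -/
theorem exists_finite_point {k : Type u} [Field k] {W : Scheme.{u}} [IsAffine W] [Nonempty W]
    (m : W ⟶ Spec (.of k)) [LocallyOfFiniteType m] :
    ∃ (K : Type u) (_ : Field K) (p : Spec (.of K) ⟶ W), IsFinite (p ≫ m) := by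
  obtain ⟨z, -, hz⟩ := IsClosed.exists_closed_singleton (isClosed_univ (X := W)) Set.univ_nonempty
  haveI : IsClosedImmersion (W.fromSpecResidueField z) := isClosed_singleton_iff_isClosedImmersion.1 hz
  refine ⟨W.residueField z, inferInstance, W.fromSpecResidueField z, ?_⟩
  obtain ⟨φ, hφ⟩ := Spec.map_surjective (W.fromSpecResidueField z ≫ m)
  have hft : LocallyOfFiniteType (W.fromSpecResidueField z ≫ m) := inferInstance
  rw [← hφ, HasRingHomProperty.Spec_iff (P := @LocallyOfFiniteType)] at hft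
  rw [← hφ, IsFinite.SpecMap_iff]
  exact RingHom.finite_iff_finiteType_of_isJacobsonRing.2 hft

variable {X : Over S} {𝒳 : AlgSt.Cat S}

/-- A gerbe over a nonempty noetherian scheme has an object over a field finite over the scheme. -/
theorem exists_field_object [IsNoetherian X.left] [Nonempty X.left]
    (h𝒳 : AlgSt.IsAlgStack Scheme.fppfPrecoverage 𝒳)
    (hX : AlgSt.IsAlgStack Scheme.fppfPrecoverage (AlgSt.ofSch X)) (π : 𝒳 ⥤ᵇ AlgSt.ofSch X)
    (hπ : Gerb.IsGerbeOver (QuotSh.J Scheme.fppfPrecoverage S) π) :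
    ∃ x₀ : 𝒳.obj, IsAffine (StMod.sch 𝒳 x₀) ∧ Nonempty (StMod.sch 𝒳 x₀) ∧ IsFinite (str π x₀) := by
  obtain ⟨x, -, hx⟩ := IsClosed.exists_closed_singleton (isClosed_univ (X := X.left)) Set.univ_nonempty
  haveI : IsClosedImmersion (X.left.fromSpecResidueField x) := isClosed_singleton_iff_isClosedImmersion.1 hx
  let k := X.left.residueField x
  let b : Over S := Over.mk (X.left.fromSpecResidueField x ≫ X.hom)
  let y : (AlgSt.ofSch X).obj := ⟨b, ULift.up (Over.homMk (X.left.fromSpecResidueField x) rfl)⟩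
  have hy : IsAffine (StMod.sch (AlgSt.ofSch X) y) := inferInstanceAs (IsAffine (Spec k))
  obtain ⟨w, g, hw, hg, hlfp⟩ := exists_cov_lfp_of_locSurjObj h𝒳.isStack hX.isStack hπ.1 y hy
  let m : StMod.sch 𝒳 w ⟶ Spec k := eqToHom (StMod.sch_obj_eq π w).symm ≫ StMod.bmap (AlgSt.ofSch X) g
  haveI : LocallyOfFinitePresentation m := by
    haveI := hlfp
    exact MorphismProperty.comp_mem (@LocallyOfFinitePresentation) _ _
      (inferInstanceAs (LocallyOfFinitePresentation (eqToHom _))) hlfp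
  have hm : m ≫ X.left.fromSpecResidueField x = str π w := by
    have h1 : g.hom ≫ y.sec.down = (π.obj w).sec.down := congrArg ULift.down g.map_sec
    change (eqToHom _ ≫ g.hom.left) ≫ (y.sec.down).left = _
    rw [Category.assoc, str]
    exact congrArg (eqToHom _ ≫ ·) (congrArg (fun t => t.left) h1)
  have hne : Nonempty (StMod.sch 𝒳 w) := by
    haveI := hg.2.2
    obtain ⟨p, -⟩ := (StMod.bmap (AlgSt.ofSch X) g).surjective (show StMod.sch (AlgSt.ofSch X) y from
      (⟨⊥, Ideal.bot_prime⟩ : PrimeSpectrum k))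
    exact ⟨eqToHom (StMod.sch_obj_eq π w) p⟩
  haveI := hw
  obtain ⟨K, _, p, hp⟩ := exists_finite_point m
  obtain ⟨x₀, φ, e, he⟩ := exists_lift h𝒳.isStack.1 w p
  refine ⟨x₀, IsAffine.of_isIso e.hom, ⟨e.inv (⟨⊥, Ideal.bot_prime⟩ : PrimeSpectrum K)⟩, ?_⟩
  rw [← str_bmap π φ, ← hm, he]
  haveI := hp
  have : IsFinite ((e.hom ≫ (p ≫ m)) ≫ X.left.fromSpecResidueField x) := inferInstance
  simpa only [Category.assoc] using this

variable (π : 𝒳 ⥤ᵇ AlgSt.ofSch X) (hp : FibCat.IsFibGrpd 𝒳.p) (x₀ : 𝒳.obj) [IsFinite (str π x₀)]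

/-- The push forward of a twisted module on the part over a point is twisted. -/
theorem isTwisted_push {A : (Over S)ᵒᵖ ⥤ GrpCat.{u}} (χ : A ⟶ TwSh.GmPsh S) (ι' : TwSh.BandHom 𝒳 A)
    (hι : ∀ (ξ : 𝒳.obj) (a : A.obj (op (𝒳.p.obj ξ))), π.map (ι'.hom ξ a).hom.1 = 𝟙 _)
    (G : StMod.QCoh (StMod.fibCat π (π.obj x₀)))
    (hG : TwSh.IsTwisted G.obj (TwSh.BandHom.fib π (π.obj x₀) ι' hι) χ 1) :
    TwSh.IsTwisted ((pointAffRep π hp x₀).push G).obj ι' χ 1 := by
  refine isTwisted_of_affine χ 1 hp ι' _ fun ξ _ a s => ?_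
  let R := pointAffRep π hp x₀
  let z := R.z ξ
  let a' := A.map (𝒳.p.map (R.e ξ)).op a
  have hc : R.c (ι'.hom ξ a).hom.1 = ((TwSh.BandHom.fib π (π.obj x₀) ι' hι).hom z a').hom.1 :=
    (R.existsUnique ξ (R.z ξ) (R.e ξ ≫ (ι'.hom ξ a).hom.1)).unique (R.c_spec _) (ι'.natural (R.e ξ) a)
  change R.sec G ξ ((R.push G).obj.mapTop (ι'.hom ξ a).hom.1 s) = R.sec G ξ (twScal χ 1 ξ a • s)
  rw [R.sec_mapTop, R.sec_smul, hc]
  refine (mapTop_of_isTwisted χ 1 (TwSh.BandHom.fib π (π.obj x₀) ι' hι) hG z a' _).trans ?_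
  refine congrArg (· • R.sec G ξ s) ?_
  refine (twScal_map χ 1 (R.e ξ) a).trans ?_
  have hg : R.g ξ = StMod.bmap 𝒳 (R.e ξ) := by
    rw [AffRep.g]
    exact Category.id_comp _
  exact congrArg (fun t => (Scheme.Hom.appTop t) (twScal χ 1 ξ a)) hg.symm

/-- The push forward of a module finite on the affine objects is of finite type. -/
theorem isFinType_push (G : StMod.QCoh (StMod.fibCat π (π.obj x₀)))
    (hG : ∀ z : AObj (StMod.fibCat π (π.obj x₀)), Module.Finite (Fn (StMod.fibCat π (π.obj x₀)) z.1) (Sec G z.1)) :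
    ((pointAffRep π hp x₀).push G).obj.IsFinType := by
  let R := pointAffRep π hp x₀
  intro ξ
  haveI := (R.push G).property.2 ξ
  refine (H10Coh.isFT_isFP_of_affineCover ((R.push G).obj.obj ξ) (fun U : (StMod.sch 𝒳 ξ).affineOpens => U.1)
    (iSup_affineOpens_eq_top _) (fun U => U.2) fun U => ?_).1
  obtain ⟨ξU, φ, hA, hI, hR⟩ := exists_open_lift hp ξ U.1 U.2
  haveI := hA
  haveI hf : IsFinite (R.g ξU) := by
    have h1 : IsFinite (StMod.bmap 𝒳 (pe π hp x₀ ξU)) :=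
      MorphismProperty.of_isPullback (P := @IsFinite) (isPullback_pe π hp x₀ ξU).flip inferInstance
    have hg : R.g ξU = StMod.bmap 𝒳 (R.e ξU) := by
      rw [AffRep.g]
      exact Category.id_comp _
    rw [hg]
    exact h1
  haveI haz : IsAffine (StMod.sch (StMod.fibCat π (π.obj x₀)) (R.z ξU)) := isAffine_of_isAffineHom (R.g ξU)
  haveI := hG ⟨R.z ξU, haz⟩
  letI : Algebra (Fn 𝒳 ξU) (Fn (StMod.fibCat π (π.obj x₀)) (R.z ξU)) := (R.g ξU).appTop.hom.toAlgebra
  haveI : Module.Finite (Fn 𝒳 ξU) (Fn (StMod.fibCat π (π.obj x₀)) (R.z ξU)) :=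
    RingHom.finite_algebraMap.1 ((HasAffineProperty.iff_of_isAffine (P := @IsFinite)).1 hf).2
  letI : Module (Fn 𝒳 ξU) (Sec G (R.z ξU)) := Module.compHom _ (R.g ξU).appTop.hom
  haveI : IsScalarTower (Fn 𝒳 ξU) (Fn (StMod.fibCat π (π.obj x₀)) (R.z ξU)) (Sec G (R.z ξU)) :=
    .of_algebraMap_smul fun _ _ => rfl
  haveI : Module.Finite (Fn 𝒳 ξU) (Sec G (R.z ξU)) :=
    Module.Finite.trans (Fn (StMod.fibCat π (π.obj x₀)) (R.z ξU)) _
  haveI : Module.Finite (Fn 𝒳 ξU) (Sec (R.push G) ξU) :=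
    H10Coh.finite_of_semilinear (RingHom.id (Fn 𝒳 ξU))
      (AddMonoidHom.mk' (fun s : Sec G (R.z ξU) => (show Sec (R.push G) ξU from s)) fun _ _ => rfl)
      (fun _ _ => rfl) (fun s => ⟨s, rfl⟩)
  have hle : ⊤ ≤ StMod.bmap 𝒳 φ ⁻¹ᵁ U.1 := fun y _ => hR.le ⟨y, rfl⟩
  haveI : IsIso ((StMod.bmap 𝒳 φ).app U.1) := (StMod.bmap 𝒳 φ).isIso_app U.1 hR.ge
  have e : StMod.bmap 𝒳 φ ⁻¹ᵁ U.1 = ⊤ := top_le_iff.1 hle
  haveI : IsIso ((StMod.sch 𝒳 ξU).presheaf.map (homOfLE hle).op) := by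
    rw [show (homOfLE hle) = eqToHom e.symm from Subsingleton.elim _ _]
    infer_instance
  haveI : IsIso ((StMod.bmap 𝒳 φ).appLE U.1 ⊤ hle) := by rw [Scheme.Hom.appLE]; infer_instance
  let σ := RingEquiv.ofBijective (resFn φ U.1 hle)
    (ConcreteCategory.bijective_of_isIso ((StMod.bmap 𝒳 φ).appLE U.1 ⊤ hle))
  let E := AddEquiv.ofBijective (AddMonoidHom.mk' (res (R.push G).obj φ U.1 hle) (res_add φ hle))
    (bijective_res_open φ hle (R.push G) U.2 hR)
  exact H10Coh.finite_of_semilinear σ.symm.toRingHom E.symm.toAddMonoidHom (fun a m => by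
    obtain ⟨m', rfl⟩ := E.surjective m
    obtain ⟨a', rfl⟩ := σ.surjective a
    refine E.injective ?_
    change E (E.symm (σ a' • E m')) = E (σ.symm (σ a') • E.symm (E m'))
    rw [E.apply_symm_apply, E.symm_apply_apply, σ.symm_apply_apply]
    exact (res_smul φ hle a' m').symm) E.symm.surjective

/-- A nonzero twisted module of finite type on a gerbe over a nonempty noetherian scheme. -/
theorem exists_twisted_finType [IsNoetherian X.left] [Nonempty X.left]
    (h𝒳 : AlgSt.IsAlgStack Scheme.fppfPrecoverage 𝒳) {A : (Over S)ᵒᵖ ⥤ GrpCat.{u}} (χ : A ⟶ TwSh.GmPsh S)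
    (π : 𝒳 ⥤ᵇ AlgSt.ofSch X) (ι' : TwSh.BandHom 𝒳 A)
    (hπ : TwSh.IsBandedGerbe (QuotSh.J Scheme.fppfPrecoverage S) π ι') :
    ∃ F : StMod.QCoh 𝒳, TwSh.IsTwisted F.obj ι' χ 1 ∧ F.obj.IsFinType ∧ ¬ Limits.IsZero F := by
  have hX : AlgSt.IsAlgStack Scheme.fppfPrecoverage (AlgSt.ofSch X) :=
    isAlgStack_ofSp ⟨(AlgSp.yon S).obj X, AlgSp.IsAlgSpace.yon_obj X⟩
  obtain ⟨x₀, hx₀a, hx₀n, hfin⟩ := exists_field_object h𝒳 hX π hπ.1
  haveI := hfin
  haveI := hx₀a
  haveI := hx₀n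
  have hp := h𝒳.isStack.1
  obtain ⟨σ, G, hG, ⟨I⟩, cov⟩ := exists_point_section π x₀ h𝒳 hX χ ι' hπ
  let R := pointAffRep π hp x₀
  let T := 𝒳.p.obj x₀
  -- the sections of `G` over values of the section
  let θ : ∀ t : (FibCat.overCat T).obj, Sec G (σ.obj t) ≃+ Fn (FibCat.overCat T) t := fun t =>
    (toSec σ G t).trans (AddEquiv.ofBijective ((I.hom.hom.app t).app ⊤).hom
      (Function.bijective_iff_has_inverse.2 ⟨fun y => (I.inv.hom.app t).app ⊤ y,
        fun y => congr($(congrArg (fun m => Scheme.Modules.Hom.app (m.hom.app t) ⊤) I.hom_inv_id) y),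
        fun y => congr($(congrArg (fun m => Scheme.Modules.Hom.app (m.hom.app t) ⊤) I.inv_hom_id) y)⟩))
  have hθ : ∀ t (r : Fn (StMod.fibCat π (π.obj x₀)) (σ.obj t)) m, θ t (r • m) = toFn σ t r * θ t m := by
    intro t r m
    change (I.hom.hom.app t).app ⊤ (toSec σ G t (r • m)) = _
    rw [toSec_smul]
    exact Scheme.Modules.Hom.app_smul _ _ _
  have hGf : ∀ z : AObj (StMod.fibCat π (π.obj x₀)),
      Module.Finite (Fn (StMod.fibCat π (π.obj x₀)) z.1) (Sec G z.1) := by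
    intro z
    obtain ⟨t, g, hg⟩ := cov z
    letI := (fnMap g).toAlgebra
    obtain ⟨hff, ⟨E⟩⟩ := exists_cov_equiv G z.2 g hg
    haveI : Module.Finite (Fn (StMod.fibCat π (π.obj x₀)) (σ.obj t.1)) (Sec G (σ.obj t.1)) := by
      refine ⟨⟨{(θ t.1).symm 1}, Submodule.eq_top_iff'.2 fun m => ?_⟩⟩
      rw [Finset.coe_singleton, Submodule.mem_span_singleton]
      refine ⟨(toFn σ t.1).symm (θ t.1 m), (θ t.1).injective ?_⟩
      rw [hθ, RingEquiv.apply_symm_apply, AddEquiv.apply_symm_apply]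
      exact mul_one _
    haveI : Module.Finite (Fn (StMod.fibCat π (π.obj x₀)) (σ.obj t.1))
        (Fn (StMod.fibCat π (π.obj x₀)) (σ.obj t.1) ⊗[Fn (StMod.fibCat π (π.obj x₀)) z.1] Sec G z.1) :=
      Module.Finite.equiv E.symm
    exact Module.Finite.of_finite_tensorProduct_of_faithfullyFlat (Fn (StMod.fibCat π (π.obj x₀)) (σ.obj t.1))
  refine ⟨R.push G, isTwisted_push π hp x₀ χ ι' hπ.map_hom_eq_id G hG, isFinType_push π hp x₀ G hGf, fun hz => ?_⟩
  have h0 : ∀ s : Sec (R.push G) x₀, s = 0 := fun s => by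
    have := congrArg (fun m => (Scheme.Modules.Hom.app (m.hom.app x₀) ⊤) s) (hz.eq_of_src (𝟙 _) 0)
    exact this
  let t₀ : (FibCat.overCat T).obj := topObj T
  have hat : IsAffine (StMod.sch (StMod.fibCat π (π.obj x₀)) (σ.obj t₀)) := by
    rw [StMod.sch_obj_eq σ t₀]
    exact hx₀a
  obtain ⟨z, g, hg⟩ := cov ⟨σ.obj t₀, hat⟩
  haveI := hg.2.2
  haveI : Nonempty (StMod.sch (StMod.fibCat π (π.obj x₀)) (σ.obj t₀)) := by
    rw [StMod.sch_obj_eq σ t₀]
    exact hx₀n
  haveI : IsAffine (StMod.sch (StMod.fibCat π (π.obj x₀)) (σ.obj t₀)) := hat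
  haveI := isFibered_of_fibGrpd hp
  -- an arrow to the universal object over the point
  have hzero : ∀ m : Sec G (σ.obj t₀), m = 0 := by
    intro m
    let φ : (σ.obj t₀).left ⟶ (σ.obj t₀).left := 𝟙 _
    let ξ := (σ.obj t₀).left
    obtain ⟨c, -, -⟩ := R.existsUnique ξ (σ.obj t₀) (𝟙 _)
    have hξ : IsAffine (StMod.sch 𝒳 ξ) := hat
    haveI := hξ
    haveI : IsAffine (StMod.sch (StMod.fibCat π (π.obj x₀)) (R.z ξ)) := isAffine_of_isAffineHom (R.g ξ)
    have hs : ∀ s : Sec (R.push G) ξ, s = 0 := fun s => by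
      have := congrArg (fun m => (Scheme.Modules.Hom.app (m.hom.app ξ) ⊤) s) (hz.eq_of_src (𝟙 _) 0)
      exact this
    refine sec_induction (φ := c) hat inferInstance (P := fun m => m = 0) m rfl
      (fun a b ha hb => by rw [ha, hb, add_zero]) fun r v => ?_
    rw [show v = 0 from hs v, G.obj.mapTop_zero, smul_zero]
  have h1 := congrArg (θ t₀) (hzero ((θ t₀).symm 1))
  rw [AddEquiv.apply_symm_apply, map_zero] at h1
  haveI : Nonempty (StMod.sch (FibCat.overCat T) t₀) := hx₀n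
  haveI : Nonempty (⊤ : (StMod.sch (FibCat.overCat T) t₀).Opens) :=
    ⟨⟨Classical.arbitrary _, trivial⟩⟩
  haveI : Nontrivial (Fn (FibCat.overCat T) t₀) := Scheme.component_nontrivial _ _
  exact one_ne_zero h1

end Groth.Agent.H14QCoh
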