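import Groth.Agent.H14QCoh.Transfer
import Groth.Agent.H14QCoh.FlatCharts

/-!
# Relative generation along isomorphic functors
-/

set_option autoImplicit false
set_option linter.style.haveILetI false
set_option backward.isDefEq.respectTransparency false
set_option backward.isDefEq.respectTransparency.types false

universe t u

open CategoryTheory CategoryTheory.Limits AlgebraicGeometry

noncomputable section

namespace Groth.Agent.H14QCoh

open H14Stk

variable {S : Scheme.{u}} {𝒳 𝒵 : AlgSt.Cat S} {h h' : 𝒳 ⥤ᵇ 𝒵} (e : h ≅ h') (η : 𝒵.obj)

/-- The change of the functor on the categories over an object. -/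
def fibCongr : StMod.fibCat h' η ⥤ᵇ StMod.fibCat h η where
  toFunctor :=
    { obj := fun (z : (StMod.fibCat h' η).obj) =>
        CostructuredArrow.mk (S := h.toFunctor) (Y := z.left) (app e.hom z.left ≫ z.hom)
      map := fun {z z'} k => CostructuredArrow.homMk k.left (by
        change h.map k.left ≫ app e.hom z'.left ≫ z'.hom = app e.hom z.left ≫ z.hom
        rw [← Category.assoc, e.hom.toNatTrans.naturality k.left, Category.assoc]
        exact congrArg (app e.hom z.left ≫ ·) (CostructuredArrow.w k))
      map_id := fun _ => rfl
      map_comp := fun _ _ => rfl }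
  w := rfl

/-- The change back of an object. -/
def congrBack (z : (StMod.fibCat h η).obj) : (StMod.fibCat h' η).obj :=
  CostructuredArrow.mk (S := h'.toFunctor) (Y := z.left) (app e.inv z.left ≫ z.hom)

/-- The comparison of an object changed twice. -/
def congrArrow (z : (StMod.fibCat h η).obj) : (fibCongr e η).obj (congrBack e η z) ⟶ z :=
  CostructuredArrow.homMk (𝟙 z.left) (by
    change h.map (𝟙 z.left) ≫ z.hom = app e.hom z.left ≫ app e.inv z.left ≫ z.hom
    rw [← Category.assoc (app e.hom z.left)]
    exact (congrArg (· ≫ z.hom) (h.map_id z.left)).trans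
      (congrArg (· ≫ z.hom) (isoApp e z.left).hom_inv_id).symm)

/-- The change of the functor is representable by isomorphisms. -/
def fibCongrAffRep : AffRep (fibCongr e η) where
  z := congrBack e η
  e := congrArrow e η
  isAffineHom z := (congrArg (fun m => IsAffineHom m) (StMod.bmap_id z.left)).mpr inferInstance
  existsUnique z ζ α := by
    have hw : h.map α.left ≫ z.hom = app e.hom ζ.left ≫ ζ.hom := CostructuredArrow.w α
    refine ⟨CostructuredArrow.homMk α.left ?_, CostructuredArrow.hom_ext _ _ (Category.comp_id α.left),
      fun c hc => CostructuredArrow.hom_ext _ _ ?_⟩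
    · change h'.map α.left ≫ app e.inv z.left ≫ z.hom = ζ.hom
      rw [← Category.assoc, e.inv.toNatTrans.naturality α.left, Category.assoc]
      refine (congrArg (app e.inv ζ.left ≫ ·) hw).trans ?_
      rw [← Category.assoc]
      exact (congrArg (· ≫ ζ.hom) (isoApp e ζ.left).inv_hom_id).trans (Category.id_comp _)
    · exact (Category.comp_id c.left).symm.trans (congrArg CommaMorphism.left hc)
  cart {z' z} φ c hc := by
    have hid : ∀ w : (StMod.fibCat h η).obj, IsIso (StMod.bmap (StMod.fibCat h η) (congrArrow e η w)) := fun w =>
      (congrArg (fun m => IsIso m) (StMod.bmap_id w.left)).mpr inferInstance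
    haveI := hid z
    haveI := hid z'
    exact IsPullback.of_vert_isIso ⟨(StMod.bmap_comp _ _).symm.trans
      ((congrArg (StMod.bmap (StMod.fibCat h η)) hc).trans (StMod.bmap_comp _ _))⟩

include e in
/-- Relative generation depends on the functor up to isomorphism. -/
theorem isRelGenFam_of_iso (hp : FibCat.IsFibGrpd 𝒳.p) {ι : Type t} {E : ι → StMod.QCoh 𝒳}
    (hE : StMod.IsRelGenFam h E) : StMod.IsRelGenFam h' E := fun η hη =>
  isGenFam_congr
    (E := fun i => (StMod.comapQ (fibCongr e η)).obj ((StMod.comapQ (StMod.fibFst h η)).obj (E i)))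
    (E' := fun i => (StMod.comapQ (StMod.fibFst h' η)).obj (E i))
    (fun i => StMod.comapCompIso (StMod.fibFst h η) (fibCongr e η) (E i).obj)
    ((fibCongrAffRep e η).isGenFam_comapQ (fibCat_fibGrpd h η hp) (fibCat_fibGrpd h' η hp) _ (hE η hη))

lemma isFinPres_castMod {X T : Scheme.{u}} (e : X = T) (M : X.Modules)
    (h : SheafOfModules.IsFinitePresentation (R := X.ringCatSheaf) M) :
    SheafOfModules.IsFinitePresentation (R := T.ringCatSheaf) (StMod.castMod e M) := by
  subst e; exact h

end Groth.Agent.H14QCoh
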