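import Groth.Agent.H14QCoh.BaseChange
import Groth.Agent.H14QCoh.FibAtlas

/-!
# Generating families over an object are local for flat covers of the object
-/

set_option autoImplicit false
set_option linter.style.haveILetI false
set_option backward.isDefEq.respectTransparency false
set_option backward.isDefEq.respectTransparency.types false

universe t u

open CategoryTheory CategoryTheory.Limits AlgebraicGeometry

noncomputable section

namespace Groth.Agent.H14QCoh

variable {S : Scheme.{u}} {𝒳 𝒴 : AlgSt.Cat S}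

/-- A family generating over the members of a jointly surjective flat family of objects generates over the object. -/
theorem isGenFam_of_flat_cover (h𝒳 : AlgSt.IsAlgStack Scheme.fppfPrecoverage 𝒳)
    (h𝒴 : AlgSt.IsAlgStack Scheme.fppfPrecoverage 𝒴) (f : 𝒳 ⥤ᵇ 𝒴)
    (hfqc : AlgSt.IsQuasiCompactMor Scheme.fppfPrecoverage f) (hfqs : AlgSt.IsQuasiSeparatedMor f)
    {ι : Type t} (E : ι → StMod.QCoh 𝒳) (hE : ∀ j, (E j).obj.IsFinPres)
    (η : 𝒴.obj) (hη : IsAffine (StMod.sch 𝒴 η)) {κ : Type*} (η' : κ → 𝒴.obj) (β : ∀ k, η' k ⟶ η)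
    (haff : ∀ k, IsAffine (StMod.sch 𝒴 (η' k))) (hfl : ∀ k, Flat (StMod.bmap 𝒴 (β k)))
    (hs : ∀ p : StMod.sch 𝒴 η, ∃ k q, StMod.bmap 𝒴 (β k) q = p)
    (hgen : ∀ k, StMod.IsGenFam (fun j => (StMod.comapQ (StMod.fibFst f (η' k))).obj (E j))) :
    StMod.IsGenFam (fun j => (StMod.comapQ (StMod.fibFst f η)).obj (E j)) := by
  have hp := h𝒳.isStack.1
  have hq := h𝒴.isStack.1
  obtain ⟨𝔸⟩ := nonempty_atlas_fibCat h𝒳 h𝒴 f hfqc hfqs η hη
  rw [StMod.isGenFam_iff]
  intro M N u hu
  have hkill : ∀ k, StMod.Mod.comapMap (bcFun f (β k)) u.hom = 0 := by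
    intro k
    have hg := (StMod.isGenFam_iff _).1 (hgen k) ((StMod.comapQ (bcFun f (β k))).map u)
    have h0 := hg fun j φ => by
      let I := StMod.comapCompIso (StMod.fibFst f η) (bcFun f (β k)) (E j).obj
      have hz := comp_comapMap_eq_zero (bcFlatBC f (β k) hp hq (haff k) hη (hfl k)) (fibCat_fibGrpd f η hp)
        (fibCat_fibGrpd f (η' k) hp) 𝔸 (E := (StMod.comapQ (StMod.fibFst f η)).obj (E j))
        (fun x => hE j x.left) u.hom (hu j) (I.inv ≫ φ)
      rw [Category.assoc] at hz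
      change φ ≫ StMod.Mod.comapMap (bcFun f (β k)) u.hom = 0
      refine (cancel_epi I.inv).1 ?_
      exact hz.trans Limits.comp_zero.symm
    exact (congrArg (fun w => w.hom) h0 : _)
  refine InducedCategory.hom_ext (hom_ext_affine (fibCat_fibGrpd f η hp) fun x hx m => ?_)
  haveI := hx
  choose z e hpb huniv using fun k => exists_bc f (β k) hp hq x
  haveI : ∀ k, IsAffine (StMod.sch (StMod.fibCat f η) ((bcFun f (β k)).obj (z k))) := fun k =>
    haveI := haff k
    haveI := hη
    IsAffine.of_isPullback (hpb k)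
  change (u.hom.app x).app ⊤ m = 0
  refine eq_zero_of_jointly e (fun k => MorphismProperty.of_isPullback (hpb k) (hfl k)) (fun p => ?_) _ fun k => ?_
  · obtain ⟨k, q, hk⟩ := hs (pr f x p)
    obtain ⟨r, -, hr⟩ := Scheme.exists_preimage_of_isPullback (hpb k) q p hk
    exact ⟨k, r, hr⟩
  · rw [StMod.Mod.mapTop_app]
    refine (toSec (bcFun f (β k)) N (z k)).injective ?_
    rw [map_zero, ← comapMap_toSec, hkill k]
    rfl

end Groth.Agent.H14QCoh
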