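import Groth.Agent.H14QCoh.TwSection
import Groth.Agent.H14QCoh.Push
import Groth.Agent.H14QCoh.FibCat

/-!
# A gerbe over a scheme above one of its objects
-/

set_option autoImplicit false
set_option linter.style.haveILetI false
set_option backward.isDefEq.respectTransparency false
set_option backward.isDefEq.respectTransparency.types false

universe u

open CategoryTheory CategoryTheory.Limits AlgebraicGeometry Opposite

noncomputable section

namespace Groth.Agent.H14QCoh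

open H14Fib H14AlgSt H14Stk

variable {S : Scheme.{u}} {X : Over S} {𝒳 : AlgSt.Cat S} (π : 𝒳 ⥤ᵇ AlgSt.ofSch X)

/-- Arrows of the category of a scheme are determined by the morphism of schemes. -/
lemma ofSch_hset {t t' : (AlgSt.ofSch X).obj} (f g : t ⟶ t')
    (h : StMod.bmap (AlgSt.ofSch X) f = StMod.bmap (AlgSt.ofSch X) g) : f = g :=
  Stk.EltObj.Hom.ext (Over.OverMorphism.ext h)

/-- The morphism to the scheme under an object. -/
def str (ξ : 𝒳.obj) : StMod.sch 𝒳 ξ ⟶ X.left :=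
  eqToHom (StMod.sch_obj_eq π ξ).symm ≫ (π.obj ξ).sec.down.left

lemma str_of_arrow {ξ ζ : 𝒳.obj} (β : π.obj ζ ⟶ π.obj ξ) :
    StMod.bmap (AlgSt.ofSch X) β ≫ eqToHom (StMod.sch_obj_eq π ξ) ≫ str π ξ =
      eqToHom (StMod.sch_obj_eq π ζ) ≫ str π ζ := by
  have h1 : β.hom ≫ (π.obj ξ).sec.down = (π.obj ζ).sec.down := congrArg ULift.down β.map_sec
  simp only [str, eqToHom_trans_assoc, eqToHom_refl, Category.id_comp]
  exact congrArg (fun m => m.left) h1

/-- An arrow between the images from a morphism of schemes over the scheme. -/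
lemma exists_arrow {ξ ζ : 𝒳.obj} (m : StMod.sch 𝒳 ζ ⟶ StMod.sch 𝒳 ξ) (hm : m ≫ str π ξ = str π ζ) :
    ∃ β : π.obj ζ ⟶ π.obj ξ, StMod.bmap (AlgSt.ofSch X) β =
      eqToHom (StMod.sch_obj_eq π ζ) ≫ m ≫ eqToHom (StMod.sch_obj_eq π ξ).symm := by
  let n : StMod.sch (AlgSt.ofSch X) (π.obj ζ) ⟶ StMod.sch (AlgSt.ofSch X) (π.obj ξ) :=
    eqToHom (StMod.sch_obj_eq π ζ) ≫ m ≫ eqToHom (StMod.sch_obj_eq π ξ).symm
  have hn : n ≫ (π.obj ξ).sec.down.left = (π.obj ζ).sec.down.left := by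
    simp only [n, Category.assoc]
    have := congrArg (fun t => eqToHom (StMod.sch_obj_eq π ζ) ≫ t) hm
    simpa [str] using this
  refine ⟨⟨Over.homMk n (by
    change n ≫ (π.obj ξ).base.hom = (π.obj ζ).base.hom
    rw [← Over.w (π.obj ξ).sec.down, ← Category.assoc, hn]
    exact Over.w (π.obj ζ).sec.down), congrArg ULift.up (Over.OverMorphism.ext hn)⟩, rfl⟩

lemma str_bmap {ξ ζ : 𝒳.obj} (φ : ζ ⟶ ξ) : StMod.bmap 𝒳 φ ≫ str π ξ = str π ζ := by
  have h := str_of_arrow π (π.map φ)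
  rw [← Category.assoc, StMod.bmap_map_comm π φ rfl, Category.assoc] at h
  exact (cancel_epi _).1 h

/-- A vertical automorphism lies over the identity of the scheme. -/
lemma map_autO_ofSch {ξ : 𝒳.obj} (α : Gerb.AutO ξ) : π.map α.hom.1 = 𝟙 _ := by
  refine ofSch_hset _ _ ?_
  rw [StMod.bmap_id, ← cancel_mono (eqToHom (StMod.sch_obj_eq π ξ)), Category.id_comp]
  refine (StMod.bmap_map_comm π α.hom.1 rfl).trans ?_
  rw [TwSh.bmap_autO]
  exact Category.comp_id _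

variable (hp : FibCat.IsFibGrpd 𝒳.p) (x₀ : 𝒳.obj)

include hp in
lemma exists_push_obj (ξ : 𝒳.obj) :
    ∃ (z : (StMod.fibCat π (π.obj x₀)).obj) (φ : z.left ⟶ ξ) (n : StMod.sch 𝒳 z.left ⟶ StMod.sch 𝒳 x₀),
      StMod.bmap (AlgSt.ofSch X) z.hom =
          eqToHom (StMod.sch_obj_eq π z.left) ≫ n ≫ eqToHom (StMod.sch_obj_eq π x₀).symm ∧
        IsPullback (StMod.bmap 𝒳 φ) n (str π ξ) (str π x₀) := by
  obtain ⟨ξ', φ, e, he⟩ := exists_lift hp ξ (pullback.fst (str π ξ) (str π x₀))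
  obtain ⟨β, hβ⟩ := exists_arrow π (ξ := x₀) (ζ := ξ') (e.hom ≫ pullback.snd _ _) (by
    rw [Category.assoc, ← pullback.condition, ← Category.assoc, ← he, str_bmap])
  refine ⟨CostructuredArrow.mk β, φ, e.hom ≫ pullback.snd _ _, hβ, ?_⟩
  change IsPullback (StMod.bmap 𝒳 φ) _ _ _
  rw [he]
  exact IsPullback.of_iso (IsPullback.of_hasPullback _ _) e.symm (Iso.refl _) (Iso.refl _) (Iso.refl _)
    (by simp) (by simp) (by simp) (by simp)

/-- The universal objects over the point. -/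
def pz (ξ : 𝒳.obj) : (StMod.fibCat π (π.obj x₀)).obj := (exists_push_obj π hp x₀ ξ).choose

/-- The universal arrows. -/
def pe (ξ : 𝒳.obj) : (pz π hp x₀ ξ).left ⟶ ξ := (exists_push_obj π hp x₀ ξ).choose_spec.choose

/-- The projections to the point. -/
def pn (ξ : 𝒳.obj) : StMod.sch 𝒳 (pz π hp x₀ ξ).left ⟶ StMod.sch 𝒳 x₀ :=
  (exists_push_obj π hp x₀ ξ).choose_spec.choose_spec.choose

lemma pz_hom (ξ : 𝒳.obj) : StMod.bmap (AlgSt.ofSch X) (pz π hp x₀ ξ).hom =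
    eqToHom (StMod.sch_obj_eq π (pz π hp x₀ ξ).left) ≫ pn π hp x₀ ξ ≫ eqToHom (StMod.sch_obj_eq π x₀).symm :=
  (exists_push_obj π hp x₀ ξ).choose_spec.choose_spec.choose_spec.1

lemma isPullback_pe (ξ : 𝒳.obj) :
    IsPullback (StMod.bmap 𝒳 (pe π hp x₀ ξ)) (pn π hp x₀ ξ) (str π ξ) (str π x₀) :=
  (exists_push_obj π hp x₀ ξ).choose_spec.choose_spec.choose_spec.2

/-- The projection of an object over the point. -/
def projPt (ζ : (StMod.fibCat π (π.obj x₀)).obj) : StMod.sch 𝒳 ζ.left ⟶ StMod.sch 𝒳 x₀ :=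
  eqToHom (StMod.sch_obj_eq π ζ.left).symm ≫ StMod.bmap (AlgSt.ofSch X) ζ.hom ≫
    eqToHom (StMod.sch_obj_eq π x₀)

lemma projPt_str (ζ : (StMod.fibCat π (π.obj x₀)).obj) : projPt π x₀ ζ ≫ str π x₀ = str π ζ.left := by
  rw [projPt, Category.assoc, Category.assoc, str_of_arrow π ζ.hom]
  simp

lemma projPt_pz (ξ : 𝒳.obj) : projPt π x₀ (pz π hp x₀ ξ) = pn π hp x₀ ξ := by
  rw [projPt, pz_hom]
  simp

lemma projPt_map {ζ' ζ : (StMod.fibCat π (π.obj x₀)).obj} (c : ζ' ⟶ ζ) :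
    StMod.bmap 𝒳 c.left ≫ projPt π x₀ ζ = projPt π x₀ ζ' := by
  have h := StMod.bmap_map_comm π c.left rfl
  have w : π.map c.left ≫ ζ.hom = ζ'.hom := CostructuredArrow.w c
  rw [projPt, projPt, ← w, StMod.bmap_comp, ← cancel_epi (eqToHom (StMod.sch_obj_eq π ζ'.left)),
    ← Category.assoc (eqToHom _) (StMod.bmap 𝒳 c.left), ← h]
  simp

include hp in
/-- Inclusion of the part over a point is representable by affine morphisms when the point is affine over the scheme. -/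
def pointAffRep [IsAffineHom (str π x₀)] : AffRep (StMod.fibFst π (π.obj x₀)) where
  z := pz π hp x₀
  e := pe π hp x₀
  isAffineHom ξ := MorphismProperty.of_isPullback (P := @IsAffineHom) (isPullback_pe π hp x₀ ξ).flip
    inferInstance
  existsUnique ξ ζ α := by
    let α' : ζ.left ⟶ ξ := α
    have hw : StMod.bmap 𝒳 α' ≫ str π ξ = projPt π x₀ ζ ≫ str π x₀ := by rw [str_bmap, projPt_str]
    let n := (isPullback_pe π hp x₀ ξ).lift _ _ hw
    obtain ⟨c, hc, hc'⟩ := exists_factor hp (pe π hp x₀ ξ) α' n ((isPullback_pe π hp x₀ ξ).lift_fst _ _ hw)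
    have hcw : π.map c ≫ (pz π hp x₀ ξ).hom = ζ.hom := by
      refine ofSch_hset _ _ ?_
      have h := StMod.bmap_map_comm π c rfl
      have h2 := (isPullback_pe π hp x₀ ξ).lift_snd _ _ hw
      rw [StMod.bmap_comp, pz_hom, ← Category.assoc, h, Category.assoc, hc', reassoc_of% h2, projPt]
      simp
    refine ⟨CostructuredArrow.homMk c hcw, hc, fun c' hc₂ => ?_⟩
    refine (CostructuredArrow.proj π.toFunctor _).map_injective (hom_ext_bmap hp (pe π hp x₀ ξ) ?_ ?_)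
    · exact (hc₂.trans hc.symm)
    · refine (isPullback_pe π hp x₀ ξ).hom_ext ?_ ?_
      · refine (StMod.bmap_comp _ _).symm.trans (Eq.trans ?_ (StMod.bmap_comp _ _))
        exact congrArg (StMod.bmap 𝒳) (hc₂.trans hc.symm)
      · rw [← projPt_pz]
        refine (projPt_map π x₀ c').trans ?_
        refine Eq.trans ?_ (congrArg (· ≫ projPt π x₀ (pz π hp x₀ ξ)) hc'.symm)
        rw [projPt_pz]
        exact ((isPullback_pe π hp x₀ ξ).lift_snd _ _ hw).symm
  cart ξ' ξ φ c hc := by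
    have hc' : c.left ≫ pe π hp x₀ ξ = pe π hp x₀ ξ' ≫ φ := hc
    have hn : StMod.bmap 𝒳 c.left ≫ pn π hp x₀ ξ = pn π hp x₀ ξ' := by
      rw [← projPt_pz, ← projPt_pz]
      exact projPt_map π x₀ c
    have hbig : IsPullback (StMod.bmap 𝒳 c.left ≫ pn π hp x₀ ξ) (StMod.bmap 𝒳 (pe π hp x₀ ξ'))
        (str π x₀) (StMod.bmap 𝒳 φ ≫ str π ξ) := by
      rw [hn, str_bmap]
      exact (isPullback_pe π hp x₀ ξ').flip
    exact IsPullback.of_right hbig (by rw [← StMod.bmap_comp, ← StMod.bmap_comp]; exact congrArg (StMod.bmap 𝒳) hc)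
      (isPullback_pe π hp x₀ ξ).flip

/-- The tautological section over the point. -/
theorem exists_point_section (h𝒳 : AlgSt.IsAlgStack Scheme.fppfPrecoverage 𝒳)
    (hX : AlgSt.IsAlgStack Scheme.fppfPrecoverage (AlgSt.ofSch X))
    {A : (Over S)ᵒᵖ ⥤ GrpCat.{u}} (χ : A ⟶ TwSh.GmPsh S) (ι' : TwSh.BandHom 𝒳 A)
    (hπ : TwSh.IsBandedGerbe (QuotSh.J Scheme.fppfPrecoverage S) π ι') :
    ∃ (σ : FibCat.overCat (𝒳.p.obj x₀) ⥤ᵇ StMod.fibCat π (π.obj x₀))
      (G : StMod.QCoh (StMod.fibCat π (π.obj x₀))),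
      TwSh.IsTwisted G.obj (TwSh.BandHom.fib π (π.obj x₀) ι' hπ.map_hom_eq_id) χ 1 ∧
        Nonempty ((StMod.comapQ σ).obj G ≅ StMod.OQ _) ∧
        ∀ z : AObj (StMod.fibCat π (π.obj x₀)), ∃ (t : AObj (FibCat.overCat (𝒳.p.obj x₀)))
          (g : σ.obj t.1 ⟶ z.1), IsCov g := by
  haveI := isFibered_of_fibGrpd h𝒳.isStack.1
  let T := 𝒳.p.obj x₀
  obtain ⟨s, e, hs, he⟩ := exists_fromOver (𝒳 := 𝒳) (x := x₀) rfl
  let ut : ∀ t : (FibCat.overCat T).obj, s.obj t ⟶ x₀ := fun t => s.map (toTop t) ≫ e.hom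
  have hut : ∀ t, 𝒳.p.IsHomLift t.hom (ut t) := fun t => by
    have h1 := over_map_toTop_lift s t
    exact IsHomLift.comp_lift_id_right' 𝒳.p t.hom _ T e.hom
  have hutn : ∀ {t t' : (FibCat.overCat T).obj} (f : t ⟶ t'), s.map f ≫ ut t' = ut t := fun f => by
    change s.map f ≫ s.map (toTop _) ≫ e.hom = _
    rw [← Category.assoc, ← s.map_comp, toTop_comp]
  let F : (FibCat.overCat T).obj ⥤ (StMod.fibCat π (π.obj x₀)).obj :=
    { obj := fun t => CostructuredArrow.mk (π.map (ut t))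
      map := fun f => CostructuredArrow.homMk (s.map f) ((π.map_comp _ _).symm.trans (congrArg π.map (hutn f)))
      map_id := fun t => (CostructuredArrow.proj π.toFunctor _).map_injective (s.map_id t)
      map_comp := fun f g => (CostructuredArrow.proj π.toFunctor _).map_injective (s.map_comp f g) }
  let σ : FibCat.overCat T ⥤ᵇ StMod.fibCat π (π.obj x₀) := { toFunctor := F, w := s.w }
  have hinj : ∀ t, Function.Injective ((TwSh.BandHom.fib π (π.obj x₀) ι' hπ.map_hom_eq_id).hom (σ.obj t)) := by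
    intro t a b h
    refine (hπ.2 (s.obj t)).1 (autO_ext ?_)
    exact congrArg (fun α : Gerb.AutO (σ.obj t) => α.hom.1.left) h
  have cov : ∀ z : AObj (StMod.fibCat π (π.obj x₀)), ∃ (t : AObj (FibCat.overCat T))
      (g : σ.obj t.1 ⟶ z.1), IsCov g := by
    rintro ⟨z, hz⟩
    obtain ⟨w, φ, ψ, hφ, hw⟩ := exists_lift_of_gerbe h𝒳 hX hπ.1 (x := z.left) (x' := x₀) hz z.hom
    let t : (FibCat.overCat T).obj := Over.mk (𝒳.p.map ψ)
    have hu : 𝒳.p.IsHomLift (𝒳.p.map ψ) (ut t) := hut t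
    have hψ : 𝒳.p.IsHomLift (𝒳.p.map ψ) ψ := inferInstance
    obtain ⟨κ, hκ, hκe⟩ := exists_vertIso h𝒳.isStack.1 (𝒳.p.map ψ) (ut t) ψ
    haveI := hφ.1
    have hta : IsAffine (StMod.sch (FibCat.overCat T) t) := hφ.1
    have hst : 𝒳.p.obj (s.obj t) = 𝒳.p.obj w := s.w_obj t
    have hsa : IsAffine (StMod.sch 𝒳 (s.obj t)) := by rw [StMod.sch_obj_eq s t]; exact hta
    have hw' : π.map (κ.hom ≫ φ) ≫ z.hom = π.map (ut t) := by
      rw [π.map_comp, Category.assoc, hw, ← π.map_comp, hκe]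
    refine ⟨⟨t, hta⟩, CostructuredArrow.homMk (κ.hom ≫ φ) hw', ?_⟩
    have hb : StMod.bmap 𝒳 κ.hom = eqToHom (congrArg (fun q : Over S => q.left) hst) := by
      rw [bmap_of_lift _ κ.hom hκ hst rfl]
      simp
    have := hφ.2.1
    have := hφ.2.2
    refine ⟨hsa, ?_, ?_⟩
    · change Flat (StMod.bmap 𝒳 (κ.hom ≫ φ))
      rw [StMod.bmap_comp, hb]
      infer_instance
    · change Surjective (StMod.bmap 𝒳 (κ.hom ≫ φ))
      rw [StMod.bmap_comp, hb]
      infer_instance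
  have dec : ∀ {t t' : (FibCat.overCat T).obj} (b : σ.obj t ⟶ σ.obj t'),
      ∃ (f : t ⟶ t') (a : A.obj (op ((StMod.fibCat π (π.obj x₀)).p.obj (σ.obj t)))),
        ((TwSh.BandHom.fib π (π.obj x₀) ι' hπ.map_hom_eq_id).hom (σ.obj t) a).hom.1 ≫ σ.map f = b := by
    intro t t' b
    let b' : s.obj t ⟶ s.obj t' := b.left
    have hb : π.map b' ≫ π.map (ut t') = π.map (ut t) := CostructuredArrow.w b
    let n : t.left ⟶ t'.left := eqToHom (s.w_obj t).symm ≫ 𝒳.p.map b' ≫ eqToHom (s.w_obj t')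
    have hlb : 𝒳.p.IsHomLift n b' := IsHomLift.of_fac' 𝒳.p n b' (s.w_obj t) (s.w_obj t') (by simp [n])
    have hn : n ≫ t'.hom = t.hom := by
      have h1 : 𝒳.p.IsHomLift (n ≫ t'.hom) (b' ≫ ut t') := homLift_comp' hlb (hut t')
      have h2 := hut t
      refine Over.OverMorphism.ext ?_
      have e1 := bmap_of_lift _ _ h1 (s.w_obj t) rfl
      have e2 := bmap_of_lift _ _ h2 (s.w_obj t) rfl
      have e3 : StMod.bmap 𝒳 (b' ≫ ut t') = StMod.bmap 𝒳 (ut t) := by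
        have g1 := StMod.bmap_map_comm π (b' ≫ ut t') rfl
        have g2 := StMod.bmap_map_comm π (ut t) rfl
        rw [π.map_comp, hb, g2] at g1
        exact ((cancel_epi _).1 g1).symm
      rw [e1, e2, cancel_epi, cancel_mono] at e3
      exact e3
    let f : t ⟶ t' := Over.homMk n hn
    have hlf : 𝒳.p.IsHomLift n (s.map f) :=
      @BasedFunctor.preserves_isHomLift _ _ _ _ s _ _ _ _ _ _ (overCat_isHomLift f)
    obtain ⟨κ, hκ, hκe⟩ := exists_vertIso h𝒳.isStack.1 n b' (s.map f)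
    have hκ' : 𝒳.p.IsHomLift (𝟙 (𝒳.p.obj (s.obj t))) κ.hom := by
      rw [s.w_obj t]
      exact hκ
    let α : Gerb.AutO (s.obj t) := autMk κ hκ'
    have hmem : α ∈ (Gerb.autMap π (s.obj t)).ker := by
      rw [MonoidHom.mem_ker]
      exact autO_ext (map_autO_ofSch π α)
    rw [← (hπ.2 (s.obj t)).2] at hmem
    obtain ⟨a, ha⟩ := hmem
    refine ⟨f, a, (CostructuredArrow.proj π.toFunctor _).map_injective ?_⟩
    change (ι'.hom (s.obj t) a).hom.1 ≫ s.map f = b'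
    rw [ha, autMk_hom, hκe]
  obtain ⟨G, hG, hI⟩ := exists_twisted_of_functor (fibCat_fibGrpd π (π.obj x₀) h𝒳.isStack.1) (fibGrpd_overCat T) χ
    (TwSh.BandHom.fib π (π.obj x₀) ι' hπ.map_hom_eq_id) σ hinj cov dec
    (fun f g h => Over.OverMorphism.ext (Over.OverMorphism.ext h)) (StMod.OQ _)
  exact ⟨σ, G, hG, hI, cov⟩

end Groth.Agent.H14QCoh
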