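import Groth.Agent.H14QCoh.AffRel
import Groth.Agent.H14QCoh.Transfer
import Groth.Agent.H14QCoh.IsoCongr
import Groth.Agent.H11Ample.Extension
import Groth.Prelude.Def_StMod6

/-!
# The structure sheaf generates relative to quasi-affine morphisms
-/

set_option autoImplicit false
set_option linter.style.haveILetI false
set_option backward.isDefEq.respectTransparency false
set_option backward.isDefEq.respectTransparency.types false

universe u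

open CategoryTheory CategoryTheory.Limits AlgebraicGeometry Opposite TopologicalSpace

noncomputable section

namespace Groth.Agent.H14QCoh

open H14Fib H14AlgSt

variable {S : Scheme.{u}} {𝒳 𝒴 : AlgSt.Cat S}

/-- The category over an object with affine scheme of a quasi-affine morphism has a terminal object with quasi-affine
scheme. -/
theorem exists_univ_qaff (π : 𝒳 ⥤ᵇ 𝒴) (hπ : AlgSt.RepByAlgSpWith AlgSp.IsQuasiAffineMor π)
    (hq : FibCat.IsFibGrpd 𝒴.p) (θ : 𝒴.obj) (hθ : IsAffine (StMod.sch 𝒴 θ)) :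
    ∃ z₀ : (StMod.fibCat π θ).obj, (StMod.sch (StMod.fibCat π θ) z₀).IsQuasiAffine ∧
      ∀ z : (StMod.fibCat π θ).obj, ∃! _c : z ⟶ z₀, True := by
  have := isFibered_of_fibGrpd hq
  obtain ⟨y, i, -, hi⟩ := exists_fromOver (𝒳 := 𝒴) (x := θ) rfl
  obtain ⟨F, e, he, hF⟩ := hπ (𝒴.p.obj θ) y
  obtain ⟨W, j, g, sq, hW⟩ := hF (Z := 𝒴.p.obj θ) hθ (𝟙 ((AlgSp.yon S).obj (𝒴.p.obj θ)))
  have : IsIso g := sq.isIso_fst_of_isIso
  have : IsIso g.hom := (sheafToPresheaf _ _).map_isIso g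
  let E : FibCat.overCat W ⥤ᵇ StMod.fibCat π θ :=
    BasedFunctor.comp (AlgSt.ofOverCat W)
      (BasedFunctor.comp (BasedFunctor.comp (AlgSt.ofSpMap g) e) (fromFp π θ y i))
  have hE : FibCat.IsEquivOver E :=
    isEquivOver_comp (ofOverCat_isEquivOver W)
      (isEquivOver_comp (isEquivOver_comp (isEquivOver_ofPshMap _) he) (fromFp_isEquivOver π θ y i hi hq))
  have := isEquivalence_of_isEquivOver hE
  refine ⟨E.obj (topObj W), ?_, fun z => ?_⟩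
  · change (((StMod.fibCat π θ).p.obj (E.obj (topObj W)))).left.IsQuasiAffine
    rw [show (StMod.fibCat π θ).p.obj (E.obj (topObj W)) = W from E.w_obj (topObj W)]
    exact hW
  · let t := E.toFunctor.objPreimage z
    refine ⟨(E.toFunctor.objObjPreimageIso z).inv ≫ E.map (toTop t), trivial, fun b _ => ?_⟩
    obtain ⟨c, hc⟩ := E.toFunctor.map_surjective ((E.toFunctor.objObjPreimageIso z).hom ≫ b)
    have hct : c = toTop t := by
      have h : c ≫ toTop (topObj W) = toTop t := toTop_comp c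
      have h1 : toTop (topObj W) = 𝟙 (topObj W) := Over.OverMorphism.ext rfl
      rwa [h1, Category.comp_id] at h
    change b = _ ≫ E.toFunctor.map (toTop t)
    rw [← hct, hc, Iso.inv_hom_id_assoc]

section terminal

variable {𝒵 : AlgSt.Cat S} (hp : FibCat.IsFibGrpd 𝒵.p) {z₀ : 𝒵.obj}
  (hz₀ : ∀ z : 𝒵.obj, ∃! _c : z ⟶ z₀, True)

include hp hz₀ in
/-- Images of global sections under a morphism killed by all morphisms from the structure sheaf vanish. -/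
theorem app_mapTop_eq_zero {M N : StMod.QCoh 𝒵} (u : M.obj ⟶ N.obj)
    (hu : ∀ φ : StMod.O 𝒵 ⟶ M.obj, φ ≫ u = 0) {ζ : 𝒵.obj} (hζ : IsAffine (StMod.sch 𝒵 ζ)) (c : ζ ⟶ z₀)
    (t : Sec M z₀) : (u.app ζ).app ⊤ (M.obj.mapTop c t) = 0 := by
  let τ : ∀ ξ : 𝒵.obj, ξ ⟶ z₀ := fun ξ => (hz₀ ξ).choose
  have hτ : ∀ {ξ : 𝒵.obj} (d : ξ ⟶ z₀), d = τ ξ := fun {ξ} d => (hz₀ ξ).unique trivial trivial
  let f : AffFam (StMod.OQ 𝒵) M := fun ξ _ =>
    LinearMap.toSpanSingleton (Fn 𝒵 ξ) (Sec M ξ) (M.obj.mapTop (τ ξ) t)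
  have hf : f.Nat := by
    intro ξ' ξ φ _ _ (x : Fn 𝒵 ξ)
    change fnMap φ x • M.obj.mapTop (τ ξ') t = M.obj.mapTop φ (x • M.obj.mapTop (τ ξ) t)
    rw [M.obj.mapTop_smul, ← M.obj.mapTop_comp, hτ (φ ≫ τ ξ)]
  obtain ⟨φ, hφ⟩ := exists_hom hp f hf
  have h0 := congrArg (fun k => (StMod.Mod.Hom.app k ζ).app ⊤ (show Γ((StMod.O 𝒵).obj ζ, ⊤) from (1 : Fn 𝒵 ζ))) (hu φ)
  simp only [StMod.Mod.comp_app, StMod.Mod.zero_app, Scheme.Modules.Hom.comp_app] at h0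
  change (u.app ζ).app ⊤ ((φ.app ζ).app ⊤ (1 : Fn 𝒵 ζ)) = 0 at h0
  rw [hφ ζ hζ] at h0
  change (u.app ζ).app ⊤ ((1 : Fn 𝒵 ζ) • M.obj.mapTop (τ ζ) t) = 0 at h0
  rwa [one_smul, ← hτ c] at h0

include hp hz₀ in
/-- The structure sheaf generates on a category with terminal object over a quasi-affine scheme. -/
theorem isGenFam_OQ_of_terminal [(StMod.sch 𝒵 z₀).IsQuasiAffine] :
    StMod.IsGenFam (fun _ : PUnit.{u + 1} => StMod.OQ 𝒵) := by
  rw [StMod.isGenFam_iff]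
  intro M N u hu
  have key : ∀ {ζ : 𝒵.obj} (hζ : IsAffine (StMod.sch 𝒵 ζ)) (χ : ζ ⟶ z₀) (g : Γ(StMod.sch 𝒵 z₀, ⊤)),
      IsAffineOpen ((StMod.sch 𝒵 z₀).basicOpen g) → ∀ _ : IsOpenImmersion (StMod.bmap 𝒵 χ),
      (StMod.bmap 𝒵 χ).opensRange = (StMod.sch 𝒵 z₀).basicOpen g →
      ∀ b : Sec M ζ, (u.hom.app ζ).app ⊤ b = 0 := by
    intro ζ hζ χ g hU hI hR b
    haveI := hI
    haveI := hζ
    let U := (StMod.sch 𝒵 z₀).basicOpen g
    have hle : ⊤ ≤ StMod.bmap 𝒵 χ ⁻¹ᵁ U := fun y _ => hR.le ⟨y, rfl⟩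
    obtain ⟨b', hb'⟩ := (bijective_res_open χ hle M hU hR).2 b
    haveI : (M.obj.obj z₀).IsQuasicoherent := M.property.2 z₀
    obtain ⟨n, t, ht⟩ := H11Ample.exists_pow_smul_eq_res_of_isQuasiSeparated (M.obj.obj z₀) (W := ⊤)
      isCompact_univ isQuasiSeparated_univ g b'
    have h1 := congrArg (res M.obj χ U hle) ht
    rw [res_map χ (F := M.obj) (U := ⊤) le_top ((StMod.sch 𝒵 z₀).basicOpen_le g) hle t, res_top, res_smul,
      hb'] at h1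
    have h2 := app_mapTop_eq_zero hp hz₀ u.hom (fun φ => hu PUnit.unit φ) hζ χ t
    rw [h1, Scheme.Modules.Hom.app_smul] at h2
    refine (IsUnit.smul_eq_zero ?_).1 h2
    refine RingHom.isUnit_map _ ?_
    rw [map_pow]
    exact ((StMod.sch 𝒵 z₀).toRingedSpace.isUnit_res_basicOpen g).pow n
  refine InducedCategory.hom_ext (hom_ext_affine hp fun ξ hξ s => ?_)
  change (u.hom.app ξ).app ⊤ s = (0 : Sec N ξ)
  haveI := hξ
  let a : ξ ⟶ z₀ := (hz₀ ξ).choose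
  have hx : ∀ x : StMod.sch 𝒵 ξ, ∃ (g : Γ(StMod.sch 𝒵 z₀, ⊤)) (V : (StMod.sch 𝒵 ξ).affineOpens), x ∈ V.1 ∧
      IsAffineOpen ((StMod.sch 𝒵 z₀).basicOpen g) ∧
        V.1 ≤ StMod.bmap 𝒵 a ⁻¹ᵁ (StMod.sch 𝒵 z₀).basicOpen g := by
    intro x
    obtain ⟨_, ⟨_, ⟨g, hg, rfl⟩, rfl⟩, hxg, -⟩ := (Scheme.IsQuasiAffine.isBasis_basicOpen
      (StMod.sch 𝒵 z₀)).exists_subset_of_mem_open (Set.mem_univ (StMod.bmap 𝒵 a x)) isOpen_univ
    obtain ⟨_, ⟨V, hV, rfl⟩, hxV, hVle⟩ := (StMod.sch 𝒵 ξ).isBasis_affineOpens.exists_subset_of_mem_open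
      (show x ∈ ((StMod.bmap 𝒵 a ⁻¹ᵁ (StMod.sch 𝒵 z₀).basicOpen g : (StMod.sch 𝒵 ξ).Opens) : Set _) from hxg)
      (StMod.bmap 𝒵 a ⁻¹ᵁ (StMod.sch 𝒵 z₀).basicOpen g).isOpen
    exact ⟨g, ⟨V, hV⟩, hxV, hg, hVle⟩
  choose g V hxV hg hVle using hx
  refine TopCat.Sheaf.eq_of_locally_eq' ⟨(N.obj.obj ξ).presheaf, (N.obj.obj ξ).isSheaf⟩
    (fun x => (V x).1) ⊤ (fun x => homOfLE le_top)
    (fun x _ => Opens.mem_iSup.2 ⟨x, hxV x⟩) _ _ fun x => ?_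
  obtain ⟨ξ', φ, hA, hI, hR⟩ := exists_open_lift hp ξ (V x).1 (V x).2
  obtain ⟨ζ, χ, hζ, hI', hR'⟩ := exists_open_lift hp z₀ _ (hg x)
  haveI := hA
  haveI := hI
  haveI := hI'
  have hrange : Set.range (StMod.bmap 𝒵 (φ ≫ a)) ⊆ Set.range (StMod.bmap 𝒵 χ) := by
    rintro _ ⟨y, rfl⟩
    rw [StMod.bmap_comp, ← Scheme.Hom.coe_opensRange, hR']
    exact hVle x (hR.le ⟨y, rfl⟩)
  obtain ⟨c, hc, -⟩ := exists_factor hp χ (φ ≫ a) (IsOpenImmersion.lift _ _ hrange)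
    (IsOpenImmersion.lift_fac _ _ _)
  have hle : ⊤ ≤ StMod.bmap 𝒵 φ ⁻¹ᵁ (V x).1 := fun y _ => hR.le ⟨y, rfl⟩
  refine (bijective_res_open φ hle N (V x).2 hR).1 ?_
  refine (res_map φ (F := N.obj) le_top le_top hle ((u.hom.app ξ).app ⊤ s)).trans ?_
  refine Eq.trans ?_ (res_map φ (F := N.obj) le_top le_top hle (0 : Sec N ξ)).symm
  rw [res_top, res_top, StMod.Mod.mapTop_app, N.obj.mapTop_zero]
  refine sec_induction (φ := c) hA hζ (P := fun t => (u.hom.app ξ').app ⊤ t = 0) (M.obj.mapTop φ s)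
    (map_zero _) (fun p q h h' => by rw [map_add, h, h', add_zero]) fun r t => ?_
  rw [Scheme.Modules.Hom.app_smul, ← StMod.Mod.mapTop_app, key hζ χ (g x) (hg x) hI' hR', N.obj.mapTop_zero,
    smul_zero]

end terminal

/-- The structure sheaf generates relative to a quasi-affine morphism. -/
theorem isRelGenFam_OQ_of_qaff (π : 𝒳 ⥤ᵇ 𝒴) (hp : FibCat.IsFibGrpd 𝒳.p) (hq : FibCat.IsFibGrpd 𝒴.p)
    (hπ : AlgSt.RepByAlgSpWith AlgSp.IsQuasiAffineMor π) :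
    StMod.IsRelGenFam π (fun _ : PUnit.{u + 1} => StMod.OQ 𝒳) := by
  intro η hη
  obtain ⟨z₀, hW, hz₀⟩ := exists_univ_qaff π hπ hq η hη
  haveI := hW
  exact isGenFam_congr (E := fun _ : PUnit.{u + 1} => StMod.OQ (StMod.fibCat π η))
    (E' := fun _ : PUnit.{u + 1} => (StMod.comapQ (StMod.fibFst π η)).obj (StMod.OQ 𝒳))
    (fun _ => StMod.comapOIso (StMod.fibFst π η))
    (isGenFam_OQ_of_terminal (fibCat_fibGrpd π η hp) hz₀)

end Groth.Agent.H14QCoh
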