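import Groth.Agent.H14QCoh.Chart
import Groth.Agent.H14QCoh.Atlas

/-!
# Atlases of quasi-compact stacks with quasi-compact pairs of chart points
-/

set_option autoImplicit false
set_option linter.style.haveILetI false
set_option backward.isDefEq.respectTransparency false
set_option backward.isDefEq.respectTransparency.types false

universe u

open CategoryTheory CategoryTheory.Limits AlgebraicGeometry

noncomputable section

namespace Groth.Agent.H14QCoh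

open H14Fib H14AlgSt H14Stk

variable {S : Scheme.{u}} {𝒵 : AlgSt.Cat S} {U : Over S}

/-- An object over the top of a chart is the value of the chart at an object of the slice. -/
theorem exists_vertical (h : FibCat.IsFibGrpd 𝒵.p) (x : FibCat.overCat U ⥤ᵇ 𝒵) {ξ : 𝒵.obj}
    (α : ξ ⟶ x.obj (topObj U)) :
    ∃ (s : (FibCat.overCat U).obj) (χ : x.obj s ≅ ξ),
      s.left = 𝒵.p.obj ξ ∧ 𝒵.p.IsHomLift (𝟙 s.left) χ.hom ∧ χ.hom ≫ α = x.map (toTop s) := by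
  let g : 𝒵.p.obj ξ ⟶ U := 𝒵.p.map α ≫ eqToHom (x.w_obj (topObj U))
  let s : (FibCat.overCat U).obj := Over.mk g
  have hα : 𝒵.p.IsHomLift g α := IsHomLift.of_fac _ _ _ rfl (x.w_obj (topObj U)) (by simp [g])
  have := sc_of_fibGrpd h g α
  have hy : 𝒵.p.IsHomLift g (x.map (toTop s)) :=
    @BasedFunctor.preserves_isHomLift _ _ _ _ x _ _ _ _ _ (toTop s) (overCat_isHomLift (toTop s))
  let χ : x.obj s ⟶ ξ := CategoryTheory.Functor.IsStronglyCartesian.map 𝒵.p g α (g := 𝟙 (𝒵.p.obj ξ))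
    (Category.id_comp g).symm (x.map (toTop s))
  have hχ : 𝒵.p.IsHomLift (𝟙 (𝒵.p.obj ξ)) χ := CategoryTheory.Functor.IsStronglyCartesian.map_isHomLift _ _ _ _ _
  have hχe : χ ≫ α = x.map (toTop s) := CategoryTheory.Functor.IsStronglyCartesian.fac _ _ _ _ _
  have := isIso_of_fibGrpd h (𝟙 (𝒵.p.obj ξ)) χ
  exact ⟨s, asIso χ, rfl, hχ, hχe⟩

/-- Two arrows to the object of a chart are covered by a chart of the pairs of points. -/
theorem exists_cov₂_chart (h : FibCat.IsFibGrpd 𝒵.p) {x : FibCat.overCat U ⥤ᵇ 𝒵} {V : Over S}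
    {r : FibCat.overCat V ⥤ᵇ FibCat.fp x x} (hr : AlgSt.RepByAlgSpWith (AlgSp.LocP @Smooth) r)
    (hrs : AlgSt.RepByAlgSpWith AlgSp.IsSurjectiveMor r) :
    ∀ (ξ : 𝒵.obj) (α β : ξ ⟶ x.obj (topObj U)), IsAffine (StMod.sch 𝒵 ξ) →
      ∃ (ξ' : 𝒵.obj) (φ : ξ' ⟶ ξ) (c : ξ' ⟶ x.obj (r.obj (topObj V)).obj.fst), IsCov φ ∧
        φ ≫ α = c ≫ x.map (toTop (r.obj (topObj V)).obj.fst) ∧
        φ ≫ β = c ≫ (r.obj (topObj V)).obj.iso.hom ≫ x.map (toTop (r.obj (topObj V)).obj.snd) := by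
  let ω := r.obj (topObj V)
  have hU := fibGrpd_overCat U
  have hF := fp_fibGrpd (F := x) (G := x) hU hU h
  intro ξ α β hξ
  obtain ⟨s₁, χ₁, es₁, h₁, e₁⟩ := exists_vertical h x α
  obtain ⟨s₂, χ₂, es₂, h₂, e₂⟩ := exists_vertical h x β
  let iso := χ₁ ≪≫ χ₂.symm
  have hiso : 𝒵.p.IsHomLift (𝟙 s₁.left) iso.hom := by
    have h₁' : 𝒵.p.IsHomLift (𝟙 (𝒵.p.obj ξ)) χ₁.hom := es₁ ▸ h₁
    have h₂' : 𝒵.p.IsHomLift (𝟙 (𝒵.p.obj ξ)) χ₂.hom := es₂ ▸ h₂
    have := IsHomLift.lift_id_inv 𝒵.p (𝒵.p.obj ξ) χ₂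
    rw [es₁]
    exact homLift_id_comp h₁' this
  let ω₀ : (FibCat.fp x x).obj := ⟨{ fst := s₁, snd := s₂, iso := iso }, hiso⟩
  have hω₀ : IsAffine (StMod.sch (FibCat.fp x x) ω₀) := by
    change IsAffine (StMod.sch (FibCat.overCat U) s₁)
    rw [show StMod.sch (FibCat.overCat U) s₁ = StMod.sch 𝒵 ξ from congrArg (fun t => t.left) es₁]
    exact hξ
  obtain ⟨ω', φ', hφ', ⟨m⟩⟩ := exists_cov_lift hF hr hrs ω₀ hω₀
  refine ⟨x.obj ω'.obj.fst, x.map φ'.hom.fst ≫ χ₁.hom, x.map m.hom.fst, ⟨?_, ?_, ?_⟩, ?_, ?_⟩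
  · have := hφ'.1
    change IsAffine (StMod.sch (FibCat.overCat U) ω'.obj.fst) at this
    rwa [StMod.sch_obj_eq x]
  all_goals first
    | (haveI : IsIso (StMod.bmap 𝒵 χ₁.hom) :=
        inferInstanceAs (IsIso ((𝒵.p ⋙ Over.forget S).map χ₁.hom))
       have hb : StMod.bmap 𝒵 (x.map φ'.hom.fst) = (eqToHom (StMod.sch_obj_eq x _) ≫
           StMod.bmap (FibCat.fp x x) φ') ≫ eqToHom (StMod.sch_obj_eq x _).symm := by
         rw [← cancel_mono (eqToHom (StMod.sch_obj_eq x _)), StMod.bmap_map_comm x φ'.hom.fst rfl]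
         simp
         rfl
       have := hφ'.2.1
       have := hφ'.2.2
       rw [StMod.bmap_comp, hb]
       infer_instance)
    | skip
  · rw [Category.assoc, e₁, ← x.map_comp, ← x.map_comp, toTop_comp, toTop_comp]
  · have w₀ : x.map φ'.hom.fst ≫ χ₁.hom ≫ χ₂.inv = ω'.obj.iso.hom ≫ x.map φ'.hom.snd := φ'.hom.w
    have w₁ : x.map m.hom.fst ≫ ω.obj.iso.hom = ω'.obj.iso.hom ≫ x.map m.hom.snd := m.hom.w
    have hχ : χ₁.hom = (χ₁.hom ≫ χ₂.inv) ≫ χ₂.hom := by simp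
    rw [hχ, ← Category.assoc, w₀, Category.assoc, Category.assoc, e₂, ← x.map_comp, reassoc_of% w₁, ← x.map_comp,
      toTop_comp, toTop_comp]

/-- Quasi-compactness of the chart and of its pairs of points gives an atlas on affine objects. -/
theorem nonempty_atlas (h : FibCat.IsFibGrpd 𝒵.p) [IsAffine U.left] {x : FibCat.overCat U ⥤ᵇ 𝒵}
    (hx : AlgSt.RepByAlgSpWith (AlgSp.LocP @Smooth) x)
    (hxs : AlgSt.RepByAlgSpWith AlgSp.IsSurjectiveMor x) (hR : AlgSt.IsQuasiCompact (FibCat.fp x x)) :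
    Nonempty (Atlas 𝒵) := by
  obtain ⟨V, r, hV, hr, hrs⟩ := hR
  let ω := r.obj (topObj V)
  have hsU : StMod.sch 𝒵 (x.obj (topObj U)) = U.left := congrArg (fun t => t.left) (x.w_obj (topObj U))
  have hsω : StMod.sch 𝒵 (x.obj ω.obj.fst) = V.left :=
    (congrArg (fun t => t.left) (x.w_obj ω.obj.fst)).trans (congrArg (fun t => t.left) (r.w_obj (topObj V)))
  refine ⟨{
    x := x.obj (topObj U)
    y := x.obj ω.obj.fst
    a := x.map (toTop ω.obj.fst)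
    b := ω.obj.iso.hom ≫ x.map (toTop ω.obj.snd)
    affx := hsU ▸ ‹IsAffine U.left›
    affy := hsω ▸ hV
    cov := fun ξ hξ => exists_cov_lift h hx hxs ξ hξ
    cov₂ := exists_cov₂_chart h hr hrs }⟩

end Groth.Agent.H14QCoh
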