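import Groth.Agent.H14QCoh.Res
import Groth.Agent.H14QCoh.Descent
import Groth.Prelude.Def_TwSh

/-!
# Twistedness is local for flat covers of the base
-/

set_option autoImplicit false
set_option linter.style.haveILetI false
set_option backward.isDefEq.respectTransparency false
set_option backward.isDefEq.respectTransparency.types false

universe u

open CategoryTheory CategoryTheory.Limits AlgebraicGeometry Opposite TopologicalSpace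

noncomputable section

namespace Groth.Agent.H14QCoh

variable {S : Scheme.{u}}

section Inert

variable {𝒳 : AlgSt.Cat S} (F : StMod.Mod 𝒳)

lemma res_congr {ζ ξ : 𝒳.obj} {a b : ζ ⟶ ξ} (e : a = b) {U : (StMod.sch 𝒳 ξ).Opens}
    (ha : ⊤ ≤ StMod.bmap 𝒳 a ⁻¹ᵁ U) (hb : ⊤ ≤ StMod.bmap 𝒳 b ⁻¹ᵁ U) (m : Γ(F.obj ξ, U)) :
    res F a U ha m = res F b U hb m := by
  subst e
  rfl

lemma res_map_app {ζ ξ' ξ : 𝒳.obj} (χ : ζ ⟶ ξ') (α : ξ' ⟶ ξ) {g : StMod.sch 𝒳 ξ' ⟶ StMod.sch 𝒳 ξ}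
    (hg : StMod.bmap 𝒳 α = g) {U : (StMod.sch 𝒳 ξ).Opens} (h : ⊤ ≤ StMod.bmap 𝒳 χ ⁻¹ᵁ (g ⁻¹ᵁ U))
    (h' : ⊤ ≤ StMod.bmap 𝒳 (χ ≫ α) ⁻¹ᵁ U) (m : Γ(F.obj ξ, U)) :
    res F χ (g ⁻¹ᵁ U) h ((F.map α hg).app U m) = res F (χ ≫ α) U h' m := by
  have key : ∀ {g₁ : StMod.sch 𝒳 ζ ⟶ StMod.sch 𝒳 ξ} (hg₁ : StMod.bmap 𝒳 (χ ≫ α) = g₁) (h₁ : ⊤ ≤ g₁ ⁻¹ᵁ U),
      res F (χ ≫ α) U h' m = (F.obj ζ).presheaf.map (homOfLE h₁).op ((F.map (χ ≫ α) hg₁).app U m) := by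
    intro g₁ hg₁ h₁
    subst hg₁
    rfl
  rw [key (g₁ := StMod.bmap 𝒳 χ ≫ g) (by rw [StMod.bmap_comp, hg]) h, StMod.Mod.map_comp_app F χ α rfl hg]
  rfl

lemma res_inert {ζ ξ : 𝒳.obj} (χ : ζ ⟶ ξ) (α : Gerb.AutO ξ) (α' : Gerb.AutO ζ)
    (hnat : α'.hom.1 ≫ χ = χ ≫ α.hom.1) {U : (StMod.sch 𝒳 ξ).Opens}
    (h : ⊤ ≤ StMod.bmap 𝒳 χ ⁻¹ᵁ U) (m : Γ(F.obj ξ, U)) :
    res F χ U h ((TwSh.inert F ξ α).app U m) = (TwSh.inert F ζ α').app ⊤ (res F χ U h m) := by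
  have h' : ⊤ ≤ StMod.bmap 𝒳 (χ ≫ α.hom.1) ⁻¹ᵁ U := by
    rw [StMod.bmap_comp, TwSh.bmap_autO, Category.comp_id]
    exact h
  refine ((res_map_app F χ α.hom.1 (TwSh.bmap_autO ξ α) h h' m).trans
    ((res_congr F hnat.symm h' (top_le_comp χ _ h) m).trans (mapTop_res χ h α'.hom.1 m).symm)).trans ?_
  exact (TwSh.inert_app_top F ζ α' _).symm

end Inert

theorem isTwisted_of_flat_cover {X : Over S} {𝒳 : AlgSt.Cat S} (hp : FibCat.IsFibGrpd 𝒳.p)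
    {A : (Over S)ᵒᵖ ⥤ GrpCat.{u}} (χ : A ⟶ TwSh.GmPsh S) (d : ℤ) (π : 𝒳 ⥤ᵇ AlgSt.ofSch X)
    (ι' : TwSh.BandHom 𝒳 A) (hι : ∀ (ξ : 𝒳.obj) (a : A.obj (op (𝒳.p.obj ξ))), π.map (ι'.hom ξ a).hom.1 = 𝟙 _)
    {I : Type u} (η' : I → (AlgSt.ofSch X).obj) (hfl : ∀ i, Flat (η' i).sec.down.left)
    (hcov : ∀ x : X.left, ∃ i, x ∈ Set.range (η' i).sec.down.left.base) (F : StMod.QCoh 𝒳)
    (h : ∀ i, TwSh.IsTwisted (StMod.Mod.comap (StMod.fibFst π (η' i)) F.obj)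
      (TwSh.BandHom.fib π (η' i) ι' hι) χ d) : TwSh.IsTwisted F.obj ι' χ d := by
  -- the restriction of `χ(a)`
  have hchar : ∀ {ζ ξ : 𝒳.obj} (φ : ζ ⟶ ξ) (a : A.obj (op (𝒳.p.obj ξ))),
      (TwSh.charUnit χ ζ (A.map (𝒳.p.map φ).op a) ^ d)⁻¹.val =
        (StMod.bmap 𝒳 φ).appTop ((TwSh.charUnit χ ξ a ^ d)⁻¹).val := by
    intro ζ ξ φ a
    have e : TwSh.charUnit χ ζ (A.map (𝒳.p.map φ).op a) =
        Units.map ((StMod.bmap 𝒳 φ).appTop.hom.toMonoidHom :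
          Γ(StMod.sch 𝒳 ξ, ⊤) →* Γ(StMod.sch 𝒳 ζ, ⊤)) (TwSh.charUnit χ ξ a) :=
      congr($(χ.naturality (𝒳.p.map φ).op) a)
    rw [e, ← map_zpow, ← map_inv]
    rfl
  -- twistedness on global sections of affine objects
  have haff : ∀ (ξ : 𝒳.obj), IsAffine (StMod.sch 𝒳 ξ) → ∀ (a : A.obj (op (𝒳.p.obj ξ))) (s : Sec F ξ),
      (TwSh.inert F.obj ξ (ι'.hom ξ a)).app ⊤ s = ((TwSh.charUnit χ ξ a ^ d)⁻¹).val • s := by
    intro ξ hξ a s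
    let f : StMod.sch 𝒳 ξ ⟶ X.left := eqToHom (StMod.sch_obj_eq π ξ).symm ≫ (π.obj ξ).sec.down.left
    let 𝒰 := fun i => (pullback f (η' i).sec.down.left).affineCover
    let K := Σ i, (𝒰 i).I₀
    have hw : ∀ k : K, ∃ (ζ : 𝒳.obj) (φ : ζ ⟶ ξ) (e : StMod.sch 𝒳 ζ ≅ (𝒰 k.1).X k.2),
        StMod.bmap 𝒳 φ = e.hom ≫ (𝒰 k.1).f k.2 ≫ pullback.fst f (η' k.1).sec.down.left :=
      fun k => exists_lift hp ξ _
    choose ζ φ e he using hw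
    haveI : ∀ k, IsAffine (StMod.sch 𝒳 (ζ k)) := fun k =>
      haveI : IsAffine ((𝒰 k.1).X k.2) := inferInstanceAs (IsAffine ((pullback f _).affineCover.X _))
      IsAffine.of_isIso (e k).hom
    have hflat : ∀ k, Flat (StMod.bmap 𝒳 (φ k)) := fun k => by
      haveI := hfl k.1
      rw [he k]
      infer_instance
    have hsurj : ∀ p : StMod.sch 𝒳 ξ, ∃ k q, StMod.bmap 𝒳 (φ k) q = p := by
      intro p
      obtain ⟨i, t, ht⟩ := hcov (f p)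
      obtain ⟨z, hz, -⟩ := Scheme.Pullback.exists_preimage_pullback p t ht.symm
      obtain ⟨j, w, rfl⟩ := (𝒰 i).exists_eq z
      obtain ⟨q, rfl⟩ := (e ⟨i, j⟩).hom.surjective w
      exact ⟨⟨i, j⟩, q, by rw [he]; exact hz⟩
    refine sub_eq_zero.1 (eq_zero_of_jointly φ hflat hsurj _ fun k => ?_)
    have hm : ∀ m n : Sec F ξ, F.obj.mapTop (φ k) (m - n) = F.obj.mapTop (φ k) m - F.obj.mapTop (φ k) n :=
      fun m n => map_sub _ m n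
    rw [hm, sub_eq_zero]
    -- the arrow to the member of the cover
    let m0 : StMod.sch (AlgSt.ofSch X) (π.obj (ζ k)) ⟶ (η' k.1).base.left :=
      eqToHom (StMod.sch_obj_eq π (ζ k)) ≫ (e k).hom ≫ (𝒰 k.1).f k.2 ≫ pullback.snd f (η' k.1).sec.down.left
    have hm0 : m0 ≫ (η' k.1).sec.down.left = (π.obj (ζ k)).sec.down.left := by
      have h1 : (π.map (φ k)).hom ≫ (π.obj ξ).sec.down = (π.obj (ζ k)).sec.down :=
        congrArg ULift.down (π.map (φ k)).map_sec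
      have h2 : (π.map (φ k)).hom.left ≫ eqToHom (StMod.sch_obj_eq π ξ) =
          eqToHom (StMod.sch_obj_eq π (ζ k)) ≫ StMod.bmap 𝒳 (φ k) :=
        StMod.bmap_map_comm π (φ k) rfl
      rw [← congrArg (fun m => m.left) h1]
      change m0 ≫ _ = (π.map (φ k)).hom.left ≫ (π.obj ξ).sec.down.left
      have h3 : (π.obj ξ).sec.down.left = eqToHom (StMod.sch_obj_eq π ξ) ≫ f := by simp [f]
      rw [h3, ← Category.assoc, h2, he k]
      simp only [m0, Category.assoc, pullback.condition]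
    let α : π.obj (ζ k) ⟶ η' k.1 := ⟨Over.homMk m0 (by
      have := Over.w (η' k.1).sec.down
      change m0 ≫ (η' k.1).base.hom = (π.obj (ζ k)).base.hom
      rw [← this, ← Category.assoc, hm0]
      exact Over.w (π.obj (ζ k)).sec.down),
      congrArg ULift.up (Over.OverMorphism.ext hm0)⟩
    let x : (StMod.fibCat π (η' k.1)).obj := CostructuredArrow.mk α
    let a' := A.map (𝒳.p.map (φ k)).op a
    have hk : (TwSh.inert F.obj (ζ k) (ι'.hom (ζ k) a')).app ⊤ (F.obj.mapTop (φ k) s) =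
        TwSh.resTop _ ⊤ ((TwSh.charUnit χ (ζ k) a' ^ d)⁻¹).val • F.obj.mapTop (φ k) s := by
      exact (congrArg (fun m => (Scheme.Modules.Hom.app m ⊤) (F.obj.mapTop (φ k) s))
        (TwSh.inert_comap_fibFst π (η' k.1) F.obj x (ι'.hom (ζ k) a') (hι _ _))).symm.trans
        (h k.1 x a' ⊤ (F.obj.mapTop (φ k) s))
    have htop : ∀ {Y : Scheme.{u}} (r : Γ(Y, ⊤)), TwSh.resTop Y ⊤ r = r := fun r => by
      rw [TwSh.resTop, show (homOfLE (le_top : (⊤ : Opens _) ≤ ⊤)).op = 𝟙 _ from rfl]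
      erw [CategoryTheory.Functor.map_id]
      rfl
    rw [htop, TwSh.inert_app_top, ← StMod.Mod.mapTop_comp, ι'.natural (φ k) a, StMod.Mod.mapTop_comp,
      ← TwSh.inert_app_top] at hk
    rw [hk, F.obj.mapTop_smul, hchar]
  intro ξ a U s
  have hmor : TwSh.inert F.obj ξ (ι'.hom ξ a) =
      TwSh.scalarEnd (F.obj.obj ξ) ((TwSh.charUnit χ ξ a ^ d)⁻¹).val := by
    refine H17.AffHom.hom_ext fun V s => ?_
    obtain ⟨ζ, φ, hA, hI, hR⟩ := exists_open_lift hp ξ V.1 V.2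
    have hle : ⊤ ≤ StMod.bmap 𝒳 φ ⁻¹ᵁ V.1 := fun y _ => hR.le ⟨y, rfl⟩
    refine (bijective_res_open φ hle F V.2 hR).1 ?_
    rw [res_inert F.obj φ _ _ (ι'.natural φ a) hle, haff ζ hA, TwSh.scalarEnd_app_apply, res_smul, hchar]
    congr 1
    rw [resFn, TwSh.resTop, ← CommRingCat.comp_apply, Scheme.Hom.map_appLE]
    simp [Scheme.Hom.appLE]
  rw [hmor]
  rfl

end Groth.Agent.H14QCoh
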