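import Groth.Agent.H14QCoh.GerbeDense
import Groth.Agent.H14QCoh.TwLocal

/-!
# Twisted modules on a gerbe with a section
-/

set_option autoImplicit false
set_option linter.style.haveILetI false
set_option backward.isDefEq.respectTransparency false
set_option backward.isDefEq.respectTransparency.types false

universe u

open CategoryTheory CategoryTheory.Limits AlgebraicGeometry Opposite TopologicalSpace

noncomputable section

namespace Groth.Agent.H14QCoh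

open H14Fib H14AlgSt H14Stk

variable {S : Scheme.{u}}

section Char

variable {𝒳 : AlgSt.Cat S} {A : (Over S)ᵒᵖ ⥤ GrpCat.{u}} (χ : A ⟶ TwSh.GmPsh S) (d : ℤ)

/-- The scalar of the twisting. -/
def twScal (ξ : 𝒳.obj) (a : A.obj (op (𝒳.p.obj ξ))) : Fn 𝒳 ξ := ((TwSh.charUnit χ ξ a ^ d)⁻¹).val

lemma twScal_one (ξ : 𝒳.obj) : twScal χ d ξ 1 = 1 := by
  rw [twScal, show TwSh.charUnit χ ξ 1 = 1 from map_one (χ.app (op (𝒳.p.obj ξ))).hom, one_zpow, inv_one]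
  rfl

lemma twScal_mul (ξ : 𝒳.obj) (a b : A.obj (op (𝒳.p.obj ξ))) :
    twScal χ d ξ (a * b) = twScal χ d ξ a * twScal χ d ξ b := by
  have h : TwSh.charUnit χ ξ (a * b) = TwSh.charUnit χ ξ a * TwSh.charUnit χ ξ b :=
    map_mul (χ.app (op (𝒳.p.obj ξ))).hom a b
  rw [twScal, h, mul_zpow, _root_.mul_inv, Units.val_mul]
  rfl

lemma twScal_map {ζ ξ : 𝒳.obj} (φ : ζ ⟶ ξ) (a : A.obj (op (𝒳.p.obj ξ))) :
    twScal χ d ζ (A.map (𝒳.p.map φ).op a) = fnMap φ (twScal χ d ξ a) := by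
  have e : TwSh.charUnit χ ζ (A.map (𝒳.p.map φ).op a) =
      Units.map ((StMod.bmap 𝒳 φ).appTop.hom.toMonoidHom :
        Γ(StMod.sch 𝒳 ξ, ⊤) →* Γ(StMod.sch 𝒳 ζ, ⊤)) (TwSh.charUnit χ ξ a) :=
    congr($(χ.naturality (𝒳.p.map φ).op) a)
  rw [twScal, e, ← map_zpow, ← map_inv]
  rfl

lemma resTop_top {Y : Scheme.{u}} (r : Γ(Y, ⊤)) : TwSh.resTop Y ⊤ r = r := by
  rw [TwSh.resTop, show (homOfLE (le_top : (⊤ : Opens _) ≤ ⊤)).op = 𝟙 _ from rfl]
  erw [CategoryTheory.Functor.map_id]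
  rfl

/-- Twistedness is checked on the global sections over affine objects. -/
theorem isTwisted_of_affine (hp : FibCat.IsFibGrpd 𝒳.p) (ι' : TwSh.BandHom 𝒳 A) (F : StMod.QCoh 𝒳)
    (h : ∀ (ξ : 𝒳.obj), IsAffine (StMod.sch 𝒳 ξ) → ∀ (a : A.obj (op (𝒳.p.obj ξ))) (s : Sec F ξ),
      F.obj.mapTop (ι'.hom ξ a).hom.1 s = twScal χ d ξ a • s) : TwSh.IsTwisted F.obj ι' χ d := by
  intro ξ a U s
  have hmor : TwSh.inert F.obj ξ (ι'.hom ξ a) =
      TwSh.scalarEnd (F.obj.obj ξ) ((TwSh.charUnit χ ξ a ^ d)⁻¹).val := by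
    refine H17.AffHom.hom_ext fun V s => ?_
    obtain ⟨ζ, φ, hA, hI, hR⟩ := exists_open_lift hp ξ V.1 V.2
    have hle : ⊤ ≤ StMod.bmap 𝒳 φ ⁻¹ᵁ V.1 := fun y _ => hR.le ⟨y, rfl⟩
    refine (bijective_res_open φ hle F V.2 hR).1 ?_
    rw [res_inert F.obj φ _ _ (ι'.natural φ a) hle, TwSh.inert_app_top, h ζ hA, TwSh.scalarEnd_app_apply, res_smul,
      twScal_map]
    congr 1
    rw [resFn, TwSh.resTop, ← CommRingCat.comp_apply, Scheme.Hom.map_appLE]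
    simp [twScal, Scheme.Hom.appLE]
  rw [hmor]
  rfl

lemma mapTop_of_isTwisted (ι' : TwSh.BandHom 𝒳 A) {F : StMod.Mod 𝒳} (hF : TwSh.IsTwisted F ι' χ d) (ξ : 𝒳.obj)
    (a : A.obj (op (𝒳.p.obj ξ))) (s : Γ(F.obj ξ, ⊤)) :
    F.mapTop (ι'.hom ξ a).hom.1 s = twScal χ d ξ a • s := by
  rw [← TwSh.inert_app_top, hF ξ a ⊤ s, resTop_top]
  rfl

lemma band_mul {ξ : 𝒳.obj} (ι' : TwSh.BandHom 𝒳 A) (a b : A.obj (op (𝒳.p.obj ξ))) :
    (ι'.hom ξ (a * b)).hom.1 = (ι'.hom ξ b).hom.1 ≫ (ι'.hom ξ a).hom.1 := by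
  rw [map_mul]
  rfl

end Char

section Section

variable {𝒳 : AlgSt.Cat S} {T₀ : Type (u + 1)} [Category.{u} T₀] {P : T₀ ⥤ 𝒳.obj}
  {A : (Over S)ᵒᵖ ⥤ GrpCat.{u}} (χ : A ⟶ TwSh.GmPsh S) (ι' : TwSh.BandHom 𝒳 A) (π : 𝒳 ⥤ᵇ srcCat P)

/-- The decomposition of an arrow between values of a section. -/
theorem exists_decomp (hp : FibCat.IsFibGrpd 𝒳.p) (hπ : TwSh.IsBandedGerbe (QuotSh.J Scheme.fppfPrecoverage S) π ι')
    (e : BasedFunctor.comp (srcMap P) π ≅ BasedFunctor.id (srcCat P))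
    (hset : ∀ {t t' : T₀} (f g : t ⟶ t'), StMod.bmap (srcCat P) f = StMod.bmap (srcCat P) g → f = g)
    {t t' : T₀} (b : P.obj t ⟶ P.obj t') :
    ∃ (f : t ⟶ t') (a : A.obj (op (𝒳.p.obj (P.obj t)))), (ι'.hom (P.obj t) a).hom.1 ≫ P.map f = b := by
  let f : t ⟶ t' := (isoApp e t).inv ≫ π.map b ≫ (isoApp e t').hom
  have hf : StMod.bmap 𝒳 (P.map f) = StMod.bmap 𝒳 b := by
    change StMod.bmap (srcCat P) ((isoApp e t).inv ≫ π.map b ≫ (isoApp e t').hom) = _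
    have h1 : (srcCat P).p.IsHomLift (𝟙 ((srcCat P).p.obj t)) (isoApp e t).inv :=
      BasedNatTrans.isHomLift e.inv rfl
    have h2 : (srcCat P).p.IsHomLift (𝟙 ((srcCat P).p.obj t')) (isoApp e t').hom :=
      BasedNatTrans.isHomLift e.hom rfl
    rw [StMod.bmap_comp, StMod.bmap_comp, bmap_of_lift _ _ h1 rfl (π.w_obj (P.obj t)),
      bmap_of_lift _ _ h2 (π.w_obj (P.obj t')) rfl]
    have h3 := StMod.bmap_map_comm π b rfl
    simp only [Category.assoc, Over.id_left, Category.id_comp]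
    rw [← cancel_epi (eqToHom (StMod.sch_obj_eq π (P.obj t)))]
    simp only [eqToHom_trans_assoc, eqToHom_refl, Category.id_comp]
    refine Eq.trans ?_ h3
    erw [Category.id_comp, eqToHom_trans_assoc, eqToHom_refl, Category.id_comp]
  have hp' : 𝒳.p.map (P.map f) = 𝒳.p.map b := Over.OverMorphism.ext hf
  have hl : 𝒳.p.IsHomLift (𝒳.p.map b) (P.map f) := hp' ▸ inferInstance
  have hlb : 𝒳.p.IsHomLift (𝒳.p.map b) b := inferInstance
  obtain ⟨κ, hκ, hκe⟩ := exists_vertIso hp (𝒳.p.map b) b (P.map f)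
  let α : Gerb.AutO (P.obj t) := autMk κ hκ
  have hα : α.hom.1 = κ.hom := autMk_hom κ hκ
  have hker : π.map α.hom.1 = 𝟙 _ := by
    refine hset _ _ ?_
    rw [StMod.bmap_id, ← cancel_mono (eqToHom (StMod.sch_obj_eq π (P.obj t))), Category.id_comp]
    refine (StMod.bmap_map_comm π α.hom.1 rfl).trans ?_
    rw [TwSh.bmap_autO]
    exact Category.comp_id _
  have hmem : α ∈ (Gerb.autMap π (P.obj t)).ker := by
    rw [MonoidHom.mem_ker]
    exact autO_ext hker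
  rw [← (hπ.2 (P.obj t)).2] at hmem
  obtain ⟨a, ha⟩ := hmem
  exact ⟨f, a, by rw [ha, hα, hκe]⟩

theorem decomp_unique (hp : FibCat.IsFibGrpd 𝒳.p) (hinj : ∀ t : T₀, Function.Injective (ι'.hom (P.obj t)))
    (hset : ∀ {t t' : T₀} (f g : t ⟶ t'), StMod.bmap (srcCat P) f = StMod.bmap (srcCat P) g → f = g)
    {t t' : T₀} {f g : t ⟶ t'} {a c : A.obj (op (𝒳.p.obj (P.obj t)))}
    (h : (ι'.hom (P.obj t) a).hom.1 ≫ P.map f = (ι'.hom (P.obj t) c).hom.1 ≫ P.map g) : f = g ∧ a = c := by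
  have hfg : f = g := by
    refine hset f g ?_
    have := congrArg (StMod.bmap 𝒳) h
    rw [StMod.bmap_comp, StMod.bmap_comp, TwSh.bmap_autO, TwSh.bmap_autO, Category.id_comp,
      Category.id_comp] at this
    exact this
  subst hfg
  refine ⟨rfl, hinj t (autO_ext (hom_ext_bmap hp (P.map f) h ?_))⟩
  rw [TwSh.bmap_autO, TwSh.bmap_autO]

/-- Covers of the objects by values of a section. -/
theorem exists_cov_section (h𝒳 : AlgSt.IsAlgStack Scheme.fppfPrecoverage 𝒳)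
    (h𝒯 : FibCat.IsFibGrpd (srcCat P).p) (hπ : Gerb.IsGerbeOver (QuotSh.J Scheme.fppfPrecoverage S) π)
    (lift : ∀ {x x' : 𝒳.obj} (_ : IsAffine (StMod.sch 𝒳 x)) (b : π.obj x ⟶ π.obj x'),
      ∃ (w : 𝒳.obj) (φ : w ⟶ x) (ψ : w ⟶ x'), IsCov φ ∧ π.map φ ≫ b = π.map ψ)
    (e : BasedFunctor.comp (srcMap P) π ≅ BasedFunctor.id (srcCat P)) (ξ : AObj 𝒳) :
    ∃ (t : AObj (srcCat P)) (g : P.obj t.1 ⟶ ξ.1), IsCov g := by
  let t : T₀ := π.obj ξ.1
  have ht : StMod.sch 𝒳 (P.obj t) = StMod.sch 𝒳 ξ.1 := StMod.sch_obj_eq π ξ.1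
  have hta : IsAffine (StMod.sch 𝒳 (P.obj t)) := ht.symm ▸ ξ.2
  let b : π.obj (P.obj t) ⟶ π.obj ξ.1 := (isoApp e t).hom
  obtain ⟨w, φ, ψ, hφ, hw⟩ := lift hta b
  obtain ⟨t', a, i, ha⟩ := exists_lift (𝒳 := srcCat P) h𝒯 t (StMod.bmap 𝒳 φ)
  obtain ⟨c, hc, hc'⟩ := exists_factor h𝒳.isStack.1 φ (P.map a) i.hom ha.symm
  haveI := hφ.1
  haveI : IsAffine (StMod.sch (srcCat P) t') := IsAffine.of_isIso i.hom
  refine ⟨⟨t', inferInstance⟩, c ≫ ψ, IsCov.comp ⟨‹_›, ?_, ?_⟩ ⟨hφ.1, ?_⟩⟩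
  · rw [hc']
    exact (inferInstanceAs (Flat i.hom))
  · rw [hc']
    exact (inferInstanceAs (Surjective i.hom))
  · have hb : (srcCat P).p.IsHomLift (𝟙 ((srcCat P).p.obj t)) b := BasedNatTrans.isHomLift e.hom rfl
    have h1 := StMod.bmap_map_comm π ψ rfl
    rw [← hw, StMod.bmap_comp, bmap_of_lift _ _ hb (π.w_obj (P.obj t)) rfl] at h1
    have h2 := StMod.bmap_map_comm π φ rfl
    have hψ : StMod.bmap 𝒳 ψ = StMod.bmap 𝒳 φ ≫ eqToHom ht := by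
      rw [← cancel_epi (eqToHom (StMod.sch_obj_eq π w)), ← h1]
      simp only [Category.assoc, Over.id_left, Category.id_comp, eqToHom_trans]
      rw [← Category.assoc (eqToHom _), ← h2, Category.assoc]
      simp
    have := hφ.2.1
    have := hφ.2.2
    rw [hψ]
    exact ⟨inferInstance, inferInstance⟩

variable (hp : FibCat.IsFibGrpd 𝒳.p) (hinj : ∀ t : T₀, Function.Injective (ι'.hom (P.obj t)))
  (hq : FibCat.IsFibGrpd (srcCat P).p)
  (cov : ∀ ξ : AObj 𝒳, ∃ (t : AObj (srcCat P)) (g : P.obj t.1 ⟶ ξ.1), IsCov g)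
  (dec : ∀ {t t' : T₀} (b : P.obj t ⟶ P.obj t'),
    ∃ (f : t ⟶ t') (a : A.obj (op (𝒳.p.obj (P.obj t)))), (ι'.hom (P.obj t) a).hom.1 ≫ P.map f = b)

include hp hq cov dec in
/-- Morphisms of the inverse images of twisted modules come from the modules. -/
theorem exists_hom_of_section {F F' : StMod.QCoh 𝒳} (hF : TwSh.IsTwisted F.obj ι' χ 1)
    (hF' : TwSh.IsTwisted F'.obj ι' χ 1)
    (u : ((StMod.comapQ (srcMap P)).obj F).obj ⟶ ((StMod.comapQ (srcMap P)).obj F').obj) :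
    ∃ f : F.obj ⟶ F'.obj, StMod.Mod.comapMap (srcMap P) f = u := by
  refine exists_hom_of_comap_of_comm (P := P) hp hq cov u fun {x x'} b m => ?_
  obtain ⟨f, a, rfl⟩ := dec b
  apply (srcSec (P := P) F' x.1).injective
  rw [AddEquiv.apply_symm_apply, F.obj.mapTop_comp, mapTop_of_isTwisted χ 1 ι' hF, srcSec_smul, F'.obj.mapTop_comp,
    mapTop_of_isTwisted χ 1 ι' hF', srcSec_smul, ← srcSec_mapTop, ← srcSec_mapTop, AddEquiv.apply_symm_apply]
  refine (Scheme.Modules.Hom.app_smul _ _ _).trans (congrArg _ ?_)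
  exact (StMod.Mod.mapTop_app u f _).symm

include hp hinj hq cov dec in
/-- Every module on the base of a section is the inverse image of a twisted module. -/
theorem exists_twisted_of_section
    (hset : ∀ {t t' : T₀} (f g : t ⟶ t'), StMod.bmap (srcCat P) f = StMod.bmap (srcCat P) g → f = g)
    (M : StMod.QCoh (srcCat P)) :
    ∃ G : StMod.QCoh 𝒳, TwSh.IsTwisted G.obj ι' χ 1 ∧ Nonempty ((StMod.comapQ (srcMap P)).obj G ≅ M) := by
  choose f a hfa using fun (t t' : AObj (srcCat P)) (b : P.obj t.1 ⟶ P.obj t'.1) => dec b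
  have huniq : ∀ {t t' : AObj (srcCat P)} (b : P.obj t.1 ⟶ P.obj t'.1) (g : t.1 ⟶ t'.1)
      (c : A.obj (op (𝒳.p.obj (P.obj t.1)))), (ι'.hom (P.obj t.1) c).hom.1 ≫ P.map g = b →
      f t t' b = g ∧ a t t' b = c := fun {t t'} b g c h =>
    decomp_unique ι' hp hinj hset ((hfa t t' b).trans h.symm)
  let sc : ∀ (t : AObj (srcCat P)), A.obj (op (𝒳.p.obj (P.obj t.1))) → Fn (srcCat P) t.1 := fun t c =>
    twScal χ 1 (P.obj t.1) c
  let D : DenseData P :=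
    { hp := hp
      hq := hq
      F := M
      cov := cov
      B := fun {t t'} b => AddMonoidHom.mk' (fun m => sc t (a t t' b) • M.obj.mapTop (f t t' b) m) fun m m' => by
        rw [M.obj.mapTop_add, smul_add]
      B_smul := fun {t t'} b r m => by
        change sc t (a t t' b) • M.obj.mapTop (f t t' b) (r • m) = fnb P b r • (sc t (a t t' b) • M.obj.mapTop (f t t' b) m)
        rw [M.obj.mapTop_smul, smul_comm]
        refine congrArg (· • _) ?_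
        change fnMap (𝒳 := 𝒳) (P.map (f t t' b)) r = fnMap (𝒳 := 𝒳) b r
        conv_rhs => rw [← hfa t t' b]
        rw [fnMap_comp]
        change _ = (StMod.bmap 𝒳 (ι'.hom (P.obj t.1) (a t t' b)).hom.1).appTop _
        rw [TwSh.bmap_autO]
        rfl
      B_map := fun {t t'} φ m => by
        obtain ⟨h1, h2⟩ := huniq (P.map φ) φ 1 (by rw [map_one]; exact Category.id_comp _)
        change sc t (a t t' (P.map φ)) • M.obj.mapTop (f t t' (P.map φ)) m = _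
        rw [h1, h2]
        exact (congrArg (fun r : Fn (srcCat P) t.1 => r • M.obj.mapTop φ m) (twScal_one χ 1 (P.obj t.1))).trans
          (one_smul _ _)
      B_comp := fun {t t' t''} b b' m => by
        obtain ⟨h1, h2⟩ := huniq (b ≫ b') (f t t' b ≫ f t' t'' b')
          (A.map (𝒳.p.map (P.map (f t t' b))).op (a t' t'' b') * a t t' b) (by
          rw [band_mul, Category.assoc, P.map_comp, ← Category.assoc _ (P.map (f t t' b)), ι'.natural,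
            Category.assoc, hfa t' t'' b', ← Category.assoc, hfa t t' b])
        change sc t (a t t'' (b ≫ b')) • M.obj.mapTop (f t t'' (b ≫ b')) m =
          sc t (a t t' b) • M.obj.mapTop (f t t' b) (sc t' (a t' t'' b') • M.obj.mapTop (f t' t'' b') m)
        rw [h1, h2, M.obj.mapTop_smul, ← M.obj.mapTop_comp, smul_smul]
        refine congrArg (fun r : Fn (srcCat P) t.1 => r • M.obj.mapTop (f t t' b ≫ f t' t'' b') m) ?_
        exact (twScal_mul χ 1 (P.obj t.1) _ _).trans ((mul_comm _ _).trans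
          (congrArg (fun r => sc t (a t t' b) * r) (twScal_map χ 1 (P.map (f t t' b)) (a t' t'' b')))) }
  refine ⟨D.G, isTwisted_of_affine χ 1 hp ι' D.G fun ξ hξ c s => ?_, ?_⟩
  · obtain ⟨t, g, hg⟩ := cov ⟨ξ, hξ⟩
    haveI := hξ
    refine injective_mapTop_cov (F := D.G) hg ?_
    rw [← D.G.obj.mapTop_comp, ← ι'.natural g c, D.G.obj.mapTop_comp, D.G.obj.mapTop_smul]
    let c' := A.map (𝒳.p.map g).op c
    refine Eq.trans ?_ (congrArg (· • D.G.obj.mapTop g s) (twScal_map χ 1 g c))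
    apply (D.bijective_val t).1
    rw [D.val_mapTop (y' := img P t) (y := img P t), D.val_smul (y := img P t)]
    obtain ⟨h1, h2⟩ := huniq (t := t) (t' := t) (ι'.hom (P.obj t.1) c').hom.1 (𝟙 t.1) c'
      (by rw [P.map_id]; exact Category.comp_id _)
    have e1 := (D.B_val (y := img P t) (x' := t) (x := t) (ι'.hom (P.obj t.1) c').hom.1 (𝟙 _)
      (D.G.obj.mapTop g s)).symm
    rw [Category.comp_id] at e1
    rw [Category.id_comp]
    refine e1.trans ?_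
    change sc t (a t t (ι'.hom (P.obj t.1) c').hom.1) •
      M.obj.mapTop (f t t (ι'.hom (P.obj t.1) c').hom.1) (D.val (y := img P t) (x := t) (𝟙 _)
        (D.G.obj.mapTop g s)) = _
    rw [h1, h2, M.obj.mapTop_id]
    exact congrArg (· • _) (fnMap_id (𝒳 := 𝒳) _ _).symm
  · obtain ⟨I, -⟩ := D.exists_iso
    exact ⟨(StMod.isQCoh (srcCat P)).isoMk I.symm⟩

end Section

/-- Inverse image along a section of a gerbe over a category of sets identifies twisted modules with modules. -/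
theorem isEquivalence_twQCoh_section {𝒳 𝒯 : AlgSt.Cat S} (h𝒳 : AlgSt.IsAlgStack Scheme.fppfPrecoverage 𝒳)
    (h𝒯 : AlgSt.IsAlgStack Scheme.fppfPrecoverage 𝒯) {A : (Over S)ᵒᵖ ⥤ GrpCat.{u}} (χ : A ⟶ TwSh.GmPsh S)
    (π : 𝒳 ⥤ᵇ 𝒯) (ι' : TwSh.BandHom 𝒳 A) (hπ : TwSh.IsBandedGerbe (QuotSh.J Scheme.fppfPrecoverage S) π ι')
    (σ : 𝒯 ⥤ᵇ 𝒳) (e : BasedFunctor.comp σ π ≅ BasedFunctor.id 𝒯)
    (hset : ∀ {t t' : 𝒯.obj} (f g : t ⟶ t'), StMod.bmap 𝒯 f = StMod.bmap 𝒯 g → f = g) :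
    ((TwSh.isTwistedQ 𝒳 ι' χ 1).ι ⋙ StMod.comapQ σ).IsEquivalence := by
  obtain @⟨T0, inst, p⟩ := 𝒯
  obtain ⟨P, w⟩ := σ
  revert π e hset
  change T0 ⥤ 𝒳.obj at P
  change P ⋙ 𝒳.p = p at w
  subst w
  intro π hπ hset e
  have lift : ∀ {x x' : 𝒳.obj} (_ : IsAffine (StMod.sch 𝒳 x)) (b : π.obj x ⟶ π.obj x'),
      ∃ (w : 𝒳.obj) (φ : w ⟶ x) (ψ : w ⟶ x'), IsCov φ ∧ π.map φ ≫ b = π.map ψ :=
    fun hx b => exists_lift_of_gerbe h𝒳 h𝒯 hπ.1 hx b
  have cov := exists_cov_section (P := P) π h𝒳 h𝒯.isStack.1 hπ.1 lift e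
  have dec : ∀ {t t' : T0} (b : P.obj t ⟶ P.obj t'),
      ∃ (f : t ⟶ t') (a : A.obj (op (𝒳.p.obj (P.obj t)))), (ι'.hom (P.obj t) a).hom.1 ≫ P.map f = b :=
    fun b => exists_decomp (P := P) ι' π h𝒳.isStack.1 hπ e hset b
  refine { faithful := ?_, full := ?_, essSurj := ?_ }
  · refine ⟨fun {F F' f g} h => ObjectProperty.hom_ext _ (ObjectProperty.hom_ext _ ?_)⟩
    exact hom_ext_of_comap (P := P) h𝒳.isStack.1 cov (congrArg (fun t => t.hom) h)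
  · refine ⟨fun {F F'} u => ?_⟩
    obtain ⟨f, hf⟩ := exists_hom_of_section (P := P) χ ι' h𝒳.isStack.1 h𝒯.isStack.1 cov dec F.property
      F'.property u.hom
    exact ⟨⟨⟨f⟩⟩, ObjectProperty.hom_ext _ hf⟩
  · refine ⟨fun M => ?_⟩
    obtain ⟨G, hG, hI⟩ := exists_twisted_of_section (P := P) χ ι' h𝒳.isStack.1 (fun t => (hπ.2 _).1) h𝒯.isStack.1 cov dec hset M
    exact ⟨⟨G, hG⟩, hI⟩

/-- Every module on the source of a functor with covers by values and decomposed arrows is the inverse image of a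
twisted module. -/
theorem exists_twisted_of_functor {𝒵 𝒯 : AlgSt.Cat S} (h𝒵 : FibCat.IsFibGrpd 𝒵.p) (h𝒯 : FibCat.IsFibGrpd 𝒯.p)
    {A : (Over S)ᵒᵖ ⥤ GrpCat.{u}} (χ : A ⟶ TwSh.GmPsh S) (ι' : TwSh.BandHom 𝒵 A) (σ : 𝒯 ⥤ᵇ 𝒵)
    (hinj : ∀ t, Function.Injective (ι'.hom (σ.obj t)))
    (cov : ∀ z : AObj 𝒵, ∃ (t : AObj 𝒯) (g : σ.obj t.1 ⟶ z.1), IsCov g)
    (dec : ∀ {t t' : 𝒯.obj} (b : σ.obj t ⟶ σ.obj t'),
      ∃ (f : t ⟶ t') (a : A.obj (op (𝒵.p.obj (σ.obj t)))), (ι'.hom (σ.obj t) a).hom.1 ≫ σ.map f = b)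
    (hset : ∀ {t t' : 𝒯.obj} (f g : t ⟶ t'), StMod.bmap 𝒯 f = StMod.bmap 𝒯 g → f = g) (M : StMod.QCoh 𝒯) :
    ∃ G : StMod.QCoh 𝒵, TwSh.IsTwisted G.obj ι' χ 1 ∧ Nonempty ((StMod.comapQ σ).obj G ≅ M) := by
  obtain @⟨T0, inst, p⟩ := 𝒯
  obtain ⟨P, w⟩ := σ
  revert cov dec hset M hinj
  change T0 ⥤ 𝒵.obj at P
  change P ⋙ 𝒵.p = p at w
  subst w
  intro hset M hinj cov dec
  exact exists_twisted_of_section (P := P) χ ι' h𝒵 hinj h𝒯 cov dec hset M

end Groth.Agent.H14QCoh
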